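import Mathlib
import Cfsg.Agent.Lib.Invol.Order443520.Block

/-!
Order 244823040 with the element counts of `M₂₄`: the local data and the principal blocks.
-/

set_option autoImplicit false
set_option linter.style.haveILetI false
set_option linter.unusedSectionVars false

namespace Cfsg.Agent.Fus.M24Nse

open Cfsg Cfsg.Agent.Block Cfsg.Agent.Char Cfsg.Agent.Invol.M12Ord
open Cfsg.Agent.Invol.M22Ord (PBlk exists_pblk exists_gen)

universe u

variable {G : Type u} [Group G] [Finite G]

/-- The first local data: the centralizers at 23, 11, 7 and the normalizer at 5. -/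
structure Counts (G : Type u) [Group G] [Finite G] : Prop where
  card : Nat.card G = 244823040
  c23 : ∀ x : G, orderOf x = 23 → cn x = 23
  c11 : ∀ x : G, orderOf x = 11 → cn x = 11
  c7 : ∀ x : G, orderOf x = 7 → cn x = 42
  n5 : ∀ P : Sylow 5 G, Nat.card (Subgroup.normalizer ((P : Subgroup G) : Set G)) = 240

/-- All local data: also the centralizers at 5 and their elements of orders two and three. -/
structure Local (G : Type u) [Group G] [Finite G] : Prop extends Counts G where
  c5 : ∀ x : G, orderOf x = 5 → cn x = 60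
  inv5 : ∀ x : G, orderOf x = 5 →
    Nat.card {g : G // x * g = g * x ∧ orderOf g = 2} = 3 ∧ Nat.card {g : G // x * g = g * x ∧ orderOf g = 3} = 8
  inv7 : ∀ x : G, orderOf x = 7 →
    Nat.card {g : G // x * g = g * x ∧ orderOf g = 2} = 3 ∧ Nat.card {g : G // x * g = g * x ∧ orderOf g = 3} = 2

variable [IsSimpleGroup G]

theorem not_comm (hG : Nat.card G = 244823040) : ¬ IsMulCommutative G := fun h => by
  have h1 := card_prime_of_simple_of_comm (G := G) fun a b => h.1.1 a b
  rw [hG] at h1
  norm_num at h1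

/-- The principal block at a prime with known centralizers. -/
theorem exists_blk (hG : Nat.card G = 244823040) {p c e m : ℕ} [Fact p.Prime] (hm : 244823040 = p * m)
    (hpm : ¬ p ∣ m) (hodd : p ≠ 2) (hcn : ∀ x : G, orderOf x = p → cn x = p * c)
    (huniq : ∀ f ∈ Nat.divisors (p - 1), 1 < f → c * f % p = m % p → f = e) :
    ∃ B : PBlk G p e, Nat.card B.C = p * c ∧ (e + 1 = p → ∀ χ ∈ B.X, dg χ ≤ dg B.y) := by
  have hp : p.Prime := Fact.out
  have hna := not_comm hG
  obtain ⟨P⟩ : Nonempty (Sylow p G) := inferInstance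
  have hP := OrdP.card_sylow_eq (m := m) (hG.trans hm) hpm P
  obtain ⟨f, k, -, -, hf, hf1, hfp, -, hprod⟩ := OrdP.exists_e hna (hG.trans hm) hpm P
  obtain ⟨x, -, -, hx, -, hxC⟩ := exists_gen P hP
  have hC : Nat.card (Subgroup.centralizer ((P : Subgroup G) : Set G)) = p * c := hxC ▸ hcn x hx
  rw [hC, mul_assoc, mul_assoc] at hprod
  have hprod' := Nat.eq_of_mul_eq_mul_left hp.pos hprod
  have hmod : c * f % p = m % p := by
    rw [← hprod', show c * (f * (p * k + 1)) = c * f + p * (c * f * k) by ring, Nat.add_mul_mod_self_left]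
  obtain rfl := huniq f (Nat.mem_divisors.2 ⟨hfp, by have := hp.two_le; omega⟩) hf1 hmod
  obtain ⟨B, hB, hmax⟩ := exists_pblk hna hodd P hP hf hf1 hfp
  exact ⟨B, by rw [PBlk.C, hB]; exact hC, hmax⟩

theorem blk23 (L : Counts G) [Fact (Nat.Prime 23)] : ∃ B : PBlk G 23 11, Nat.card B.C = 23 := by
  obtain ⟨B, hB, -⟩ := exists_blk L.card (p := 23) (c := 1) (e := 11) (m := 10644480) (by norm_num)
    (by norm_num) (by norm_num) (fun x hx => (L.c23 x hx).trans (by norm_num)) (by decide +kernel)
  exact ⟨B, hB.trans (by norm_num)⟩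

theorem blk11 (L : Counts G) [Fact (Nat.Prime 11)] : ∃ B : PBlk G 11 10, Nat.card B.C = 11 := by
  obtain ⟨B, hB, -⟩ := exists_blk L.card (p := 11) (c := 1) (e := 10) (m := 22256640) (by norm_num)
    (by norm_num) (by norm_num) (fun x hx => (L.c11 x hx).trans (by norm_num)) (by decide +kernel)
  exact ⟨B, hB.trans (by norm_num)⟩

theorem blk7 (L : Counts G) [Fact (Nat.Prime 7)] : ∃ B : PBlk G 7 3, Nat.card B.C = 42 := by
  obtain ⟨B, hB, -⟩ := exists_blk L.card (p := 7) (c := 6) (e := 3) (m := 34974720) (by norm_num)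
    (by norm_num) (by norm_num) (fun x hx => (L.c7 x hx).trans (by norm_num)) (by decide +kernel)
  exact ⟨B, hB.trans (by norm_num)⟩

theorem blk5 (L : Counts G) [Fact (Nat.Prime 5)] (h5 : ∀ x : G, orderOf x = 5 → cn x = 60) :
    ∃ B : PBlk G 5 4, Nat.card B.C = 60 ∧ ∀ χ ∈ B.X, dg χ ≤ dg B.y := by
  obtain ⟨B, hB, hmax⟩ := exists_blk L.card (p := 5) (c := 12) (e := 4) (m := 48964608) (by norm_num)
    (by norm_num) (by norm_num) (fun x hx => (h5 x hx).trans (by norm_num)) (by decide +kernel)
  exact ⟨B, hB.trans (by norm_num), hmax (by norm_num)⟩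

/-- The possible degrees modulo 23 and modulo 11. -/
theorem deg_mod (L : Counts G) [Fact (Nat.Prime 23)] [Fact (Nat.Prime 11)] {χ : IrrCharacter G}
    (h0 : χ ≠ trivialIrr G) :
    dg χ % 23 ∈ [0, 1, 22, 11, 12] ∧ dg χ % 11 ∈ [0, 1, 10] := by
  obtain ⟨A, hA⟩ := blk23 L
  obtain ⟨B, hB⟩ := blk11 L
  simp only [List.mem_cons, List.not_mem_nil, or_false]
  constructor
  · by_cases hX : χ ∈ A.X
    · have hd := A.deg_X χ hX
      rcases A.s_sign χ hX with hs | hs <;> rw [hs] at hd <;> omega
    by_cases hY : χ ∈ A.Y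
    · have hd := A.deg_Y χ hY
      rcases A.ε_sign with hs | hs <;> rw [hs] at hd <;> omega
    have := A.out hA χ h0 hX hY
    omega
  · by_cases hX : χ ∈ B.X
    · have hd := B.deg_X χ hX
      rcases B.s_sign χ hX with hs | hs <;> rw [hs] at hd <;> omega
    by_cases hY : χ ∈ B.Y
    · have hd := B.deg_Y χ hY
      rcases B.ε_sign with hs | hs <;> rw [hs] at hd <;> omega
    have := B.out hB χ h0 hX hY
    omega

end Cfsg.Agent.Fus.M24Nse
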