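import Mathlib
import Cfsg.Agent.Lib.Fus.M24Nse.Base
import Cfsg.Agent.Lib.Invol.Order95040.SameCounts

/-!
Order 244823040 with the element counts of `M₂₄`: the sections of the elements of orders five and seven.
-/

set_option autoImplicit false
set_option linter.style.haveILetI false
set_option linter.unusedSectionVars false

namespace Cfsg.Agent.Fus.M24Nse

open Cfsg Cfsg.Agent.Block Cfsg.Agent.Char Cfsg.Agent.Invol.M12Ord
open Cfsg.Agent.Invol.M22Ord (PBlk exists_pblk exists_gen)

universe u

section Abstract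

variable {H : Type u} [Group H] [Finite H]

theorem cn_class (g : H) : {x : H | IsConj x g}.ncard * cn g = Nat.card H := ncard_class g

theorem class_subset {g : H} {n : ℕ} (hg : orderOf g = n) :
    {x : H | IsConj x g} ⊆ {x : H | orderOf x = n} := fun x hx => by
  obtain ⟨c, hc⟩ := _root_.isConj_iff.1 (show IsConj x g from hx)
  show orderOf x = n
  rw [← hg, ← hc, ← MulAut.conj_apply, MulEquiv.orderOf_eq]

theorem ncard_order (n : ℕ) : {x : H | orderOf x = n}.ncard = ocnt H n := (Nat.card_coe_set_eq _).symm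

theorem mul_two {a b : H} (ha : orderOf a = 2) (hb : orderOf b = 2) (hc : Commute a b) (hne : a ≠ b) :
    orderOf (a * b) = 2 := by
  have h : ∀ x : H, orderOf x = 2 → x * x = 1 := fun x hx => by rw [← sq, ← hx, pow_orderOf_eq_one]
  refine orderOf_eq_prime ?_ fun e => hne ?_
  · rw [hc.mul_pow, sq, sq, h a ha, h b hb, one_mul]
  · calc a = a * b * b := by rw [mul_assoc, h b hb, mul_one]
      _ = b := by rw [e, one_mul]

/-- The group `5 × A₄`, given by its order and two counts. -/
theorem sixty {u : H} (hu : orderOf u = 5) (hz : ∀ g : H, u * g = g * u) (hH : Nat.card H = 60)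
    (h2 : ocnt H 2 = 3) (h3 : ocnt H 3 = 8) :
    (∀ w : H, orderOf w = 3 → cn w = 15 ∧ ¬ IsConj w w⁻¹) ∧
    (∀ t : H, orderOf t = 2 → cn t = 20 ∧ ∀ t' : H, orderOf t' = 2 → IsConj t' t) ∧
    ∀ t t' : H, orderOf t = 2 → orderOf t' = 2 → t' ≠ t → orderOf (t' * t) = 2 := by
  classical
  haveI : Fact (Nat.Prime 3) := ⟨by norm_num⟩
  have h5 : ∀ g : H, 5 ∣ cn g := fun g => hu ▸ orderOf_dvd_cn (hz g)
  have hfac : (Nat.card H).factorization 3 = 1 := by
    rw [hH, show (60 : ℕ) = 3 * 20 by norm_num, Nat.factorization_mul (by norm_num) (by norm_num),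
      Finsupp.add_apply, (by norm_num : Nat.Prime 3).factorization_self,
      Nat.factorization_eq_zero_of_not_dvd (by norm_num : ¬ 3 ∣ 20)]
  have hw : ∀ w : H, orderOf w = 3 → cn w = 15 ∧ ¬ IsConj w w⁻¹ := by
    intro w hw
    let P : Sylow 3 H := Sylow.ofCard (Subgroup.zpowers w) (by rw [Nat.card_zpowers, hw, hfac, pow_one])
    have hs := ocnt_sylow (G := H) hfac
    rw [h3, P.card_eq_index_normalizer] at hs
    set N := Subgroup.normalizer ((P : Subgroup H) : Set H) with hN
    have hc := N.card_mul_index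
    change 8 = N.index * (3 - 1) at hs
    rw [hH, show N.index = 4 by omega] at hc
    have hNc : Nat.card N = 15 := by omega
    have hle : Subgroup.centralizer ({w} : Set H) ≤ N := by
      rw [← Subgroup.centralizer_closure, ← Subgroup.zpowers_eq_closure]
      exact Subgroup.centralizer_le_normalizer _
    have h15 : 15 ∣ cn w := (by norm_num : Nat.Coprime 5 3).mul_dvd_of_dvd_of_dvd (h5 w)
      (hw ▸ orderOf_dvd_cn (rfl : w * w = w * w))
    have hle' := Nat.le_of_dvd (by omega) (Subgroup.card_dvd_of_le hle)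
    have hcn : cn w = 15 := by
      have := Nat.le_of_dvd (cn_pos w) h15
      rw [hNc] at hle'
      exact le_antisymm hle' this
    refine ⟨hcn, fun hconj => ?_⟩
    obtain ⟨g, hg⟩ := _root_.isConj_iff.1 hconj
    have hgN : g ∈ N := by
      refine Subgroup.mem_normalizer_iff.2 fun x => ⟨fun hx => ?_, fun hx => ?_⟩
      · obtain ⟨i, rfl⟩ := Subgroup.mem_zpowers_iff.1 (show x ∈ Subgroup.zpowers w from hx)
        show g * w ^ i * g⁻¹ ∈ Subgroup.zpowers w
        rw [← conj_zpow, hg]
        exact zpow_mem (inv_mem (Subgroup.mem_zpowers w)) i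
      · obtain ⟨i, hi⟩ := Subgroup.mem_zpowers_iff.1 (show g * x * g⁻¹ ∈ Subgroup.zpowers w from hx)
        show x ∈ Subgroup.zpowers w
        rw [show x = w⁻¹ ^ i by
          have h' : g * (w⁻¹) ^ i * g⁻¹ = g * x * g⁻¹ := by
            rw [← conj_zpow, show g * w⁻¹ * g⁻¹ = (g * w * g⁻¹)⁻¹ by group, hg, inv_inv, hi]
          exact (mul_left_cancel (mul_right_cancel h')).symm]
        exact zpow_mem (inv_mem (Subgroup.mem_zpowers w)) i
    have hgC : g ∈ Subgroup.centralizer ({w} : Set H) :=
      (Subgroup.eq_of_le_of_card_ge hle (by rw [hNc]; exact hcn.ge)).symm ▸ hgN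
    rw [Subgroup.mem_centralizer_singleton_iff.1 hgC, mul_inv_cancel_right] at hg
    have := orderOf_dvd_of_pow_eq_one (show w ^ 2 = 1 by rw [sq]; nth_rewrite 2 [hg]; exact mul_inv_cancel w)
    rw [hw] at this
    norm_num at this
  have ht : ∀ t : H, orderOf t = 2 → cn t = 20 ∧ ∀ t' : H, orderOf t' = 2 → IsConj t' t := by
    intro t ht
    have hcl := cn_class t
    have hsub := class_subset ht
    have hle := Set.ncard_le_ncard hsub (Set.toFinite _)
    rw [ncard_order, h2] at hle
    rw [hH] at hcl
    set k := {x : H | IsConj x t}.ncard with hk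
    have hno : ¬ 3 ∣ cn t := fun h => by
      obtain ⟨w, hw'⟩ := exists_prime_orderOf_dvd_card' (G := Subgroup.centralizer ({t} : Set H)) 3 h
      rw [← Subgroup.orderOf_coe] at hw'
      have h2' : 2 ∣ cn (w : H) := ht ▸ orderOf_dvd_cn (Subgroup.mem_centralizer_singleton_iff.1 w.2).symm
      rw [(hw _ hw').1] at h2'
      norm_num at h2'
    have hk3 : k = 3 := by
      interval_cases k
      · omega
      · exact absurd (show 3 ∣ cn t by omega) hno
      · exact absurd (show 3 ∣ cn t by omega) hno
      · rfl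
    refine ⟨by rw [hk3] at hcl; omega, fun t' ht' => ?_⟩
    have heq := Set.eq_of_subset_of_ncard_le hsub (by rw [ncard_order, h2]; exact hk3.ge) (Set.toFinite _)
    exact (heq.symm ▸ (show t' ∈ {x : H | orderOf x = 2} from ht') : t' ∈ {x : H | IsConj x t})
  refine ⟨hw, ht, fun t t' ho ho' hne => mul_two ho' ho ?_ hne⟩
  -- the centralizer of `t` moves the other two involutions among themselves
  obtain ⟨h20, hall⟩ := ht t ho
  by_contra hcom
  set S : Set H := {x : H | orderOf x = 2} \ {t} with hS
  have hScard : S.ncard = 2 := by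
    rw [hS, Set.ncard_sdiff_singleton_of_mem (show t ∈ {x : H | orderOf x = 2} from ho), ncard_order, h2]
  let f : Subgroup.centralizer ({t} : Set H) → S := fun g => ⟨(g : H) * t' * (g : H)⁻¹, by
    refine ⟨?_, fun e => hne ?_⟩
    · show orderOf _ = 2
      rw [← MulAut.conj_apply, MulEquiv.orderOf_eq]; exact ho'
    · have e' : (g : H) * t' * (g : H)⁻¹ = (g : H) * t * (g : H)⁻¹ := by
        rw [show (g : H) * t * (g : H)⁻¹ = t by
          rw [Subgroup.mem_centralizer_singleton_iff.1 g.2, mul_inv_cancel_right]]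
        exact e
      exact mul_left_cancel (mul_right_cancel e')⟩
  -- two elements of the centralizer with the same image
  obtain ⟨g, hgt, hgt', hg1, hg5⟩ : ∃ g : H, g * t = t * g ∧ g * t' = t' * g ∧ g ≠ 1 ∧ orderOf g = 2 := by
    set K := Subgroup.centralizer ({t} : Set H) ⊓ Subgroup.centralizer ({t'} : Set H) with hK
    have hKc : 2 ∣ Nat.card K := by
      by_contra hodd
      haveI := Fintype.ofFinite H
      have hfib : ∀ s : S, Nat.card {g : Subgroup.centralizer ({t} : Set H) // f g = s} ≤ Nat.card K := by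
        intro s
        by_cases hs : Nonempty {g : Subgroup.centralizer ({t} : Set H) // f g = s}
        · obtain ⟨g₀⟩ := hs
          refine Nat.card_le_card_of_injective (fun g => (⟨((g₀.1 : H))⁻¹ * (g.1 : H), ?_⟩ : K)) ?_
          · refine Subgroup.mem_inf.2 ⟨mul_mem (inv_mem g₀.1.2) g.1.2, Subgroup.mem_centralizer_singleton_iff.2 ?_⟩
            have e : (g.1 : H) * t' * (g.1 : H)⁻¹ = (g₀.1 : H) * t' * (g₀.1 : H)⁻¹ :=
              congrArg Subtype.val (g.2.trans g₀.2.symm)
            calc (g₀.1 : H)⁻¹ * (g.1 : H) * t' = (g₀.1 : H)⁻¹ * ((g.1 : H) * t' * (g.1 : H)⁻¹) * (g.1 : H) := by group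
              _ = t' * ((g₀.1 : H)⁻¹ * (g.1 : H)) := by rw [e]; group
          · intro a b hab
            exact Subtype.ext (Subtype.ext (mul_left_cancel (congrArg Subtype.val hab)))
        · rw [not_nonempty_iff] at hs
          simp
      have hsum : Nat.card (Subgroup.centralizer ({t} : Set H)) ≤ 2 * Nat.card K := by
        haveI := Fintype.ofFinite S
        rw [Nat.card_congr (Equiv.sigmaFiberEquiv f).symm, Nat.card_sigma]
        refine le_trans (Finset.sum_le_sum fun s _ => hfib s) ?_
        rw [Finset.sum_const, Finset.card_univ, smul_eq_mul, ← Nat.card_eq_fintype_card, Nat.card_coe_set_eq,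
          hScard]
      have hd : Nat.card K ∣ 20 := h20 ▸ Subgroup.card_dvd_of_le inf_le_left
      rw [show Nat.card (Subgroup.centralizer ({t} : Set H)) = 20 from h20] at hsum
      have := Nat.le_of_dvd (by norm_num) hd
      interval_cases Nat.card K <;> omega
    haveI : Fact (Nat.Prime 2) := ⟨Nat.prime_two⟩
    obtain ⟨g, hg⟩ := exists_prime_orderOf_dvd_card' (G := K) 2 hKc
    rw [← Subgroup.orderOf_coe] at hg
    obtain ⟨g1, g2⟩ := Subgroup.mem_inf.1 g.2
    exact ⟨g, Subgroup.mem_centralizer_singleton_iff.1 g1, Subgroup.mem_centralizer_singleton_iff.1 g2,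
      ne_one_of_orderOf hg (by norm_num), hg⟩
  rcases eq_or_ne g t with rfl | hgt1
  · exact hcom hgt'.symm
  rcases eq_or_ne g t' with rfl | hgt2
  · exact hcom hgt
  -- then the third involution is their product
  have htg : orderOf (t * g) = 2 := mul_two ho hg5 hgt.symm hgt1.symm
  have hall3 : t * g = t' := by
    by_contra hne'
    have hsub : ({t, t', g, t * g} : Set H) ⊆ {x : H | orderOf x = 2} := by
      intro x hx
      simp only [Set.mem_insert_iff, Set.mem_singleton_iff] at hx
      rcases hx with rfl | rfl | rfl | rfl <;> assumption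
    have h4 : ({t, t', g, t * g} : Set H).ncard = 4 := by
      have e1 : t ≠ t * g := fun e => hg1 (mul_left_cancel (e.symm.trans (mul_one t).symm))
      have e2 : g ≠ t * g := fun e => ne_one_of_orderOf ho (by norm_num) (mul_right_cancel (e.symm.trans (one_mul g).symm))
      rw [Set.ncard_insert_of_notMem (by simp [hne.symm, hgt1.symm, e1]),
        Set.ncard_insert_of_notMem (by simp [hgt2.symm, Ne.symm hne']), Set.ncard_pair e2]
    have := Set.ncard_le_ncard hsub (Set.toFinite _)
    rw [h4, ncard_order, h2] at this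
    omega
  apply hcom
  rw [← hall3]
  exact (Commute.mul_left (Commute.refl t) hgt)

/-- The group `7 × S₃`, given by its order and two counts. -/
theorem fortyTwo {u : H} (hu : orderOf u = 7) (hz : ∀ g : H, u * g = g * u) (hH : Nat.card H = 42)
    (h2 : ocnt H 2 = 3) (h3 : ocnt H 3 = 2) :
    (∀ w : H, orderOf w = 3 → cn w = 21 ∧ ∀ w' : H, orderOf w' = 3 → IsConj w' w) ∧
    (∀ t : H, orderOf t = 2 → cn t = 14 ∧ ∀ t' : H, orderOf t' = 2 → IsConj t' t) ∧
    (∀ t t' : H, orderOf t = 2 → orderOf t' = 2 → t' ≠ t → orderOf (t' * t) = 3) ∧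
    ∀ t w : H, orderOf t = 2 → orderOf w = 3 → orderOf (t * w) = 2 := by
  classical
  haveI : Fact (Nat.Prime 3) := ⟨by norm_num⟩
  have h7 : ∀ g : H, 7 ∣ cn g := fun g => hu ▸ orderOf_dvd_cn (hz g)
  have hinv : ∀ w : H, orderOf w = 3 → {x : H | orderOf x = 3} = {w, w⁻¹} := by
    intro w hw
    symm
    refine Set.eq_of_subset_of_ncard_le ?_ ?_ (Set.toFinite _)
    · rintro x (rfl | rfl)
      · exact hw
      · exact (orderOf_inv w).trans hw
    · rw [ncard_order, h3, Set.ncard_pair]
      intro e
      have := orderOf_dvd_of_pow_eq_one (show w ^ 2 = 1 by rw [sq]; nth_rewrite 2 [e]; exact mul_inv_cancel w)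
      rw [hw] at this
      norm_num at this
  -- no involution centralises an element of order three
  have hnc : ∀ t w : H, orderOf t = 2 → orderOf w = 3 → t * w ≠ w * t := by
    intro t w ht hw hc
    have h42 : ∀ t' : H, orderOf t' = 2 → t' * w = w * t' → cn t' = 42 := fun t' ht' hc' => by
      have hd : 42 ∣ cn t' := by
        have a := ht' ▸ orderOf_dvd_cn (rfl : t' * t' = t' * t')
        have b := hw ▸ orderOf_dvd_cn (show w * t' = t' * w from hc'.symm)
        have c := h7 t'
        omega
      have := Nat.le_of_dvd (cn_pos t') hd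
      have := Nat.le_of_dvd (by norm_num) (hH ▸ cn_dvd_card t')
      omega
    have ht42 := h42 t ht hc
    obtain ⟨t', ht', hne⟩ : ∃ t' : H, orderOf t' = 2 ∧ t' ≠ t := by
      by_contra hno
      push Not at hno
      have hsub : {x : H | orderOf x = 2} ⊆ {t} := fun x hx => hno x hx
      have := Set.ncard_le_ncard hsub (Set.toFinite _)
      rw [ncard_order, h2, Set.ncard_singleton] at this
      omega
    have hc' : Commute t t' := (Subgroup.mem_centralizer_singleton_iff.1
      ((Subgroup.eq_top_of_card_eq _ (ht42.trans hH.symm)).symm ▸ Subgroup.mem_top t')).symm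
    haveI : Fact (Nat.Prime 2) := ⟨Nat.prime_two⟩
    set K := Subgroup.closure ({t, t'} : Set H) with hK
    have hK2 : IsPGroup 2 K := by
      intro x
      refine ⟨1, Subtype.ext ?_⟩
      have key : ∀ y ∈ K, y ^ 2 = 1 ∧ Commute t y ∧ Commute t' y := by
        intro y hy
        induction hy using Subgroup.closure_induction with
        | mem y hy =>
          rcases hy with rfl | rfl
          · exact ⟨by rw [← ht, pow_orderOf_eq_one], Commute.refl _, hc'.symm⟩
          · exact ⟨by rw [← ht', pow_orderOf_eq_one], hc', Commute.refl _⟩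
        | one => exact ⟨one_pow 2, Commute.one_right t, Commute.one_right t'⟩
        | mul a b ha hb iha ihb =>
          have hab : Commute a b := by
            have : K ≤ Subgroup.centralizer ({a} : Set H) := (Subgroup.closure_le _).2 fun z hz => by
              refine Subgroup.mem_centralizer_singleton_iff.2 ?_
              rcases hz with rfl | rfl
              · exact iha.2.1.eq
              · exact iha.2.2.eq
            exact (Subgroup.mem_centralizer_singleton_iff.1 (this hb)).symm
          exact ⟨by rw [hab.mul_pow, iha.1, ihb.1, one_mul], iha.2.1.mul_right ihb.2.1,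
            iha.2.2.mul_right ihb.2.2⟩
        | inv a _ iha => exact ⟨by rw [inv_pow, iha.1, inv_one], iha.2.1.inv_right, iha.2.2.inv_right⟩
      exact (key _ x.2).1
    have h3K : 3 ≤ Nat.card K := by
      have hsub : ({1, t, t'} : Set H) ⊆ (K : Set H) := by
        rintro x (rfl | rfl | rfl)
        · exact one_mem K
        · exact Subgroup.subset_closure (Or.inl rfl)
        · exact Subgroup.subset_closure (Or.inr rfl)
      have h' := Set.ncard_le_ncard hsub (Set.toFinite _)
      rw [Set.ncard_insert_of_notMem (by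
          simp [(ne_one_of_orderOf ht (by norm_num)).symm, (ne_one_of_orderOf ht' (by norm_num)).symm]),
        Set.ncard_pair hne.symm, ← Nat.card_coe_set_eq] at h'
      exact h'
    obtain ⟨n, hn⟩ := IsPGroup.iff_card.1 hK2
    have hd := hH ▸ K.card_subgroup_dvd_card
    rw [hn] at hd h3K
    have hn1 : n ≤ 1 := (Nat.pow_dvd_pow_iff_le_right (by norm_num)).1
      ((Nat.Coprime.pow_left n (by norm_num : Nat.Coprime 2 21)).dvd_of_dvd_mul_right
        (show 2 ^ n ∣ 2 ^ 1 * 21 by simpa using hd))
    interval_cases n <;> omega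
  have hw : ∀ w : H, orderOf w = 3 → cn w = 21 ∧ ∀ w' : H, orderOf w' = 3 → IsConj w' w := by
    intro w hw
    have hcl := cn_class w
    have hsub := class_subset hw
    have hle := Set.ncard_le_ncard hsub (Set.toFinite _)
    rw [ncard_order, h3] at hle
    rw [hH] at hcl
    set k := {x : H | IsConj x w}.ncard with hk
    have hodd : ¬ 2 ∣ cn w := fun h => by
      haveI : Fact (Nat.Prime 2) := ⟨Nat.prime_two⟩
      obtain ⟨t, ht⟩ := exists_prime_orderOf_dvd_card' (G := Subgroup.centralizer ({w} : Set H)) 2 h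
      rw [← Subgroup.orderOf_coe] at ht
      exact hnc t w ht hw (Subgroup.mem_centralizer_singleton_iff.1 t.2)
    have hk2 : k = 2 := by
      interval_cases k
      · omega
      · omega
      · rfl
    refine ⟨by rw [hk2] at hcl; omega, fun w' hw' => ?_⟩
    have heq := Set.eq_of_subset_of_ncard_le hsub (by rw [ncard_order, h3]; exact hk2.ge) (Set.toFinite _)
    exact (heq.symm ▸ (show w' ∈ {x : H | orderOf x = 3} from hw') : w' ∈ {x : H | IsConj x w})
  have ht : ∀ t : H, orderOf t = 2 → cn t = 14 ∧ ∀ t' : H, orderOf t' = 2 → IsConj t' t := by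
    intro t ht
    have hcl := cn_class t
    have hsub := class_subset ht
    have hle := Set.ncard_le_ncard hsub (Set.toFinite _)
    rw [ncard_order, h2] at hle
    rw [hH] at hcl
    set k := {x : H | IsConj x t}.ncard with hk
    have hno : ¬ 3 ∣ cn t := fun h => by
      obtain ⟨w, hw'⟩ := exists_prime_orderOf_dvd_card' (G := Subgroup.centralizer ({t} : Set H)) 3 h
      rw [← Subgroup.orderOf_coe] at hw'
      exact hnc t w ht hw' (Subgroup.mem_centralizer_singleton_iff.1 w.2).symm
    have hk3 : k = 3 := by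
      interval_cases k
      · omega
      · exact absurd (show 3 ∣ cn t by omega) hno
      · exact absurd (show 3 ∣ cn t by omega) hno
      · rfl
    refine ⟨by rw [hk3] at hcl; omega, fun t' ht' => ?_⟩
    have heq := Set.eq_of_subset_of_ncard_le hsub (by rw [ncard_order, h2]; exact hk3.ge) (Set.toFinite _)
    exact (heq.symm ▸ (show t' ∈ {x : H | orderOf x = 2} from ht') : t' ∈ {x : H | IsConj x t})
  have htw : ∀ t w : H, orderOf t = 2 → orderOf w = 3 → t * w * t⁻¹ = w⁻¹ := by
    intro t w h1 h2'
    have hm : t * w * t⁻¹ ∈ {x : H | orderOf x = 3} := by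
      show orderOf _ = 3
      rw [← MulAut.conj_apply, MulEquiv.orderOf_eq]; exact h2'
    rw [hinv w h2'] at hm
    rcases hm with e | e
    · exact absurd (mul_inv_eq_iff_eq_mul.1 e) (hnc t w h1 h2')
    · exact e
  have hmul : ∀ t w : H, orderOf t = 2 → orderOf w = 3 → orderOf (t * w) = 2 := by
    intro t w h1 h2'
    have hti : t⁻¹ = t := inv_eq_iff_mul_eq_one.2 (by rw [← sq, ← h1, pow_orderOf_eq_one])
    refine orderOf_eq_prime ?_ fun e => ?_
    · have h := htw t w h1 h2'
      rw [hti] at h
      rw [sq, ← mul_assoc, h, inv_mul_cancel]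
    · have h' : w = t⁻¹ := eq_inv_of_mul_eq_one_right e
      rw [h', orderOf_inv, h1] at h2'
      omega
  refine ⟨hw, ht, fun t t' ho ho' hne => ?_, hmul⟩
  haveI : Fact (Nat.Prime 3) := ⟨by norm_num⟩
  obtain ⟨w, hw'⟩ := exists_prime_orderOf_dvd_card' (G := H) 3 (by rw [hH]; norm_num)
  have hw2 : orderOf w⁻¹ = 3 := (orderOf_inv w).trans hw'
  have e1 : w ≠ 1 := ne_one_of_orderOf hw' (by norm_num)
  have hww : w ≠ w⁻¹ := fun e => by
    have := orderOf_dvd_of_pow_eq_one (show w ^ 2 = 1 by rw [sq]; nth_rewrite 2 [e]; exact mul_inv_cancel w)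
    rw [hw'] at this
    norm_num at this
  have hset : {x : H | orderOf x = 2} = {t, t * w, t * w⁻¹} := by
    symm
    refine Set.eq_of_subset_of_ncard_le ?_ ?_ (Set.toFinite _)
    · rintro x (rfl | rfl | rfl)
      exacts [ho, hmul t w ho hw', hmul t _ ho hw2]
    · rw [ncard_order, h2, Set.ncard_insert_of_notMem, Set.ncard_pair]
      · exact fun e => hww (mul_left_cancel e)
      · simp [e1]
  have hm : t' ∈ {x : H | orderOf x = 2} := ho'
  rw [hset] at hm
  rcases hm with e | e | e
  · exact absurd e hne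
  all_goals
    subst e
    have hti : t⁻¹ = t := inv_eq_iff_mul_eq_one.2 (by rw [← sq, ← ho, pow_orderOf_eq_one])
  · have h := htw t w ho hw'
    rw [hti] at h
    rw [h]; exact hw2
  · have h := htw t _ ho hw2
    rw [hti, inv_inv] at h
    rw [h]; exact hw'

end Abstract

variable {G : Type u} [Group G] [Finite G]

/-- The centralizer of `v` in the centralizer of `u`. -/
theorem cn_mul {a b : G} {m n : ℕ} (ha : orderOf a = m) (hb : orderOf b = n) (hmn : m.Coprime n)
    (h : Commute a b) (hmem : b ∈ Subgroup.centralizer ({a} : Set G)) :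
    cn (a * b) = cn (⟨b, hmem⟩ : Subgroup.centralizer ({a} : Set G)) := by
  have key : ∀ x : G, x * (a * b) = a * b * x ↔ x * a = a * x ∧ x * b = b * x := by
    intro x
    refine ⟨fun hx => ?_, fun ⟨h1, h2⟩ => by rw [← mul_assoc, h1, mul_assoc, h2, mul_assoc]⟩
    obtain ⟨k, hk1, hk2⟩ := Nat.chineseRemainder hmn 1 0
    obtain ⟨l, hl1, hl2⟩ := Nat.chineseRemainder hmn 0 1
    have p1 : (a * b) ^ k = a := by
      rw [h.mul_pow, ← pow_mod_orderOf a, ha, hk1, ← pow_mod_orderOf b, hb, hk2, Nat.zero_mod, pow_zero, mul_one]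
      rw [← ha, pow_mod_orderOf, pow_one]
    have p2 : (a * b) ^ l = b := by
      rw [h.mul_pow, ← pow_mod_orderOf a, ha, hl1, Nat.zero_mod, pow_zero, one_mul, ← pow_mod_orderOf b, hb, hl2]
      rw [← hb, pow_mod_orderOf, pow_one]
    have hx' : Commute x (a * b) := hx
    refine ⟨?_, ?_⟩
    · have := (hx'.pow_right k).eq
      rwa [p1] at this
    · have := (hx'.pow_right l).eq
      rwa [p2] at this
  exact Nat.card_congr
    { toFun := fun x => ⟨⟨x, Subgroup.mem_centralizer_singleton_iff.2
          ((key _).1 (Subgroup.mem_centralizer_singleton_iff.1 x.2)).1⟩,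
        Subgroup.mem_centralizer_singleton_iff.2
          (Subtype.ext ((key _).1 (Subgroup.mem_centralizer_singleton_iff.1 x.2)).2)⟩
      invFun := fun x => ⟨((x : Subgroup.centralizer ({a} : Set G)) : G), Subgroup.mem_centralizer_singleton_iff.2
        ((key _).2 ⟨Subgroup.mem_centralizer_singleton_iff.1 x.1.2,
          congrArg Subtype.val (Subgroup.mem_centralizer_singleton_iff.1 x.2)⟩)⟩
      left_inv := fun x => rfl
      right_inv := fun x => rfl }

theorem conj_of {a : G} {v v' : Subgroup.centralizer ({a} : Set G)} (h : IsConj v v') :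
    IsConj (a * (v : G)) (a * (v' : G)) := by
  obtain ⟨c, hc⟩ := _root_.isConj_iff.1 h
  refine _root_.isConj_iff.2 ⟨(c : G), ?_⟩
  have hca := Subgroup.mem_centralizer_singleton_iff.1 c.2
  rw [← hc]
  push_cast
  calc (c : G) * (a * (v : G)) * (c : G)⁻¹ = ((c : G) * a) * (c : G)⁻¹ * ((c : G) * (v : G) * (c : G)⁻¹) := by group
    _ = a * ((c : G) * (v : G) * (c : G)⁻¹) := by rw [hca, mul_inv_cancel_right]

theorem ocnt_cent (a : G) (n : ℕ) :
    ocnt (Subgroup.centralizer ({a} : Set G)) n = Nat.card {g : G // a * g = g * a ∧ orderOf g = n} :=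
  Nat.card_congr
    { toFun := fun x => ⟨(x.1 : G), (Subgroup.mem_centralizer_singleton_iff.1 x.1.2).symm,
        (Subgroup.orderOf_coe x.1).trans x.2⟩
      invFun := fun x => ⟨⟨x.1, Subgroup.mem_centralizer_singleton_iff.2 x.2.1.symm⟩, by
        rw [← Subgroup.orderOf_coe]; exact x.2.2⟩
      left_inv := fun x => rfl
      right_inv := fun x => rfl }

/-- The powers of a generator of the Sylow subgroup conjugate to it. -/
theorem card_powers {p e : ℕ} [Fact p.Prime] (B : PBlk G p e) {x : G} (hx : x ∈ (B.P : Subgroup G))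
    (hxp : orderOf x = p) (hC : Subgroup.centralizer ({x} : Set G) = B.C) :
    {k : ℕ | k < p ∧ IsConj x (x ^ k)}.ncard = e := by
  classical
  haveI := Fintype.ofFinite G
  have hp : p.Prime := Fact.out
  have hz : Subgroup.zpowers x = (B.P : Subgroup G) := Subgroup.eq_of_le_of_card_ge (Subgroup.zpowers_le.2 hx)
    (by rw [Nat.card_zpowers, hxp]; exact B.hP.le)
  set N := Subgroup.normalizer ((B.P : Subgroup G) : Set G) with hN
  have hN' : Nat.card N = cn x * e := by
    rw [← B.he, show cn x = Nat.card B.C by rw [← hC], Subgroup.relIndex,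
      ← Subgroup.card_mul_index (B.C.subgroupOf N),
      Nat.card_congr (Subgroup.subgroupOfEquivOfLe (Subgroup.centralizer_le_normalizer _)).toEquiv]
  have hmem : ∀ g : G, g ∈ N ↔ g * x * g⁻¹ ∈ (B.P : Subgroup G) := by
    intro g
    refine ⟨fun hg => (Subgroup.mem_normalizer_iff.1 hg x).1 hx, fun hg => ?_⟩
    have hle : (B.P : Subgroup G).map (MulAut.conj g).toMonoidHom ≤ (B.P : Subgroup G) := by
      rw [← hz, MonoidHom.map_zpowers, Subgroup.zpowers_le, hz]
      exact hg
    have heq : (B.P : Subgroup G).map (MulAut.conj g).toMonoidHom = (B.P : Subgroup G) :=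
      Subgroup.eq_of_le_of_card_ge hle (by
        rw [Subgroup.card_map_of_injective (MulAut.conj g).injective])
    refine Subgroup.mem_normalizer_iff.2 fun y => ⟨fun hy => ?_, fun hy => ?_⟩
    · exact heq.le ⟨y, hy, rfl⟩
    · obtain ⟨z, hz', hze⟩ := heq.ge hy
      have : z = y := (MulAut.conj g).injective hze
      exact this ▸ hz'
  set S := (Finset.range p).filter fun k => IsConj x (x ^ k) with hS
  have hinj : ∀ a ∈ S, ∀ b ∈ S, x ^ a = x ^ b → a = b := fun a ha b hb h => by
    have ha' := Finset.mem_range.1 (Finset.mem_filter.1 ha).1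
    have hb' := Finset.mem_range.1 (Finset.mem_filter.1 hb).1
    have := pow_eq_pow_iff_modEq.1 h
    rw [hxp, Nat.ModEq, Nat.mod_eq_of_lt ha', Nat.mod_eq_of_lt hb'] at this
    exact this
  have hsum : Nat.card N = ∑ k ∈ S, cn x := by
    rw [Nat.card_eq_fintype_card, Fintype.card_subtype]
    have hun : (Finset.univ.filter fun g => g ∈ N) = S.biUnion fun k => Finset.univ.filter fun g => g * x * g⁻¹ = x ^ k := by
      ext g
      simp only [Finset.mem_filter, Finset.mem_univ, true_and, Finset.mem_biUnion, hmem]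
      constructor
      · intro hg
        have hg' : g * x * g⁻¹ ∈ Subgroup.zpowers x := hz.symm ▸ hg
        obtain ⟨k, hk⟩ := (isOfFinOrder_of_finite x).mem_powers_iff_mem_zpowers.2 hg'
        refine ⟨k % p, Finset.mem_filter.2 ⟨Finset.mem_range.2 (Nat.mod_lt _ hp.pos), ?_⟩, ?_⟩ <;>
          rw [← hxp, pow_mod_orderOf]
        · exact _root_.isConj_iff.2 ⟨g, hk.symm⟩
        · exact hk.symm
      · rintro ⟨k, -, hk⟩
        rw [hk]
        exact pow_mem hx k
    rw [hun, Finset.card_biUnion fun a ha b hb hab => Finset.disjoint_left.2 fun g h1 h2 => hab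
      (hinj a ha b hb ((Finset.mem_filter.1 h1).2.symm.trans (Finset.mem_filter.1 h2).2))]
    refine Finset.sum_congr rfl fun k hk => ?_
    have h := OrdP.card_fiber x (x ^ k)
    rw [if_pos (Finset.mem_filter.1 hk).2, Nat.card_eq_fintype_card, Fintype.card_subtype] at h
    exact h
  rw [hsum, Finset.sum_const, smul_eq_mul, mul_comm] at hN'
  rw [← Nat.eq_of_mul_eq_mul_left (cn_pos x) hN', ← Set.ncard_coe_finset, hS]
  congr 1
  ext k
  simp

end Cfsg.Agent.Fus.M24Nse
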