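import Cfsg.Agent.Lib.Fus.M24Nse.Search

/-!
Order 244823040 with the element counts of `M₂₄`: evaluation of the search.
-/

set_option autoImplicit false
set_option Elab.async false

namespace Cfsg.Agent.Fus.M24Nse

/-- The search of case B from the positions 0 to 0 + 22. -/
theorem checkB_0 : check caseB 0 22 = true := by decide +kernel

/-- The search of case D from the positions 0 to 0 + 22. -/
theorem checkD_0 : check caseD 0 22 = true := by decide +kernel

end Cfsg.Agent.Fus.M24Nse
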