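import Mathlib

/-!
Order 244823040 with the element counts of `M₂₄`: the tables of the search for a character of degree 23.

The principal block at eleven gives ten degrees `d ≡ ±1 (mod 11)`; each carries the section coordinates
`(a₃, T)` at an element of order five and `(R_s, N_s, R₂, N₂)` at an element of order seven.
-/

set_option autoImplicit false

namespace Cfsg.Agent.Fus.M24Nse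

/-- The sign of a degree congruent to `±1` modulo eleven. -/
def sgn (d : ℕ) : ℤ := if Nat.beq (d % 11) 1 then 1 else -1

/-- The signed cofactor of a degree. -/
def wt (d : ℕ) : ℤ := sgn d * ((244823040 / d : ℕ) : ℤ)

/-- A degree with its possible coordinates at five and at seven. -/
structure Deg where
  d : ℕ
  o5 : List (ℤ × ℤ)
  o7 : List (ℤ × ℤ × ℤ × ℤ)

/-- A degree divisible by eleven with its possible coordinates at seven. -/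
structure Out where
  d : ℕ
  o7 : List (ℤ × ℤ × ℤ × ℤ)

/-- A choice of coordinates at five in natural numbers. -/
structure O5 where
  aa : ℕ
  tt : ℕ
  la : ℕ
  lt : ℕ
  s0 : ℕ
  x3 : ℕ
deriving DecidableEq

/-- A choice of coordinates at seven in natural numbers. -/
structure O7 where
  ns : ℕ
  n2 : ℕ
  ls : ℕ
  l2 : ℕ
  s1 : ℕ
  s2 : ℕ
  r3 : ℕ
  q : ℤ × ℤ × ℤ × ℤ
deriving DecidableEq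

/-- A degree in natural numbers: the shifted signed degree and the bounds from here on. -/
structure Item where
  d : ℕ
  sv : ℕ
  sq : ℕ
  hi : ℕ
  lo : ℕ
  o5 : List O5
  o7 : List O7
deriving DecidableEq

/-- The choice at five of a degree `d`. -/
def mkO5 (d : ℕ) (q : ℤ × ℤ) : O5 :=
  ⟨(q.1 * q.1).toNat, (q.2 * q.2).toNat, (sgn d * q.1 + 8).toNat, (sgn d * q.2 + 8).toNat,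
    (wt d * ((3 * q.1 + q.2) * (3 * q.1 + q.2)) % 39600).toNat, (wt d * (3 * q.1 + q.2) % 55440).toNat⟩

/-- The value `R` at an element of order seven. -/
def rr (q : ℤ × ℤ × ℤ × ℤ) : ℤ := q.1 + 2 * q.2.2.1

/-- The squared absolute value at an element of order seven. -/
def nn (q : ℤ × ℤ × ℤ × ℤ) : ℤ := q.2.1 + 4 * q.2.2.2

/-- The choice at seven of a degree `d`. -/
def mkO7 (d : ℕ) (q : ℤ × ℤ × ℤ × ℤ) : O7 :=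
  ⟨q.2.1.toNat, q.2.2.2.toNat, (sgn d * q.1 + 8).toNat, (sgn d * q.2.2.1 + 8).toNat,
    (wt d * nn q % 19404).toNat, (wt d * (rr q * rr q - 2 * nn q) % 38808).toNat, (rr q % 55440).toNat, q⟩

/-- The degrees congruent to `±1` modulo eleven, in decreasing order. -/
def degs : List Deg :=
  [
  ⟨15456, [(0, 1), (2, 0)], [(0, 0, 0, 0)]⟩,
  ⟨12880, [(0, 0)], [(0, 0, 0, 0)]⟩,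
  ⟨12420, [(0, 0)], [((-3), 4, 0, 0)]⟩,
  ⟨8832, [((-1), 0), (0, (-3)), (0, 2)], [((-4), 4, 0, 0), (0, 0, (-2), 1), (3, 4, 0, 0)]⟩,
  ⟨7360, [(0, 0)], [(0, 0, (-4), 4), ((-1), 2, 0, 0), (0, 0, 3, 4)]⟩,
  ⟨5796, [(0, 1), (2, 0)], [(0, 0, 0, 0)]⟩,
  ⟨4830, [(0, 0)], [(0, 0, 0, 0)]⟩,
  ⟨3840, [(0, 0)], [(0, 0, (-3), 4), (1, 2, 0, 0), (0, 0, 4, 4)]⟩,
  ⟨3312, [((-1), 0), (0, (-3)), (0, 2)], [(0, 0, 1, 2), (2, 1, 0, 0)]⟩,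
  ⟨3024, [((-2), 0)], [(0, 0, 0, 0)]⟩,
  ⟨2760, [(0, 0)], [((-3), 4, 0, 0), (0, 0, 2, 1), (4, 4, 0, 0)]⟩,
  ⟨1288, [(0, (-2)), (0, 3), (1, 0)], [(0, 0, 0, 0)]⟩,
  ⟨1242, [((-1), 0), (0, (-3))], [(0, 0, 3, 4)]⟩,
  ⟨1035, [(0, 0)], [((-2), 1, 0, 0), (0, 0, (-1), 2)]⟩,
  ⟨736, [(0, 1), (2, 0)], [(0, 0, 1, 2), (2, 1, 0, 0)]⟩,
  ⟨483, [(0, (-2)), (0, 3), (1, 0)], [(0, 0, 0, 0)]⟩,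
  ⟨276, [(0, 1), (2, 0)], [(0, 0, (-4), 4), ((-1), 2, 0, 0), (0, 0, 3, 4)]⟩,
  ⟨252, [((-1), 0), (0, (-3)), (0, 2)], [(0, 0, 0, 0)]⟩,
  ⟨230, [(0, 0)], [((-2), 1, 0, 0), (0, 0, (-1), 2)]⟩,
  ⟨45, [(0, 0)], [(0, 0, (-4), 4), ((-1), 2, 0, 0), (0, 0, 3, 4)]⟩,
  ⟨23, [(0, (-2)), (0, 3), (1, 0)], [((-3), 4, 0, 0), (0, 0, 2, 1), (4, 4, 0, 0)]⟩,
  ⟨12, [((-1), 0), (0, (-3)), (0, 2)], [((-4), 4, 0, 0), (0, 0, (-2), 1), (3, 4, 0, 0)]⟩]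

/-- The degrees divisible by eleven and prime to seven. -/
def outs : List Out :=
  [
  ⟨11, [(0, 0, (-3), 4), (1, 2, 0, 0), (0, 0, 4, 4)]⟩,
  ⟨22, [(0, 0, 1, 2), (2, 1, 0, 0)]⟩,
  ⟨253, [(0, 0, 1, 2), (2, 1, 0, 0)]⟩,
  ⟨264, [((-4), 4, 0, 0), (0, 0, (-2), 1), (3, 4, 0, 0)]⟩,
  ⟨495, [((-4), 4, 0, 0), (0, 0, (-2), 1), (3, 4, 0, 0)]⟩,
  ⟨506, [((-3), 4, 0, 0), (0, 0, 2, 1), (4, 4, 0, 0)]⟩,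
  ⟨528, [(0, 0, (-4), 4), ((-1), 2, 0, 0), (0, 0, 3, 4)]⟩,
  ⟨759, [(0, 0, (-4), 4), ((-1), 2, 0, 0), (0, 0, 3, 4)]⟩,
  ⟨990, [(0, 0, (-4), 4), ((-1), 2, 0, 0), (0, 0, 3, 4)]⟩,
  ⟨1012, [(0, 0, (-3), 4), (1, 2, 0, 0), (0, 0, 4, 4)]⟩,
  ⟨1265, [((-4), 4, 0, 0), (0, 0, (-2), 1), (3, 4, 0, 0)]⟩,
  ⟨1518, [((-2), 1, 0, 0), (0, 0, (-1), 2)]⟩,
  ⟨1760, [(0, 0, (-4), 4), ((-1), 2, 0, 0), (0, 0, 3, 4)]⟩,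
  ⟨2024, [(0, 0, 1, 2), (2, 1, 0, 0)]⟩,
  ⟨2277, [((-3), 4, 0, 0), (0, 0, 2, 1), (4, 4, 0, 0)]⟩,
  ⟨2530, [(0, 0, (-4), 4), ((-1), 2, 0, 0), (0, 0, 3, 4)]⟩,
  ⟨3036, [((-4), 4, 0, 0), (0, 0, (-2), 1), (3, 4, 0, 0)]⟩,
  ⟨3520, [((-2), 1, 0, 0), (0, 0, (-1), 2)]⟩,
  ⟨3795, [(0, 0, 1, 2), (2, 1, 0, 0)]⟩,
  ⟨4048, [((-3), 4, 0, 0), (0, 0, 2, 1), (4, 4, 0, 0)]⟩,
  ⟨4554, [(0, 0, (-3), 4), (1, 2, 0, 0), (0, 0, 4, 4)]⟩,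
  ⟨5060, [((-2), 1, 0, 0), (0, 0, (-1), 2)]⟩,
  ⟨6072, [(0, 0, (-4), 4), ((-1), 2, 0, 0), (0, 0, 3, 4)]⟩,
  ⟨6336, [(0, 0, 1, 2), (2, 1, 0, 0)]⟩,
  ⟨6831, []⟩,
  ⟨7590, [((-3), 4, 0, 0), (0, 0, 2, 1), (4, 4, 0, 0)]⟩,
  ⟨8096, [(0, 0, (-3), 4), (1, 2, 0, 0), (0, 0, 4, 4)]⟩,
  ⟨9108, [(0, 0, 1, 2), (2, 1, 0, 0)]⟩,
  ⟨10120, [((-4), 4, 0, 0), (0, 0, (-2), 1), (3, 4, 0, 0)]⟩,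
  ⟨11385, [(0, 0, (-4), 4), ((-1), 2, 0, 0), (0, 0, 3, 4)]⟩,
  ⟨11880, []⟩,
  ⟨12144, [((-2), 1, 0, 0), (0, 0, (-1), 2)]⟩,
  ⟨12672, [((-3), 4, 0, 0), (0, 0, 2, 1), (4, 4, 0, 0)]⟩,
  ⟨13662, [(3, 4, 0, 0)]⟩,
  ⟨15180, [(0, 0, (-3), 4), (1, 2, 0, 0), (0, 0, 4, 4)]⟩]

/-- The degrees in natural numbers. -/
def items : List Item :=
  [
  ⟨15456, 31456, 238887936, 31456, 3120, [⟨0, 1, 8, 9, 15840, 15840⟩, ⟨4, 0, 10, 8, 15840, 39600⟩],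
    [⟨0, 0, 8, 8, 0, 0, 0, (0, 0, 0, 0)⟩]⟩,
  ⟨12880, 3120, 165894400, 28420, 3120, [⟨0, 0, 8, 8, 0, 0⟩],
    [⟨0, 0, 8, 8, 0, 0, 0, (0, 0, 0, 0)⟩]⟩,
  ⟨12420, 28420, 154256400, 28420, 7168, [⟨0, 0, 8, 8, 0, 0⟩],
    [⟨4, 0, 5, 8, 1232, 19712, 55437, ((-3), 4, 0, 0)⟩]⟩,
  ⟨8832, 7168, 78004224, 23360, 7168, [⟨1, 0, 9, 8, 27720, 27720⟩, ⟨0, 9, 8, 11, 27720, 27720⟩, ⟨0, 4, 8, 6, 7920, 0⟩],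
    [⟨4, 0, 12, 8, 5544, 11088, 55436, ((-4), 4, 0, 0)⟩, ⟨0, 1, 8, 10, 5544, 11088, 55436, (0, 0, (-2), 1)⟩, ⟨4, 0, 5, 8, 5544, 11088, 3, (3, 4, 0, 0)⟩]⟩,
  ⟨7360, 23360, 54169600, 23360, 10204, [⟨0, 0, 8, 8, 0, 0⟩],
    [⟨0, 4, 8, 4, 8316, 16632, 55432, (0, 0, (-4), 4)⟩, ⟨2, 0, 7, 8, 8316, 16632, 55439, ((-1), 2, 0, 0)⟩, ⟨0, 4, 8, 11, 8316, 16632, 6, (0, 0, 3, 4)⟩]⟩,
  ⟨5796, 10204, 33593616, 20830, 10204, [⟨0, 1, 8, 7, 36960, 13200⟩, ⟨4, 0, 6, 8, 23760, 23760⟩],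
    [⟨0, 0, 8, 8, 0, 0, 0, (0, 0, 0, 0)⟩]⟩,
  ⟨4830, 20830, 23328900, 20830, 12976, [⟨0, 0, 8, 8, 0, 0⟩],
    [⟨0, 0, 8, 8, 0, 0, 0, (0, 0, 0, 0)⟩]⟩,
  ⟨3840, 19840, 14745600, 19840, 12976, [⟨0, 0, 8, 8, 0, 0⟩],
    [⟨0, 4, 8, 5, 11088, 22176, 55434, (0, 0, (-3), 4)⟩, ⟨2, 0, 9, 8, 11088, 2772, 1, (1, 2, 0, 0)⟩, ⟨0, 4, 8, 12, 11088, 22176, 8, (0, 0, 4, 4)⟩]⟩,
  ⟨3312, 19312, 10969344, 19312, 12976, [⟨1, 0, 7, 8, 31680, 0⟩, ⟨0, 9, 8, 5, 31680, 0⟩, ⟨0, 4, 8, 10, 18480, 36960⟩],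
    [⟨0, 2, 8, 9, 9240, 5544, 2, (0, 0, 1, 2)⟩, ⟨1, 0, 10, 8, 15708, 31416, 2, (2, 1, 0, 0)⟩]⟩,
  ⟨3024, 12976, 9144576, 17288, 12976, [⟨4, 0, 10, 8, 15840, 42240⟩],
    [⟨0, 0, 8, 8, 0, 0, 0, (0, 0, 0, 0)⟩]⟩,
  ⟨2760, 13240, 7617600, 17288, 13240, [⟨0, 0, 8, 8, 0, 0⟩],
    [⟨4, 0, 11, 8, 13860, 27720, 55437, ((-3), 4, 0, 0)⟩, ⟨0, 1, 8, 6, 13860, 27720, 4, (0, 0, 2, 1)⟩, ⟨4, 0, 4, 8, 13860, 27720, 4, (4, 4, 0, 0)⟩]⟩,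
  ⟨1288, 17288, 1658944, 17288, 14758, [⟨0, 4, 8, 6, 7920, 7920⟩, ⟨0, 9, 8, 11, 7920, 15840⟩, ⟨1, 0, 9, 8, 7920, 15840⟩],
    [⟨0, 0, 8, 8, 0, 0, 0, (0, 0, 0, 0)⟩]⟩,
  ⟨1242, 14758, 1542564, 17035, 14758, [⟨1, 0, 9, 8, 7920, 36960⟩, ⟨0, 9, 8, 11, 7920, 36960⟩],
    [⟨0, 4, 8, 5, 8932, 26488, 6, (0, 0, 3, 4)⟩]⟩,
  ⟨1035, 17035, 1071225, 17035, 15264, [⟨0, 0, 8, 8, 0, 0⟩],
    [⟨1, 0, 6, 8, 3696, 7392, 55438, ((-2), 1, 0, 0)⟩, ⟨0, 2, 8, 7, 10164, 33264, 55438, (0, 0, (-1), 2)⟩]⟩,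
  ⟨736, 15264, 541696, 16276, 15264, [⟨0, 1, 8, 7, 23760, 0⟩, ⟨4, 0, 6, 8, 23760, 0⟩],
    [⟨0, 2, 8, 7, 16632, 33264, 2, (0, 0, 1, 2)⟩, ⟨1, 0, 6, 8, 16632, 33264, 2, (2, 1, 0, 0)⟩]⟩,
  ⟨483, 15517, 233289, 16276, 15517, [⟨0, 4, 8, 10, 31680, 15840⟩, ⟨0, 9, 8, 5, 31680, 31680⟩, ⟨1, 0, 7, 8, 31680, 31680⟩],
    [⟨0, 0, 8, 8, 0, 0, 0, (0, 0, 0, 0)⟩]⟩,
  ⟨276, 16276, 76176, 16276, 15748, [⟨0, 1, 8, 9, 15840, 0⟩, ⟨4, 0, 10, 8, 15840, 0⟩],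
    [⟨0, 4, 8, 4, 8316, 16632, 55432, (0, 0, (-4), 4)⟩, ⟨2, 0, 7, 8, 8316, 16632, 55439, ((-1), 2, 0, 0)⟩, ⟨0, 4, 8, 11, 8316, 16632, 6, (0, 0, 3, 4)⟩]⟩,
  ⟨252, 15748, 63504, 16045, 15748, [⟨1, 0, 9, 8, 7920, 31680⟩, ⟨0, 9, 8, 11, 7920, 31680⟩, ⟨0, 4, 8, 6, 34320, 52800⟩],
    [⟨0, 0, 8, 8, 0, 0, 0, (0, 0, 0, 0)⟩]⟩,
  ⟨230, 15770, 52900, 16045, 15770, [⟨0, 0, 8, 8, 0, 0⟩],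
    [⟨1, 0, 10, 8, 2772, 5544, 55438, ((-2), 1, 0, 0)⟩, ⟨0, 2, 8, 9, 2772, 5544, 55438, (0, 0, (-1), 2)⟩]⟩,
  ⟨45, 16045, 2025, 16045, 16012, [⟨0, 0, 8, 8, 0, 0⟩],
    [⟨0, 4, 8, 4, 1848, 3696, 55432, (0, 0, (-4), 4)⟩, ⟨2, 0, 7, 8, 14784, 16632, 55439, ((-1), 2, 0, 0)⟩, ⟨0, 4, 8, 11, 1848, 29568, 6, (0, 0, 3, 4)⟩]⟩,
  ⟨23, 16023, 529, 16023, 16012, [⟨0, 4, 8, 6, 7920, 0⟩, ⟨0, 9, 8, 11, 7920, 0⟩, ⟨1, 0, 9, 8, 7920, 0⟩],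
    [⟨4, 0, 5, 8, 5544, 11088, 55437, ((-3), 4, 0, 0)⟩, ⟨0, 1, 8, 10, 5544, 11088, 4, (0, 0, 2, 1)⟩, ⟨4, 0, 12, 8, 5544, 11088, 4, (4, 4, 0, 0)⟩]⟩,
  ⟨12, 16012, 144, 16012, 16012, [⟨1, 0, 7, 8, 31680, 0⟩, ⟨0, 9, 8, 5, 31680, 0⟩, ⟨0, 4, 8, 10, 31680, 0⟩],
    [⟨4, 0, 4, 8, 13860, 27720, 55436, ((-4), 4, 0, 0)⟩, ⟨0, 1, 8, 6, 13860, 27720, 55436, (0, 0, (-2), 1)⟩, ⟨4, 0, 11, 8, 13860, 27720, 3, (3, 4, 0, 0)⟩]⟩]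

/-- The data known from the principal blocks at five and at seven. -/
structure CaseRaw where
  a : ℕ
  b : ℕ
  kb : ℕ
  rb : ℤ
  nb : ℤ
  g7 : ℤ × ℤ × ℤ × ℤ
  f5 : List (ℤ × ℤ)

/-- A case with its initial values; each choice at five of `b` starts a row of `f`. -/
structure Case where
  r : CaseRaw
  k : ℕ
  sd : ℕ
  cap : ℕ
  bs : ℕ
  b2 : ℕ
  ls : ℕ
  l2 : ℕ
  s1 : ℕ
  s2 : ℕ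
  f : List O5

/-- The degrees 5796 and 1035. -/
def caseA : Case := ⟨⟨5796, 1035, 1, (-2), 1, (0, 0, 0, 0), [(0, 0)]⟩,
  8, 11240, 210158198, 7, 7, 8, 8, 6468, 12936, [⟨5, 10, 8, 8, 13200, 0⟩]⟩

/-- The degrees 5796 and 276. -/
def caseB : Case := ⟨⟨5796, 276, 2, (-1), 2, (0, 0, 0, 0), [(0, 1)]⟩,
  7, 10757, 211077071, 7, 7, 8, 8, 0, 0, [⟨5, 8, 8, 10, 5280, 0⟩]⟩

/-- The degrees 736 and 1035. -/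
def caseC : Case := ⟨⟨736, 1035, 1, (-2), 1, (2, 1, 0, 0), [(0, 0)]⟩,
  8, 16300, 243210118, 6, 7, 6, 8, 3696, 7392, [⟨5, 10, 8, 8, 0, 0⟩]⟩

/-- The degrees 736 and 276. -/
def caseD : Case := ⟨⟨736, 276, 2, (-1), 2, (2, 1, 0, 0), [(0, 1)]⟩,
  7, 15817, 244128991, 6, 7, 6, 8, 16632, 33264, [⟨5, 8, 8, 10, 31680, 0⟩]⟩

end Cfsg.Agent.Fus.M24Nse
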