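import Mathlib
import Cfsg.Agent.Lib.Fus.M24Nse.Tables

/-!
Order 244823040 with the element counts of `M₂₄`: the finite search for a character of degree 23.
-/

set_option autoImplicit false

namespace Cfsg.Agent.Fus.M24Nse

/-- Test `f` on the nonempty final segments. -/
def allFrom {α : Type} (f : α → List α → Bool) : List α → Bool
  | [] => true
  | h :: t => f h (h :: t) && allFrom f t

/-- Whether no completion by degrees divisible by eleven meets the budget `b` and the linear condition. -/
def noOut (sel : ℤ × ℤ × ℤ × ℤ → ℤ × ℤ) : ℕ → List Out → ℤ → ℤ → ℤ → Bool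
  | 0, _, b, L, cap => !(decide (b = 0) && decide (L = 0) && decide (0 ≤ cap))
  | fuel + 1, l, b, L, cap =>
    decide (cap < 0) || if b = 0 then !decide (L = 0) else
      allFrom (fun o r => o.o7.all fun q =>
        decide ((sel q).2 ≤ 0) || decide (b < (sel q).2) ||
          noOut sel fuel r (b - (sel q).2) (L + (o.d : ℤ) * (sel q).1)
            (cap - (o.d : ℤ) * (o.d : ℤ))) l

/-- The completion test at seven for the chosen coordinates of all degrees prime to eleven. -/
def refuteOut (cap : ℕ) (L : List (ℕ × (ℤ × ℤ × ℤ × ℤ))) : Bool :=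
  let s : (ℤ × ℤ × ℤ × ℤ → ℤ) → ℤ := fun g => (L.map fun x => g x.2).sum
  let l : (ℤ × ℤ × ℤ × ℤ → ℤ) → ℤ := fun g => (L.map fun x => (x.1 : ℤ) * g x.2).sum
  noOut (fun q => (q.2.2.1, q.2.2.2)) 7 outs (7 - s fun q => q.2.2.2) (l fun q => q.2.2.1) cap ||
    noOut (fun q => (q.1, q.2.1)) 7 outs (7 - s fun q => q.2.1) (l fun q => q.1) cap

/-- The choices at five; every chosen degree carries its residue `R` at seven. -/
noncomputable def go5 (fin : Bool) (tgt : ℕ) (l : List (Item × ℕ)) : ℕ → ℕ → ℕ → ℕ → ℕ → ℕ → Bool :=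
  List.rec (motive := fun _ => ℕ → ℕ → ℕ → ℕ → ℕ → ℕ → Bool)
    (fun _ _ la lt s0 s3 =>
      !(Nat.beq la tgt && Nat.beq lt tgt && Nat.beq (s0 % 39600) 0 && Nat.beq (s3 % 55440) 0) || fin)
    (fun e _ ih b0 b1 la lt s0 s3 => List.rec (motive := fun _ => Bool) true
      (fun q _ r => (Nat.blt b0 q.aa || Nat.blt b1 q.tt ||
        ih (b0 - q.aa) (b1 - q.tt) (la + q.la) (lt + q.lt) (s0 + q.s0) (s3 + q.x3 * e.2)) && r) e.1.o5) l

/-- The choices at seven. -/
noncomputable def go7 (fin : List (Item × O7) → Bool) (tgt : ℕ) (l : List Item) :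
    ℕ → ℕ → ℕ → ℕ → ℕ → ℕ → List (Item × O7) → Bool :=
  List.rec (motive := fun _ => ℕ → ℕ → ℕ → ℕ → ℕ → ℕ → List (Item × O7) → Bool)
    (fun _ _ ls l2 s1 s2 acc =>
      !(Nat.beq ls tgt && Nat.beq l2 tgt && Nat.beq (s1 % 19404) 0 && Nat.beq (s2 % 38808) 0) || fin acc)
    (fun e _ ih bs b2 ls l2 s1 s2 acc => List.rec (motive := fun _ => Bool) true
      (fun q _ r => (Nat.blt bs q.ns || Nat.blt b2 q.n2 ||
        ih (bs - q.ns) (b2 - q.n2) (ls + q.ls) (l2 + q.l2) (s1 + q.s1) (s2 + q.s2) ((e, q) :: acc)) && r)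
      e.o7) l

/-- A list of degrees fails unless it contains 23. -/
noncomputable def leaf (c : Case) (cap : ℕ) (l : List Item) : Bool :=
  (l.any fun e => Nat.beq e.d 23) ||
    go7 (fun acc => c.f.all fun f =>
      go5 (refuteOut cap ((c.r.a, c.r.g7) :: acc.map fun x => (x.1.d, x.2.q))) (8 * (c.k + 1))
        (acc.map fun x => (x.1, x.2.r3)) f.aa f.tt f.la f.lt f.s0 f.x3)
      (8 * (c.k + 1)) l c.bs c.b2 c.ls c.l2 c.s1 c.s2 []

/-- The degree lists of length `k` from the final segments of `l` whose shifted signed sum is `tgt`. -/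
noncomputable def scan (fin : ℕ → List Item → Bool) (tgt k : ℕ) :
    List Item → ℕ → ℕ → List Item → Bool :=
  Nat.rec (motive := fun _ => List Item → ℕ → ℕ → List Item → Bool)
    (fun _ S cap acc => !Nat.beq S tgt || fin cap acc)
    (fun k ih l S cap acc => List.rec (motive := fun _ => Bool) true
      (fun e t r => Nat.blt (S + (k + 1) * e.hi) tgt || Nat.blt tgt (S + (k + 1) * e.lo) ||
        ((Nat.blt cap e.sq || ih (e :: t) (S + e.sv) (cap - e.sq) (e :: acc)) && r)) l) k

/-- The search below a first degree. -/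
noncomputable def top (c : Case) (k : ℕ) : List Item → Bool
  | [] => true
  | e :: t => Nat.blt c.cap e.sq || scan (leaf c) (16000 * (c.k + 1)) k (e :: t) (c.sd + e.sv) (c.cap - e.sq) [e]

/-- The part of the search for a case with the first degree in the given range of positions. -/
noncomputable def check (c : Case) (i n : ℕ) : Bool :=
  (List.range' i n).all fun q => top c (c.k - 1) (items.drop q)

end Cfsg.Agent.Fus.M24Nse
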