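import Mathlib
import Cfsg.Agent.Lib.Fus.M24Nse.Search
import Cfsg.Agent.Lib.Fus.M24Nse.CheckA
import Cfsg.Agent.Lib.Fus.M24Nse.CheckC
import Cfsg.Agent.Lib.Fus.M24Nse.CheckBD

/-!
Order 244823040 with the element counts of `M₂₄`: what the search proves.
-/

set_option autoImplicit false

namespace Cfsg.Agent.Fus.M24Nse

/-- A degree with chosen coordinates at five and at seven. -/
abbrev Pick := ℕ × (ℤ × ℤ) × (ℤ × ℤ × ℤ × ℤ)

/-- The pick is one of the tables. -/
def Allowed (x : Pick) : Prop := ∃ D ∈ degs, D.d = x.1 ∧ x.2.1 ∈ D.o5 ∧ x.2.2 ∈ D.o7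

/-- The pick at seven is one of the table of degrees divisible by eleven. -/
def AllowedOut (x : ℕ × (ℤ × ℤ × ℤ × ℤ)) : Prop := ∃ D ∈ outs, D.d = x.1 ∧ x.2 ∈ D.o7

/-- The table entry of a degree. -/
def itemOf (d : ℕ) : Item := (items.find? fun e => Nat.beq e.d d).getD ⟨0, 0, 0, 0, 0, [], []⟩

/-- The entries of the table in natural numbers are those of the table in integers. -/
theorem items_ok : ∀ D ∈ degs, itemOf D.d ∈ items ∧ (itemOf D.d).d = D.d ∧
    ((itemOf D.d).sv : ℤ) = sgn D.d * (D.d : ℤ) + 16000 ∧ (itemOf D.d).sq = D.d * D.d ∧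
    (∀ q ∈ D.o5, mkO5 D.d q ∈ (itemOf D.d).o5 ∧ -8 ≤ sgn D.d * q.1 ∧ -8 ≤ sgn D.d * q.2) ∧
    ∀ q ∈ D.o7, mkO7 D.d q ∈ (itemOf D.d).o7 ∧ 0 ≤ q.2.1 ∧ 0 ≤ q.2.2.2 ∧ -8 ≤ sgn D.d * q.1 ∧
      -8 ≤ sgn D.d * q.2.2.1 := by decide +kernel

/-- The bounds stored in each final segment hold in it. -/
def bdOK : List Item → Bool
  | [] => true
  | e :: t => ((e :: t).all fun x => Nat.ble x.sv e.hi && Nat.ble e.lo x.sv) && bdOK t

theorem items_bd : bdOK items = true := by decide +kernel

theorem bdOK_tail {e : Item} {t : List Item} (h : bdOK (e :: t) = true) :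
    bdOK t = true ∧ ∀ x ∈ e :: t, x.sv ≤ e.hi ∧ e.lo ≤ x.sv := by
  simp only [bdOK, Bool.and_eq_true, List.all_eq_true, Nat.ble_eq] at h
  exact ⟨h.2, h.1⟩

theorem sum_sv_le {α : Type} (f : α → Item) (m : List α) {e : Item}
    (h : ∀ x ∈ m, (f x).sv ≤ e.hi ∧ e.lo ≤ (f x).sv) :
    (m.map fun x => (f x).sv).sum ≤ m.length * e.hi ∧ m.length * e.lo ≤ (m.map fun x => (f x).sv).sum := by
  induction m with
  | nil => simp
  | cons a t ih =>
    obtain ⟨h1, h2⟩ := h a List.mem_cons_self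
    obtain ⟨i1, i2⟩ := ih fun x hx => h x (List.mem_cons_of_mem a hx)
    simp only [List.map_cons, List.sum_cons, List.length_cons, Nat.add_mul, one_mul]
    omega

theorem perm_pick {α : Type} {x : α} {m : List α} (hx : x ∈ m) :
    ∃ r : List α, m.Perm (x :: r) ∧ r.length + 1 = m.length := by
  obtain ⟨s, t, rfl⟩ := List.append_of_mem hx
  exact ⟨s ++ t, List.perm_middle, by simp [Nat.add_assoc]⟩

theorem scan_sound {α : Type} (f : α → Item) (fin : ℕ → List Item → Bool) (tgt : ℕ) :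
    ∀ (k : ℕ) (l : List Item) (S cap : ℕ) (acc : List Item) (m : List α),
      scan fin tgt k l S cap acc = true → bdOK l = true → m.length = k → (∀ x ∈ m, f x ∈ l) →
      S + (m.map fun x => (f x).sv).sum = tgt → (m.map fun x => (f x).sq).sum ≤ cap →
      ∃ m' : List α, m'.Perm m ∧ fin (cap - (m.map fun x => (f x).sq).sum) (m'.map f ++ acc) = true := by
  intro k
  induction k with
  | zero =>
    intro l S cap acc m h _ hm _ hS _
    obtain rfl := List.length_eq_zero_iff.1 hm
    refine ⟨[], List.Perm.nil, ?_⟩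
    have hb : Nat.beq S tgt = true := by rw [Nat.beq_eq]; simpa using hS
    simpa [scan, hb] using h
  | succ k ih =>
    intro l
    induction l with
    | nil =>
      intro S cap acc m _ _ hm hmem
      cases m with
      | nil => simp at hm
      | cons a t => exact absurd (hmem a List.mem_cons_self) List.not_mem_nil
    | cons e t iht =>
      intro S cap acc m h hbd hm hmem hS hcap
      obtain ⟨hbt, hb⟩ := bdOK_tail hbd
      obtain ⟨hle, hge⟩ := sum_sv_le f m fun x hx => hb _ (hmem x hx)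
      rw [hm] at hle hge
      have h1 : Nat.blt (S + (k + 1) * e.hi) tgt = false := Bool.eq_false_iff.2 fun hh => by
        rw [Nat.blt_eq] at hh; omega
      have h2 : Nat.blt tgt (S + (k + 1) * e.lo) = false := Bool.eq_false_iff.2 fun hh => by
        rw [Nat.blt_eq] at hh; omega
      have h' : (Nat.blt (S + (k + 1) * e.hi) tgt || Nat.blt tgt (S + (k + 1) * e.lo) ||
          ((Nat.blt cap e.sq || scan fin tgt k (e :: t) (S + e.sv) (cap - e.sq) (e :: acc)) &&
            scan fin tgt (k + 1) t S cap acc)) = true := h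
      simp only [h1, h2, Bool.false_or, Bool.and_eq_true] at h'
      by_cases hex : ∃ x ∈ m, f x = e
      · obtain ⟨x, hx, hfx⟩ := hex
        obtain ⟨r, hr, hrl⟩ := perm_pick hx
        have hsv := (hr.map fun y => (f y).sv).sum_eq
        have hsq := (hr.map fun y => (f y).sq).sum_eq
        simp only [List.map_cons, List.sum_cons, hfx] at hsv hsq
        have hc : Nat.blt cap e.sq = false := Bool.eq_false_iff.2 fun hh => by
          rw [Nat.blt_eq] at hh; omega
        obtain ⟨m', hm', hfin⟩ := ih (e :: t) (S + e.sv) (cap - e.sq) (e :: acc) r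
          (by simpa [hc] using h'.1) hbd (by omega)
          (fun y hy => hmem y (hr.symm.subset (List.mem_cons_of_mem x hy))) (by omega) (by omega)
        refine ⟨m' ++ [x], (List.perm_append_singleton x m').trans ((hm'.cons x).trans hr.symm), ?_⟩
        rw [hsq, List.map_append, List.map_singleton, hfx, List.append_assoc, List.singleton_append,
          show cap - (e.sq + (r.map fun y => (f y).sq).sum) = cap - e.sq - (r.map fun y => (f y).sq).sum by omega]
        exact hfin
      · refine iht S cap acc m h'.2 hbt hm (fun x hx => ?_) hS hcap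
        exact (List.mem_cons.1 (hmem x hx)).resolve_left fun e0 => hex ⟨x, hx, e0⟩

theorem go7_sound (fin : List (Item × O7) → Bool) (tgt : ℕ) :
    ∀ (m : List (Item × O7)) (bs b2 ls l2 s1 s2 : ℕ) (acc : List (Item × O7)),
      go7 fin tgt (m.map Prod.fst) bs b2 ls l2 s1 s2 acc = true → (∀ x ∈ m, x.2 ∈ x.1.o7) →
      (m.map fun x => x.2.ns).sum ≤ bs → (m.map fun x => x.2.n2).sum ≤ b2 →
      ls + (m.map fun x => x.2.ls).sum = tgt → l2 + (m.map fun x => x.2.l2).sum = tgt →
      (s1 + (m.map fun x => x.2.s1).sum) % 19404 = 0 → (s2 + (m.map fun x => x.2.s2).sum) % 38808 = 0 →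
      fin (m.reverse ++ acc) = true := by
  intro m
  induction m with
  | nil =>
    intro bs b2 ls l2 s1 s2 acc h _ _ _ h1 h2 h3 h4
    have h' : (!(Nat.beq ls tgt && Nat.beq l2 tgt && Nat.beq (s1 % 19404) 0 && Nat.beq (s2 % 38808) 0) ||
        fin acc) = true := h
    simp only [List.map_nil, List.sum_nil, Nat.add_zero] at h1 h2 h3 h4
    simp only [h1, h2, h3, h4, show ∀ n : ℕ, Nat.beq n n = true from fun n => by rw [Nat.beq_eq]] at h'
    simpa using h'
  | cons x r ih =>
    intro bs b2 ls l2 s1 s2 acc h hmem hb1 hb2 h1 h2 h3 h4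
    obtain ⟨e, q⟩ := x
    simp only [List.map_cons, List.sum_cons] at hb1 hb2 h1 h2 h3 h4
    have key : ∀ L : List O7, List.rec (motive := fun _ => Bool) true
        (fun q _ v => (Nat.blt bs q.ns || Nat.blt b2 q.n2 || go7 fin tgt (r.map Prod.fst) (bs - q.ns) (b2 - q.n2)
          (ls + q.ls) (l2 + q.l2) (s1 + q.s1) (s2 + q.s2) ((e, q) :: acc)) && v) L = true → q ∈ L →
        (Nat.blt bs q.ns || Nat.blt b2 q.n2 || go7 fin tgt (r.map Prod.fst) (bs - q.ns) (b2 - q.n2)
          (ls + q.ls) (l2 + q.l2) (s1 + q.s1) (s2 + q.s2) ((e, q) :: acc)) = true := by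
      intro L
      induction L with
      | nil => intro _ hh; exact absurd hh List.not_mem_nil
      | cons a t iht =>
        intro hh hq
        simp only [Bool.and_eq_true] at hh
        rcases List.mem_cons.1 hq with rfl | hq
        · exact hh.1
        · exact iht hh.2 hq
    have h' := key e.o7 h (hmem (e, q) List.mem_cons_self)
    have e1 : Nat.blt bs q.ns = false := Bool.eq_false_iff.2 fun hh => by rw [Nat.blt_eq] at hh; omega
    have e2 : Nat.blt b2 q.n2 = false := Bool.eq_false_iff.2 fun hh => by rw [Nat.blt_eq] at hh; omega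
    simp only [e1, e2, Bool.false_or] at h'
    have := ih (bs - q.ns) (b2 - q.n2) _ _ _ _ _ h' (fun y hy => hmem y (List.mem_cons_of_mem _ hy)) (by omega)
      (by omega) (by omega) (by omega) (by rw [Nat.add_assoc]; exact h3) (by rw [Nat.add_assoc]; exact h4)
    simpa [List.reverse_cons, List.append_assoc] using this

theorem go5_sound (fin : Bool) (tgt : ℕ) :
    ∀ (m : List ((Item × ℕ) × O5)) (b0 b1 la lt s0 s3 : ℕ),
      go5 fin tgt (m.map Prod.fst) b0 b1 la lt s0 s3 = true → (∀ x ∈ m, x.2 ∈ x.1.1.o5) →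
      (m.map fun x => x.2.aa).sum ≤ b0 → (m.map fun x => x.2.tt).sum ≤ b1 →
      la + (m.map fun x => x.2.la).sum = tgt → lt + (m.map fun x => x.2.lt).sum = tgt →
      (s0 + (m.map fun x => x.2.s0).sum) % 39600 = 0 →
      (s3 + (m.map fun x => x.2.x3 * x.1.2).sum) % 55440 = 0 → fin = true := by
  intro m
  induction m with
  | nil =>
    intro b0 b1 la lt s0 s3 h _ _ _ h1 h2 h3 h4
    have h' : (!(Nat.beq la tgt && Nat.beq lt tgt && Nat.beq (s0 % 39600) 0 && Nat.beq (s3 % 55440) 0) ||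
        fin) = true := h
    simp only [List.map_nil, List.sum_nil, Nat.add_zero] at h1 h2 h3 h4
    simp only [h1, h2, h3, h4, show ∀ n : ℕ, Nat.beq n n = true from fun n => by rw [Nat.beq_eq]] at h'
    simpa using h'
  | cons x r ih =>
    intro b0 b1 la lt s0 s3 h hmem hb1 hb2 h1 h2 h3 h4
    obtain ⟨⟨e, R⟩, q⟩ := x
    simp only [List.map_cons, List.sum_cons] at hb1 hb2 h1 h2 h3 h4
    have key : ∀ L : List O5, List.rec (motive := fun _ => Bool) true
        (fun q _ v => (Nat.blt b0 q.aa || Nat.blt b1 q.tt || go5 fin tgt (r.map Prod.fst) (b0 - q.aa)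
          (b1 - q.tt) (la + q.la) (lt + q.lt) (s0 + q.s0) (s3 + q.x3 * R)) && v) L = true → q ∈ L →
        (Nat.blt b0 q.aa || Nat.blt b1 q.tt || go5 fin tgt (r.map Prod.fst) (b0 - q.aa) (b1 - q.tt)
          (la + q.la) (lt + q.lt) (s0 + q.s0) (s3 + q.x3 * R)) = true := by
      intro L
      induction L with
      | nil => intro _ hh; exact absurd hh List.not_mem_nil
      | cons a t iht =>
        intro hh hq
        simp only [Bool.and_eq_true] at hh
        rcases List.mem_cons.1 hq with rfl | hq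
        · exact hh.1
        · exact iht hh.2 hq
    have h' := key e.o5 h (hmem ((e, R), q) List.mem_cons_self)
    have e1 : Nat.blt b0 q.aa = false := Bool.eq_false_iff.2 fun hh => by rw [Nat.blt_eq] at hh; omega
    have e2 : Nat.blt b1 q.tt = false := Bool.eq_false_iff.2 fun hh => by rw [Nat.blt_eq] at hh; omega
    simp only [e1, e2, Bool.false_or] at h'
    exact ih (b0 - q.aa) (b1 - q.tt) _ _ _ _ h' (fun y hy => hmem y (List.mem_cons_of_mem _ hy)) (by omega)
      (by omega) (by omega) (by omega) (by rw [Nat.add_assoc]; exact h3) (by rw [Nat.add_assoc]; exact h4)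


theorem noOut_sound (sel : ℤ × ℤ × ℤ × ℤ → ℤ × ℤ) :
    ∀ (fuel : ℕ) (l : List Out) (b L cap : ℤ) (m : List (ℕ × (ℤ × ℤ × ℤ × ℤ))),
      noOut sel fuel l b L cap = true → (∀ x ∈ m, ∃ o ∈ l, o.d = x.1 ∧ x.2 ∈ o.o7) →
      (∀ x ∈ m, 0 < (sel x.2).2) → (m.map fun x => (sel x.2).2).sum = b → b ≤ fuel →
      L + (m.map fun x => (x.1 : ℤ) * (sel x.2).1).sum = 0 →
      (m.map fun x => (x.1 : ℤ) * (x.1 : ℤ)).sum ≤ cap → False := by
  intro fuel
  induction fuel with
  | zero =>
    intro l b L cap m h _ hpos hb hfu hL hcap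
    cases m with
    | nil =>
      simp only [List.map_nil, List.sum_nil, add_zero] at hb hL hcap
      simp [noOut, ← hb, hL, hcap] at h
    | cons x r =>
      have h0 := hpos x List.mem_cons_self
      have h1 : 0 ≤ (r.map fun x => (sel x.2).2).sum := List.sum_nonneg fun y hy => by
        obtain ⟨z, hz, rfl⟩ := List.mem_map.1 hy
        exact (hpos z (List.mem_cons_of_mem x hz)).le
      simp only [List.map_cons, List.sum_cons] at hb
      omega
  | succ fuel ih =>
    intro l b L cap m h hmem hpos hb hfu hL hcap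
    have hc : decide (cap < 0) = false := decide_eq_false fun hlt => by
      have : 0 ≤ (m.map fun x => (x.1 : ℤ) * (x.1 : ℤ)).sum := List.sum_nonneg fun y hy => by
        obtain ⟨z, -, rfl⟩ := List.mem_map.1 hy
        exact mul_self_nonneg _
      omega
    simp only [noOut, hc, Bool.false_or] at h
    cases m with
    | nil =>
      simp only [List.map_nil, List.sum_nil, add_zero] at hb hL
      simp [← hb, hL] at h
    | cons x r =>
      have h1 : 0 ≤ (r.map fun x => (sel x.2).2).sum := List.sum_nonneg fun y hy => by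
        obtain ⟨z, hz, rfl⟩ := List.mem_map.1 hy
        exact (hpos z (List.mem_cons_of_mem x hz)).le
      have h0 := hpos x List.mem_cons_self
      simp only [List.map_cons, List.sum_cons] at hb
      rw [if_neg (show ¬ b = 0 by omega)] at h
      -- the entry of `m` standing first in `l`
      have key : ∀ l : List Out, allFrom (fun o r => o.o7.all fun q =>
          decide ((sel q).2 ≤ 0) || decide (b < (sel q).2) ||
            noOut sel fuel r (b - (sel q).2) (L + (o.d : ℤ) * (sel q).1) (cap - (o.d : ℤ) * (o.d : ℤ))) l = true →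
          (∀ y ∈ x :: r, ∃ o ∈ l, o.d = y.1 ∧ y.2 ∈ o.o7) → False := by
        intro l
        induction l with
        | nil => intro _ hm; obtain ⟨o, ho, -⟩ := hm x List.mem_cons_self; exact absurd ho List.not_mem_nil
        | cons o t iht =>
          intro hf hm
          simp only [allFrom, Bool.and_eq_true] at hf
          by_cases hex : ∃ y ∈ x :: r, o.d = y.1 ∧ y.2 ∈ o.o7
          · obtain ⟨y, hy, hyd, hyo⟩ := hex
            obtain ⟨s, hs, -⟩ := perm_pick hy
            have hq := List.all_eq_true.1 hf.1 y.2 hyo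
            have hsum := (hs.map fun z => (sel z.2).2).sum_eq
            have hLs := (hs.map fun z => (z.1 : ℤ) * (sel z.2).1).sum_eq
            have hCs := (hs.map fun z => (z.1 : ℤ) * (z.1 : ℤ)).sum_eq
            simp only [List.map_cons, List.sum_cons] at hsum hLs hCs hL hcap
            have hyp := hpos y hy
            have hsn : 0 ≤ (s.map fun z => (sel z.2).2).sum := List.sum_nonneg fun z hz => by
              obtain ⟨w, hw, rfl⟩ := List.mem_map.1 hz
              exact (hpos w (hs.symm.subset (List.mem_cons_of_mem y hw))).le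
            rw [decide_eq_false (by omega : ¬ (sel y.2).2 ≤ 0), decide_eq_false (by omega : ¬ b < (sel y.2).2),
              Bool.false_or, Bool.false_or] at hq
            rw [hyd] at hq
            exact ih (o :: t) _ _ _ s hq (fun z hz => hm z (hs.symm.subset (List.mem_cons_of_mem y hz)))
              (fun z hz => hpos z (hs.symm.subset (List.mem_cons_of_mem y hz))) (by omega) (by omega) (by omega)
              (by omega)
          · refine iht hf.2 fun y hy => ?_
            obtain ⟨o', ho', h2⟩ := hm y hy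
            rcases List.mem_cons.1 ho' with rfl | ho'
            · exact absurd ⟨y, hy, h2⟩ hex
            · exact ⟨o', ho', h2⟩
      exact key l h hmem

/-- A choice at five of the degree known from the block at seven, with the initial values. -/
def mkF (r : CaseRaw) (q : ℤ × ℤ) : O5 :=
  ⟨(5 - (r.kb : ℤ) * (q.1 * q.1)).toNat, (10 - (r.kb : ℤ) * (q.2 * q.2)).toNat,
    ((r.kb : ℤ) * sgn r.b * q.1 + 8).toNat, ((r.kb : ℤ) * sgn r.b * q.2 + 8).toNat,
    ((244823040 + wt r.a + (r.kb : ℤ) * wt r.b * ((3 * q.1 + q.2) * (3 * q.1 + q.2))) % 39600).toNat,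
    ((244823040 * 2 + wt r.a * rr r.g7 + (r.kb : ℤ) * wt r.b * (3 * q.1 + q.2) * r.rb) % 55440).toNat⟩

/-- The initial values of a case agree with its data. -/
def CaseOK (c : Case) : Prop :=
  (c.k + c.r.kb = 9) ∧
  (c.sd : ℤ) = 16000 + (1 + sgn c.r.a * (c.r.a : ℤ) + (c.r.kb : ℤ) * (sgn c.r.b * (c.r.b : ℤ))) ∧
  (c.cap : ℤ) = 244823040 - 1 - (c.r.a : ℤ) * (c.r.a : ℤ) - (c.r.kb : ℤ) * ((c.r.b : ℤ) * (c.r.b : ℤ)) ∧
  (c.bs : ℤ) = 7 - c.r.g7.2.1 ∧ (c.b2 : ℤ) = 7 - c.r.g7.2.2.2 ∧
  (c.ls : ℤ) = 8 + sgn c.r.a * c.r.g7.1 ∧ (c.l2 : ℤ) = 8 + sgn c.r.a * c.r.g7.2.2.1 ∧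
  (c.s1 : ℤ) = (244823040 + wt c.r.a * nn c.r.g7 + (c.r.kb : ℤ) * wt c.r.b * c.r.nb) % 19404 ∧
  (c.s2 : ℤ) = (244823040 * 2 + wt c.r.a * (rr c.r.g7 * rr c.r.g7 - 2 * nn c.r.g7) +
    (c.r.kb : ℤ) * wt c.r.b * (c.r.rb * c.r.rb - 2 * c.r.nb)) % 38808 ∧
  0 ≤ c.r.g7.2.1 ∧ 0 ≤ c.r.g7.2.2.2 ∧
  ∀ q ∈ c.r.f5, mkF c.r q ∈ c.f ∧ (c.r.kb : ℤ) * (q.1 * q.1) ≤ 5 ∧ (c.r.kb : ℤ) * (q.2 * q.2) ≤ 10 ∧
    -8 ≤ (c.r.kb : ℤ) * sgn c.r.b * q.1 ∧ -8 ≤ (c.r.kb : ℤ) * sgn c.r.b * q.2

theorem check_append {c : Case} {i n m : ℕ} (h1 : check c i n = true) (h2 : check c (i + n) m = true) :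
    check c i (n + m) = true := by
  simp only [check, List.all_eq_true, List.mem_range'_1] at h1 h2 ⊢
  intro q hq
  by_cases hlt : q < i + n
  · exact h1 q ⟨hq.1, hlt⟩
  · exact h2 q ⟨by omega, by omega⟩

theorem checkA : check caseA 0 22 = true := check_append (n := 4) (m := 18) checkA_0 checkA_4

theorem checkB : check caseB 0 22 = true := checkB_0

theorem checkC : check caseC 0 22 = true := check_append (n := 4) (m := 18) checkC_0 checkC_4

theorem checkD : check caseD 0 22 = true := checkD_0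

theorem okA : CaseOK caseA := by
  refine ⟨?_, ?_, ?_, ?_, ?_, ?_, ?_, ?_, ?_, ?_, ?_, ?_⟩ <;> decide +kernel

theorem okB : CaseOK caseB := by
  refine ⟨?_, ?_, ?_, ?_, ?_, ?_, ?_, ?_, ?_, ?_, ?_, ?_⟩ <;> decide +kernel

theorem okC : CaseOK caseC := by
  refine ⟨?_, ?_, ?_, ?_, ?_, ?_, ?_, ?_, ?_, ?_, ?_, ?_⟩ <;> decide +kernel

theorem okD : CaseOK caseD := by
  refine ⟨?_, ?_, ?_, ?_, ?_, ?_, ?_, ?_, ?_, ?_, ?_, ?_⟩ <;> decide +kernel

theorem top_sound {α : Type} (f : α → Item) (c : Case) {k : ℕ} (m : List α)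
    (h : check c 0 22 = true) (hk : c.k = k + 1) (hm : m.length = k + 1) (hmem : ∀ x ∈ m, f x ∈ items)
    (hS : c.sd + (m.map fun x => (f x).sv).sum = 16000 * (c.k + 1))
    (hcap : (m.map fun x => (f x).sq).sum ≤ c.cap) :
    ∃ m' : List α, m'.Perm m ∧ leaf c (c.cap - (m.map fun x => (f x).sq).sum) (m'.map f) = true := by
  have key : ∀ q : ℕ, q < 22 → top c k (items.drop q) = true := fun q hq => by
    have h' := List.all_eq_true.1 h q (List.mem_range'_1.2 ⟨Nat.zero_le _, by omega⟩)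
    rwa [hk, Nat.add_sub_cancel] at h'
  have main : ∀ (j q : ℕ), q + j = 22 → bdOK (items.drop q) = true → (∀ x ∈ m, f x ∈ items.drop q) →
      ∃ m' : List α, m'.Perm m ∧ leaf c (c.cap - (m.map fun x => (f x).sq).sum) (m'.map f) = true := by
    intro j
    induction j with
    | zero =>
      intro q hq _ hsub
      cases m with
      | nil => simp at hm
      | cons a t =>
        have h0 := hsub a List.mem_cons_self
        rw [List.drop_eq_nil_of_le (by
          have : items.length = 22 := by decide +kernel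
          omega)] at h0
        exact absurd h0 List.not_mem_nil
    | succ j ihj =>
      intro q hq hbd hsub
      have hlen : q < items.length := by
        have : items.length = 22 := by decide +kernel
        omega
      obtain ⟨e, he⟩ : ∃ e, items.drop q = e :: items.drop (q + 1) := ⟨_, List.drop_eq_getElem_cons hlen⟩
      rw [he] at hbd hsub
      have ht := key q (by omega)
      rw [he] at ht
      by_cases hex : ∃ x ∈ m, f x = e
      · obtain ⟨x, hx, hfx⟩ := hex
        obtain ⟨r, hr, hrl⟩ := perm_pick hx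
        have hsv := (hr.map fun y => (f y).sv).sum_eq
        have hsq := (hr.map fun y => (f y).sq).sum_eq
        simp only [List.map_cons, List.sum_cons, hfx] at hsv hsq
        have hc : Nat.blt c.cap e.sq = false := Bool.eq_false_iff.2 fun hh => by
          rw [Nat.blt_eq] at hh; omega
        simp only [top, hc, Bool.false_or] at ht
        obtain ⟨m', hm', hfin⟩ := scan_sound f (leaf c) (16000 * (c.k + 1)) k (e :: items.drop (q + 1))
          (c.sd + e.sv) (c.cap - e.sq) [e] r ht hbd (by omega)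
          (fun y hy => hsub y (hr.symm.subset (List.mem_cons_of_mem x hy))) (by omega) (by omega)
        refine ⟨m' ++ [x], (List.perm_append_singleton x m').trans ((hm'.cons x).trans hr.symm), ?_⟩
        rw [hsq, List.map_append, List.map_singleton, hfx,
          show c.cap - (e.sq + (r.map fun y => (f y).sq).sum) = c.cap - e.sq - (r.map fun y => (f y).sq).sum by omega]
        exact hfin
      · refine ihj (q + 1) (by omega) (bdOK_tail hbd).1 fun x hx => ?_
        exact (List.mem_cons.1 (hsub x hx)).resolve_left fun e0 => hex ⟨x, hx, e0⟩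
  exact main 22 0 rfl items_bd hmem

theorem sum_toNat {α : Type} (g : α → ℕ) (h : α → ℤ) (m : List α) (he : ∀ x ∈ m, (g x : ℤ) = h x) :
    (((m.map g).sum : ℕ) : ℤ) = (m.map h).sum := by
  induction m with
  | nil => simp
  | cons a t ih =>
    simp [he a List.mem_cons_self, ih fun x hx => he x (List.mem_cons_of_mem a hx)]

theorem sum_modEq {α : Type} (g : α → ℕ) (h : α → ℤ) (n : ℤ) (m : List α)
    (he : ∀ x ∈ m, (g x : ℤ) ≡ h x [ZMOD n]) : (((m.map g).sum : ℕ) : ℤ) ≡ (m.map h).sum [ZMOD n] := by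
  induction m with
  | nil => simp
  | cons a t ih =>
    simp only [List.map_cons, List.sum_cons, Nat.cast_add]
    exact Int.ModEq.add (he a List.mem_cons_self) (ih fun x hx => he x (List.mem_cons_of_mem a hx))

theorem toNat_modEq (x : ℤ) {n : ℤ} (hn : 0 < n) : (((x % n).toNat : ℕ) : ℤ) ≡ x [ZMOD n] := by
  rw [Int.toNat_of_nonneg (Int.emod_nonneg x hn.ne')]
  exact Int.mod_modEq x n

theorem mod_zero {a n : ℕ} {d z : ℤ} (hz : d ∣ z) (h : (a : ℤ) ≡ z [ZMOD d]) (hd : d = (n : ℤ)) :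
    a % n = 0 := by
  apply Nat.mod_eq_zero_of_dvd
  rw [← Int.natCast_dvd_natCast, ← hd]
  exact (Int.ModEq.dvd_iff h).2 hz

/-- The equations of the column orthogonality and of the class multiplications. -/
structure Eqns (r : CaseRaw) (f : ℤ × ℤ) (sel : List Pick) (out : List (ℕ × (ℤ × ℤ × ℤ × ℤ))) : Prop where
  sd : 1 + sgn r.a * (r.a : ℤ) + (r.kb : ℤ) * (sgn r.b * (r.b : ℤ)) +
    (sel.map fun x => sgn x.1 * (x.1 : ℤ)).sum = 0
  sq : 1 + (r.a : ℤ) * r.a + (r.kb : ℤ) * ((r.b : ℤ) * r.b) + (sel.map fun x => (x.1 : ℤ) * x.1).sum +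
    (out.map fun x => (x.1 : ℤ) * x.1).sum ≤ 244823040
  n5a : (r.kb : ℤ) * (f.1 * f.1) + (sel.map fun x => x.2.1.1 * x.2.1.1).sum ≤ 5
  n5t : (r.kb : ℤ) * (f.2 * f.2) + (sel.map fun x => x.2.1.2 * x.2.1.2).sum ≤ 10
  o5a : (r.kb : ℤ) * sgn r.b * f.1 + (sel.map fun x => sgn x.1 * x.2.1.1).sum = 0
  o5t : (r.kb : ℤ) * sgn r.b * f.2 + (sel.map fun x => sgn x.1 * x.2.1.2).sum = 0
  n7s : r.g7.2.1 + (sel.map fun x => x.2.2.2.1).sum + (out.map fun x => x.2.2.1).sum = 7
  n7t : r.g7.2.2.2 + (sel.map fun x => x.2.2.2.2.2).sum + (out.map fun x => x.2.2.2.2).sum = 7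
  o7s : sgn r.a * r.g7.1 + (sel.map fun x => sgn x.1 * x.2.2.1).sum = 0
  o7t : sgn r.a * r.g7.2.2.1 + (sel.map fun x => sgn x.1 * x.2.2.2.2.1).sum = 0
  d7s : (r.a : ℤ) * r.g7.1 + (sel.map fun x => (x.1 : ℤ) * x.2.2.1).sum +
    (out.map fun x => (x.1 : ℤ) * x.2.1).sum = 0
  d7t : (r.a : ℤ) * r.g7.2.2.1 + (sel.map fun x => (x.1 : ℤ) * x.2.2.2.2.1).sum +
    (out.map fun x => (x.1 : ℤ) * x.2.2.2.1).sum = 0
  c5 : 39600 ∣ 244823040 + wt r.a + (r.kb : ℤ) * wt r.b * ((3 * f.1 + f.2) * (3 * f.1 + f.2)) +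
    (sel.map fun x => wt x.1 * ((3 * x.2.1.1 + x.2.1.2) * (3 * x.2.1.1 + x.2.1.2))).sum
  c7 : 19404 ∣ 244823040 + wt r.a * nn r.g7 + (r.kb : ℤ) * wt r.b * r.nb +
    (sel.map fun x => wt x.1 * nn x.2.2).sum
  c77 : 38808 ∣ 244823040 * 2 + wt r.a * (rr r.g7 * rr r.g7 - 2 * nn r.g7) +
    (r.kb : ℤ) * wt r.b * (r.rb * r.rb - 2 * r.nb) +
    (sel.map fun x => wt x.1 * (rr x.2.2 * rr x.2.2 - 2 * nn x.2.2)).sum
  c57 : 55440 ∣ 244823040 * 2 + wt r.a * rr r.g7 + (r.kb : ℤ) * wt r.b * (3 * f.1 + f.2) * r.rb +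
    (sel.map fun x => wt x.1 * (3 * x.2.1.1 + x.2.1.2) * rr x.2.2).sum

attribute [local irreducible] wt sgn nn rr

theorem ite_out {q : ℤ × ℤ × ℤ × ℤ} {D : Out} (hD : D ∈ outs) (hq : q ∈ D.o7) :
    0 ≤ q.2.1 ∧ 0 ≤ q.2.2.2 ∧ (q.2.1 = 0 → q.1 = 0) ∧ (q.2.2.2 = 0 → q.2.2.1 = 0) :=
  (by decide +kernel : ∀ D ∈ outs, ∀ q ∈ D.o7,
    0 ≤ q.2.1 ∧ 0 ≤ q.2.2.2 ∧ (q.2.1 = 0 → q.1 = 0) ∧ (q.2.2.2 = 0 → q.2.2.1 = 0)) D hD q hq

theorem sum_filter {α : Type} (g : α → ℤ) (p : α → Bool) (m : List α) (h : ∀ x ∈ m, p x = false → g x = 0) :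
    ((m.filter p).map g).sum = (m.map g).sum := by
  induction m with
  | nil => rfl
  | cons a t ih =>
    have ih' := ih fun x hx => h x (List.mem_cons_of_mem a hx)
    cases hp : p a
    · simp [hp, h a List.mem_cons_self hp, ih']
    · simp [hp, ih']

theorem sq_filter {α : Type} (g : α → ℤ) (p : α → Bool) (m : List α) (h : ∀ x ∈ m, 0 ≤ g x) :
    ((m.filter p).map g).sum ≤ (m.map g).sum := by
  induction m with
  | nil => rfl
  | cons a t ih =>
    have ih' := ih fun x hx => h x (List.mem_cons_of_mem a hx)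
    have := h a List.mem_cons_self
    cases hp : p a <;> simp [hp] <;> omega

set_option maxHeartbeats 800000 in
/-- The search leaves only solutions with the degree 23. -/
theorem sound {c : Case} (ok : CaseOK c) (hc : check c 0 22 = true) (hk : 1 < c.k) {f : ℤ × ℤ}
    (hf : f ∈ c.r.f5) {sel : List Pick} (hlen : sel.length = c.k) (hsel : ∀ x ∈ sel, Allowed x)
    {out : List (ℕ × (ℤ × ℤ × ℤ × ℤ))} (hout : ∀ x ∈ out, AllowedOut x) (E : Eqns c.r f sel out) :
    ∃ x ∈ sel, x.1 = 23 := by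
  classical
  by_contra hno
  obtain ⟨ok1, ok2, ok3, ok4, ok5, ok6, ok7, ok8, ok9, okn1, okn2, ok10⟩ := ok
  obtain ⟨hfm, hf5, hf10, hfa, hft⟩ := ok10 f hf
  have info : ∀ x ∈ sel, itemOf x.1 ∈ items ∧ (itemOf x.1).d = x.1 ∧
      ((itemOf x.1).sv : ℤ) = sgn x.1 * (x.1 : ℤ) + 16000 ∧ (itemOf x.1).sq = x.1 * x.1 ∧
      (mkO5 x.1 x.2.1 ∈ (itemOf x.1).o5 ∧ -8 ≤ sgn x.1 * x.2.1.1 ∧ -8 ≤ sgn x.1 * x.2.1.2) ∧
      (mkO7 x.1 x.2.2 ∈ (itemOf x.1).o7 ∧ 0 ≤ x.2.2.2.1 ∧ 0 ≤ x.2.2.2.2.2 ∧ -8 ≤ sgn x.1 * x.2.2.1 ∧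
        -8 ≤ sgn x.1 * x.2.2.2.2.1) := by
    intro x hx
    obtain ⟨D, hD, h1, h2, h3⟩ := hsel x hx
    obtain ⟨a1, a2, a3, a4, a5, a6⟩ := items_ok D hD
    rw [h1] at a1 a2 a3 a4 a5 a6
    exact ⟨a1, a2, a3, a4, a5 _ h2, a6 _ h3⟩
  -- the lists of degrees
  obtain ⟨k, hk'⟩ : ∃ k, c.k = k + 1 := ⟨c.k - 1, by omega⟩
  have hsv := sum_toNat (fun x : Pick => (itemOf x.1).sv) (fun x => sgn x.1 * (x.1 : ℤ) + 16000) sel
    fun x hx => (info x hx).2.2.1
  have hsq := sum_toNat (fun x : Pick => (itemOf x.1).sq) (fun x => (x.1 : ℤ) * x.1) sel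
    fun x hx => by rw [(info x hx).2.2.2.1]; push_cast; ring
  have hmapc : (sel.map fun x => sgn x.1 * (x.1 : ℤ) + 16000).sum =
      (sel.map fun x => sgn x.1 * (x.1 : ℤ)).sum + (sel.length : ℤ) * 16000 := by
    rw [List.sum_map_add, List.map_const', List.sum_replicate, nsmul_eq_mul]
  have houtnn : ∀ x ∈ out, 0 ≤ (x.1 : ℤ) * x.1 := fun x _ => mul_self_nonneg _
  have h0 : 0 ≤ (out.map fun x => (x.1 : ℤ) * x.1).sum := List.sum_nonneg fun y hy => by
    obtain ⟨z, -, rfl⟩ := List.mem_map.1 hy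
    exact mul_self_nonneg _
  obtain ⟨m', hperm, hleaf⟩ := top_sound (fun x : Pick => itemOf x.1) c sel hc hk' (hlen.trans hk')
    (fun x hx => (info x hx).1) (by have := E.sd; rw [hlen] at hmapc; omega)
    (by have := E.sq; omega)
  have info' : ∀ x ∈ m', _ := fun x hx => info x (hperm.subset hx)
  set cap' := c.cap - (sel.map fun x => (itemOf x.1).sq).sum with hcap'
  have h23 : ((m'.map fun x => itemOf x.1).any fun e => Nat.beq e.d 23) = false := by
    rw [List.any_eq_false]
    intro e he h23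
    obtain ⟨x, hx, rfl⟩ := List.mem_map.1 he
    rw [(info' x hx).2.1, Nat.beq_eq] at h23
    exact hno ⟨x, hperm.subset hx, h23⟩
  simp only [leaf, h23, Bool.false_or] at hleaf
  -- the coordinates at seven
  let pr : Pick → Item × O7 := fun x => (itemOf x.1, mkO7 x.1 x.2.2)
  have hmap1 : (m'.map fun x => itemOf x.1) = (m'.map pr).map Prod.fst := by
    rw [List.map_map]; rfl
  rw [hmap1] at hleaf
  have P : ∀ g : Pick → ℤ, (m'.map g).sum = (sel.map g).sum := fun g => (hperm.map g).sum_eq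
  have hlen' : m'.length = c.k := hperm.length_eq.trans hlen
  have S : ∀ (g : Pick → ℕ) (h : Pick → ℤ), (∀ x ∈ m', (g x : ℤ) = h x) →
      (((m'.map g).sum : ℕ) : ℤ) = (sel.map h).sum := fun g h e => (sum_toNat g h m' e).trans (P h)
  have S8 : ∀ (g : Pick → ℕ) (h : Pick → ℤ), (∀ x ∈ m', (g x : ℤ) = h x + 8) →
      (((m'.map g).sum : ℕ) : ℤ) = (sel.map h).sum + (c.k : ℤ) * 8 := fun g h e => by
    rw [sum_toNat g (fun x => h x + 8) m' e, List.sum_map_add, P, List.map_const', List.sum_replicate,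
      nsmul_eq_mul, hlen']
  have hn7 : ∀ g : (ℕ × (ℤ × ℤ × ℤ × ℤ)) → ℤ, (∀ x ∈ out, 0 ≤ g x) → 0 ≤ (out.map g).sum :=
    fun g hg => List.sum_nonneg fun y hy => by
      obtain ⟨z, hz, rfl⟩ := List.mem_map.1 hy
      exact hg z hz
  have hns := hn7 (fun x => x.2.2.1) fun x hx => by
    obtain ⟨D, hD, -, hq⟩ := hout x hx
    exact (ite_out hD hq).1
  have hn2 := hn7 (fun x => x.2.2.2.2) fun x hx => by
    obtain ⟨D, hD, -, hq⟩ := hout x hx
    exact (ite_out hD hq).2.1
  have h7 := go7_sound _ _ (m'.map pr) _ _ _ _ _ _ [] hleaf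
    (fun y hy => by
      obtain ⟨x, hx, rfl⟩ := List.mem_map.1 hy
      exact (info' x hx).2.2.2.2.2.1)
    (by
      rw [List.map_map]
      have := S (fun x => (mkO7 x.1 x.2.2).ns) (fun x => x.2.2.2.1) fun x hx =>
        Int.toNat_of_nonneg (info' x hx).2.2.2.2.2.2.1
      have := E.n7s
      simp only [pr, Function.comp_def] at *
      omega)
    (by
      rw [List.map_map]
      have := S (fun x => (mkO7 x.1 x.2.2).n2) (fun x => x.2.2.2.2.2) fun x hx =>
        Int.toNat_of_nonneg (info' x hx).2.2.2.2.2.2.2.1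
      have := E.n7t
      simp only [pr, Function.comp_def] at *
      omega)
    (by
      rw [List.map_map]
      have := S8 (fun x => (mkO7 x.1 x.2.2).ls) (fun x => sgn x.1 * x.2.2.1) fun x hx => by
        show ((sgn x.1 * x.2.2.1 + 8).toNat : ℤ) = _
        have := (info' x hx).2.2.2.2.2.2.2.2.1
        omega
      have := E.o7s
      simp only [pr, Function.comp_def] at *
      omega)
    (by
      rw [List.map_map]
      have := S8 (fun x => (mkO7 x.1 x.2.2).l2) (fun x => sgn x.1 * x.2.2.2.2.1) fun x hx => by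
        show ((sgn x.1 * x.2.2.2.2.1 + 8).toNat : ℤ) = _
        have := (info' x hx).2.2.2.2.2.2.2.2.2
        omega
      have := E.o7t
      simp only [pr, Function.comp_def] at *
      omega)
    (mod_zero (n := 19404) E.c7 (by
      rw [List.map_map, Nat.cast_add]
      refine Int.ModEq.add ?_ ((sum_modEq _ (fun x => wt x.1 * nn x.2.2) _ m' fun x _ =>
        toNat_modEq _ (by norm_num)).trans (by rw [P]))
      rw [ok8]; exact Int.mod_modEq _ _) (by norm_num))
    (mod_zero (n := 38808) E.c77 (by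
      rw [List.map_map, Nat.cast_add]
      refine Int.ModEq.add ?_ ((sum_modEq _ (fun x => wt x.1 * (rr x.2.2 * rr x.2.2 - 2 * nn x.2.2)) _ m'
        fun x _ => toNat_modEq _ (by norm_num)).trans (by rw [P]))
      rw [ok9]; exact Int.mod_modEq _ _) (by norm_num))
  rw [List.append_nil] at h7
  -- the coordinates at five
  have h5 := List.all_eq_true.1 h7 _ hfm
  let pr5 : Pick → (Item × ℕ) × O5 := fun x => ((itemOf x.1, (rr x.2.2 % 55440).toNat), mkO5 x.1 x.2.1)
  have hmap2 : (((m'.map pr).reverse).map fun x => (x.1, x.2.r3)) = ((m'.reverse).map pr5).map Prod.fst := by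
    simp [List.map_map, List.map_reverse, pr, pr5, mkO7, Function.comp_def]
  rw [hmap2] at h5
  have hR : ∀ g : Pick → ℕ, ((m'.reverse).map g).sum = (m'.map g).sum := fun g =>
    ((List.reverse_perm m').map g).sum_eq
  have hfin := go5_sound _ _ ((m'.reverse).map pr5) _ _ _ _ _ _ h5
    (fun y hy => by
      obtain ⟨x, hx, rfl⟩ := List.mem_map.1 hy
      exact (info' x (List.mem_reverse.1 hx)).2.2.2.2.1.1)
    (by
      rw [List.map_map, hR]
      have := S (fun x => (mkO5 x.1 x.2.1).aa) (fun x => x.2.1.1 * x.2.1.1) fun x _ =>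
        Int.toNat_of_nonneg (mul_self_nonneg _)
      have := E.n5a
      simp only [pr5, Function.comp_def, mkF] at *
      omega)
    (by
      rw [List.map_map, hR]
      have := S (fun x => (mkO5 x.1 x.2.1).tt) (fun x => x.2.1.2 * x.2.1.2) fun x _ =>
        Int.toNat_of_nonneg (mul_self_nonneg _)
      have := E.n5t
      simp only [pr5, Function.comp_def, mkF] at *
      omega)
    (by
      rw [List.map_map, hR]
      have := S8 (fun x => (mkO5 x.1 x.2.1).la) (fun x => sgn x.1 * x.2.1.1) fun x hx => by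
        show ((sgn x.1 * x.2.1.1 + 8).toNat : ℤ) = _
        have := (info' x hx).2.2.2.2.1.2.1
        omega
      have := E.o5a
      simp only [pr5, Function.comp_def, mkF] at *
      omega)
    (by
      rw [List.map_map, hR]
      have := S8 (fun x => (mkO5 x.1 x.2.1).lt) (fun x => sgn x.1 * x.2.1.2) fun x hx => by
        show ((sgn x.1 * x.2.1.2 + 8).toNat : ℤ) = _
        have := (info' x hx).2.2.2.2.1.2.2
        omega
      have := E.o5t
      simp only [pr5, Function.comp_def, mkF] at *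
      omega)
    (mod_zero (n := 39600) E.c5 (by
      rw [List.map_map, hR, Nat.cast_add]
      exact Int.ModEq.add (toNat_modEq _ (by norm_num)) ((sum_modEq _
        (fun x => wt x.1 * ((3 * x.2.1.1 + x.2.1.2) * (3 * x.2.1.1 + x.2.1.2))) _ m'
        fun x _ => toNat_modEq _ (by norm_num)).trans (by rw [P]))) (by norm_num))
    (mod_zero (n := 55440) E.c57 (by
      rw [List.map_map, hR, Nat.cast_add]
      exact Int.ModEq.add (toNat_modEq _ (by norm_num)) ((sum_modEq _
        (fun x => wt x.1 * (3 * x.2.1.1 + x.2.1.2) * rr x.2.2) _ m' fun x _ => by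
          show (((wt x.1 * (3 * x.2.1.1 + x.2.1.2) % 55440).toNat * (rr x.2.2 % 55440).toNat : ℕ) : ℤ) ≡ _ [ZMOD _]
          rw [Nat.cast_mul]
          exact Int.ModEq.mul (toNat_modEq _ (by norm_num)) (toNat_modEq _ (by norm_num))).trans (by rw [P])))
      (by norm_num))
  -- the completion
  have hsel7 : 0 ≤ (sel.map fun x => x.2.2.2.1).sum ∧ 0 ≤ (sel.map fun x => x.2.2.2.2.2).sum := by
    constructor <;> refine List.sum_nonneg fun y hy => ?_ <;> obtain ⟨z, hz, rfl⟩ := List.mem_map.1 hy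
    exacts [(info z hz).2.2.2.2.2.2.1, (info z hz).2.2.2.2.2.2.2.1]
  set L : List (ℕ × (ℤ × ℤ × ℤ × ℤ)) :=
    (c.r.a, c.r.g7) :: (m'.map pr).reverse.map fun x => (x.1.d, x.2.q) with hL
  have hLg : ∀ g : ℕ × (ℤ × ℤ × ℤ × ℤ) → ℤ,
      (L.map g).sum = g (c.r.a, c.r.g7) + (sel.map fun x => g (x.1, x.2.2)).sum := fun g => by
    rw [hL, List.map_cons, List.sum_cons, List.map_map, ← List.map_reverse, List.map_map,
      ((List.reverse_perm m').map _).sum_eq]
    congr 1
    rw [← P]
    refine congrArg List.sum (List.map_congr_left fun x hx => ?_)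
    simp [pr, mkO7, (info' x hx).2.1]
  simp only [refuteOut, Bool.or_eq_true] at hfin
  have hcapz : (cap' : ℤ) = c.cap - (sel.map fun x => (x.1 : ℤ) * x.1).sum := by
    have := E.sq
    rw [hcap', Nat.cast_sub (by omega)]
    omega
  have hsqle : ∀ p : ℕ × (ℤ × ℤ × ℤ × ℤ) → Bool,
      ((out.filter p).map fun x => (x.1 : ℤ) * x.1).sum ≤ (cap' : ℤ) := fun p => by
    have h1 := sq_filter (fun x : ℕ × (ℤ × ℤ × ℤ × ℤ) => (x.1 : ℤ) * x.1) p out houtnn
    have := E.sq
    omega
  rcases hfin with h | h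
  · refine noOut_sound _ 7 outs _ _ _ (out.filter fun x => decide (0 < x.2.2.2.2)) h
      (fun x hx => hout x (List.mem_filter.1 hx).1)
      (fun x hx => of_decide_eq_true (List.mem_filter.1 hx).2) ?_ ?_ ?_ (hsqle _)
    · show ((out.filter _).map fun x => x.2.2.2.2).sum = _
      rw [sum_filter _ _ _ fun x hx hp => by
        obtain ⟨D, hD, -, hq⟩ := hout x hx
        have := (ite_out hD hq).2.1
        have := of_decide_eq_false hp
        omega, hLg fun x => x.2.2.2.2]
      have := E.n7t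
      dsimp only
      omega
    · rw [hLg fun x => x.2.2.2.2]
      have := E.n7t
      dsimp only
      omega
    · show _ + ((out.filter _).map fun x => (x.1 : ℤ) * x.2.2.2.1).sum = 0
      rw [sum_filter _ _ _ fun x hx hp => by
        obtain ⟨D, hD, -, hq⟩ := hout x hx
        have := (ite_out hD hq).2.1
        have := of_decide_eq_false hp
        rw [(ite_out hD hq).2.2.2 (by omega), mul_zero], hLg fun x => (x.1 : ℤ) * x.2.2.2.1]
      exact E.d7t
  · refine noOut_sound _ 7 outs _ _ _ (out.filter fun x => decide (0 < x.2.2.1)) h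
      (fun x hx => hout x (List.mem_filter.1 hx).1)
      (fun x hx => of_decide_eq_true (List.mem_filter.1 hx).2) ?_ ?_ ?_ (hsqle _)
    · show ((out.filter _).map fun x => x.2.2.1).sum = _
      rw [sum_filter _ _ _ fun x hx hp => by
        obtain ⟨D, hD, -, hq⟩ := hout x hx
        have := (ite_out hD hq).1
        have := of_decide_eq_false hp
        omega, hLg fun x => x.2.2.1]
      have := E.n7s
      dsimp only
      omega
    · rw [hLg fun x => x.2.2.1]
      have := E.n7s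
      dsimp only
      omega
    · show _ + ((out.filter _).map fun x => (x.1 : ℤ) * x.2.1).sum = 0
      rw [sum_filter _ _ _ fun x hx hp => by
        obtain ⟨D, hD, -, hq⟩ := hout x hx
        have := (ite_out hD hq).1
        have := of_decide_eq_false hp
        rw [(ite_out hD hq).2.2.1 (by omega), mul_zero], hLg fun x => (x.1 : ℤ) * x.2.1]
      exact E.d7s

end Cfsg.Agent.Fus.M24Nse
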