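import Mathlib
import Cfsg.Agent.Lib.Fus.M24Nse.Sound

/-!
Order 244823040 with the element counts of `M₂₄`: the tables contain every possible choice of coordinates.
-/

set_option autoImplicit false

namespace Cfsg.Agent.Fus.M24Nse

/-- The degree is possible. -/
def admD (d : ℕ) : Bool :=
  Nat.beq (244823040 % d) 0 &&
    (Nat.beq (d % 23) 0 || Nat.beq (d % 23) 1 || Nat.beq (d % 23) 22 || Nat.beq (d % 23) 11 ||
      Nat.beq (d % 23) 12) &&
    (Nat.beq (d % 11) 0 || Nat.beq (d % 11) 1 || Nat.beq (d % 11) 10)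

/-- The conditions on the coordinates at five. -/
def ok5 (d : ℕ) (a T : ℤ) : Bool :=
  decide (a = 0 ∨ T = 0) && decide ((3 * a + T - (d : ℤ)) % 5 = 0) &&
    decide ((4080384 * (3 * a + T)) % (d : ℤ) = 0) && decide ((12241152 * (T - a)) % (d : ℤ) = 0)

/-- The conditions on one nonzero coordinate at seven; `t` tells the two apart. -/
def ok7 (d : ℕ) (R n : ℤ) (t : Bool) : Bool :=
  decide (1 ≤ n) && decide (R * R ≤ 4 * n) && decide ((4 * n - R * R) % 7 = 0) &&
    decide (((if t then 2 * R else R) - 2 * (d : ℤ)) % 7 = 0) &&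
    decide ((5829120 * (if t then 2 * R else R)) % (d : ℤ) = 0) &&
    decide ((17487360 * (if t then 0 else R)) % (d : ℤ) = 0) &&
    decide ((11658240 * (if t then -R else R)) % (d : ℤ) = 0)

/-- The coordinates at seven from the nonzero one. -/
def q7 (R n : ℤ) (t : Bool) : ℤ × ℤ × ℤ × ℤ := if t then (0, 0, R, n) else (R, n, 0, 0)

/-- The table entry of a degree prime to eleven. -/
def degOf (d : ℕ) : Deg := (degs.find? fun e => Nat.beq e.d d).getD ⟨0, [], []⟩

/-- The table entry of a degree divisible by eleven. -/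
def outOf (d : ℕ) : Out := (outs.find? fun e => Nat.beq e.d d).getD ⟨0, []⟩

/-- The integers between `-n` and `n`. -/
def sym (n : ℕ) : List ℤ := (List.range (2 * n + 1)).map fun i : ℕ => (i : ℤ) - n

theorem mem_sym {n : ℕ} {x : ℤ} (h1 : -(n : ℤ) ≤ x) (h2 : x ≤ (n : ℤ)) : x ∈ sym n :=
  List.mem_map.2 ⟨(x + n).toNat, List.mem_range.2 (by omega), by omega⟩

/-- The test of the completeness of the tables at one degree. -/
def covered (d : ℕ) : Bool :=
  let T5 : List (ℤ × ℤ) := (sym 2).flatMap fun a => (sym 3).filterMap fun T => if ok5 d a T then some (a, T) else none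
  let T7 : List (ℤ × ℤ × ℤ × ℤ) := if Nat.beq (d % 7) 0 then [(0, 0, 0, 0)] else
    (sym 5).flatMap fun R => (sym 7).flatMap fun n => [true, false].filterMap fun t =>
      if ok7 d R n t then some (q7 R n t) else none
  if Nat.beq (d % 11) 0 then Nat.beq (d % 7) 0 ||
    (Nat.beq (outOf d).d d && (outs.map Out.d).contains d && T7.all fun q => (outOf d).o7.contains q)
  else T5.isEmpty || T7.isEmpty ||
    (Nat.beq (degOf d).d d && (degs.map Deg.d).contains d && (T5.all fun q => (degOf d).o5.contains q) &&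
      T7.all fun q => (degOf d).o7.contains q)

theorem covered_all :
    ((List.range 15647).all fun d => Nat.ble d 1 || !admD d || covered d) = true := by decide +kernel

theorem degOf_mem {d : ℕ} (h : d ∈ degs.map Deg.d) : degOf d ∈ degs :=
  (by decide +kernel : ∀ D ∈ degs, (degs.map Deg.d).contains D.d ∧ ((degs.find? fun e => Nat.beq e.d D.d).map Deg.d) = some D.d) |> fun H => by
    obtain ⟨D, hD, rfl⟩ := List.mem_map.1 h
    obtain ⟨-, h2⟩ := H D hD
    obtain ⟨e, he, -⟩ := Option.map_eq_some_iff.1 h2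
    rw [degOf, he]
    exact List.mem_of_find?_eq_some he

theorem outOf_mem {d : ℕ} (h : d ∈ outs.map Out.d) : outOf d ∈ outs :=
  (by decide +kernel : ∀ D ∈ outs, ((outs.find? fun e => Nat.beq e.d D.d).map Out.d) = some D.d) |> fun H => by
    obtain ⟨D, hD, rfl⟩ := List.mem_map.1 h
    obtain ⟨e, he, -⟩ := Option.map_eq_some_iff.1 (H D hD)
    rw [outOf, he]
    exact List.mem_of_find?_eq_some he

/-- A possible degree. -/
structure DegOK (d : ℕ) : Prop where
  two : 2 ≤ d
  dvd : d ∣ 244823040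
  sq : d * d ≤ 244823040
  m23 : d % 23 ∈ [0, 1, 22, 11, 12]
  m11 : d % 11 ∈ [0, 1, 10]

theorem DegOK.cov {d : ℕ} (h : DegOK d) : covered d = true := by
  have hlt : d < 15647 := by
    by_contra hc
    have := Nat.mul_le_mul (show 15647 ≤ d by omega) (show 15647 ≤ d by omega)
    have := h.sq
    omega
  have := List.all_eq_true.1 covered_all d (List.mem_range.2 hlt)
  have h2 : Nat.ble d 1 = false := Bool.eq_false_iff.2 fun e => by
    rw [Nat.ble_eq] at e; have := h.two; omega
  have hok : admD d = true := by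
    simp only [admD, Bool.and_eq_true, Bool.or_eq_true, Nat.beq_eq]
    have := h.m23
    have := h.m11
    simp only [List.mem_cons, List.not_mem_nil, or_false] at *
    refine ⟨⟨Nat.mod_eq_zero_of_dvd h.dvd, ?_⟩, ?_⟩ <;> omega
  simpa [h2, hok] using this

/-- The coordinates at seven: at most one is nonzero, and none if the degree is divisible by seven. -/
def Coord7 (d : ℕ) (q : ℤ × ℤ × ℤ × ℤ) : Prop :=
  if d % 7 = 0 then q = (0, 0, 0, 0) else ∃ (R n : ℤ) (t : Bool), q = q7 R n t ∧ ok7 d R n t = true ∧ n ≤ 7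

theorem mem_T7 {d : ℕ} {q : ℤ × ℤ × ℤ × ℤ} (h : Coord7 d q) :
    q ∈ (if Nat.beq (d % 7) 0 then [(0, 0, 0, 0)] else
      (sym 5).flatMap fun R => (sym 7).flatMap fun n => [true, false].filterMap fun t =>
        if ok7 d R n t then some (q7 R n t) else none : List (ℤ × ℤ × ℤ × ℤ)) := by
  unfold Coord7 at h
  split_ifs at h with h7
  · simp [h, h7]
  · obtain ⟨R, n, t, rfl, hok, hn⟩ := h
    have hb : Nat.beq (d % 7) 0 = false := Bool.eq_false_iff.2 fun e => h7 (Nat.beq_eq ▸ e)
    simp only [hb, Bool.false_eq_true, if_false]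
    rw [List.mem_flatMap]
    have hok' := hok
    simp only [ok7, Bool.and_eq_true, decide_eq_true_eq] at hok'
    obtain ⟨⟨⟨⟨⟨⟨h1, h2⟩, -⟩, -⟩, -⟩, -⟩, -⟩ := hok'
    have hR : -5 ≤ R ∧ R ≤ 5 := by constructor <;> nlinarith
    refine ⟨R, mem_sym hR.1 hR.2, List.mem_flatMap.2 ⟨n, mem_sym (by omega) (by omega),
      List.mem_filterMap.2 ⟨t, ?_, by rw [if_pos hok]⟩⟩⟩
    cases t <;> simp

/-- Every possible choice is in the table. -/
theorem allowed {d : ℕ} (h : DegOK d) (h11 : d % 11 ≠ 0) {a T : ℤ} (ha : a * a ≤ 5) (hT : T * T ≤ 10)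
    (h5 : ok5 d a T = true) {q : ℤ × ℤ × ℤ × ℤ} (hq : Coord7 d q) : Allowed (d, (a, T), q) := by
  have hc := h.cov
  have hb : Nat.beq (d % 11) 0 = false := Bool.eq_false_iff.2 fun e => h11 (Nat.beq_eq ▸ e)
  have hab : -2 ≤ a ∧ a ≤ 2 := by constructor <;> nlinarith
  have hTb : -3 ≤ T ∧ T ≤ 3 := by constructor <;> nlinarith
  have m5 : (a, T) ∈ (sym 2).flatMap fun a => (sym 3).filterMap fun T => if ok5 d a T then some (a, T) else none :=
    List.mem_flatMap.2 ⟨a, mem_sym hab.1 hab.2, List.mem_filterMap.2 ⟨T, mem_sym hTb.1 hTb.2, by rw [if_pos h5]⟩⟩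
  have m7 := mem_T7 hq
  simp only [Nat.beq_eq] at m7
  simp only [covered, hb, Bool.false_eq_true, if_false, Bool.or_eq_true, Bool.and_eq_true, List.isEmpty_iff,
    List.all_eq_true, List.contains_iff_mem, Nat.beq_eq] at hc
  rcases hc with (hc | hc) | ⟨⟨⟨h1, h2⟩, h3⟩, h4⟩
  · rw [hc] at m5; exact absurd m5 List.not_mem_nil
  · rw [hc] at m7; exact absurd m7 List.not_mem_nil
  · exact ⟨degOf d, degOf_mem h2, h1, h3 _ m5, h4 _ m7⟩

/-- Every possible choice at a degree divisible by eleven is in the table. -/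
theorem allowed_out {d : ℕ} (h : DegOK d) (h11 : d % 11 = 0) (h7 : d % 7 ≠ 0)
    {q : ℤ × ℤ × ℤ × ℤ} (hq : Coord7 d q) : AllowedOut (d, q) := by
  have hc := h.cov
  have m7 := mem_T7 hq
  simp only [Nat.beq_eq] at m7
  have hb : Nat.beq (d % 11) 0 = true := by rw [Nat.beq_eq]; exact h11
  simp only [covered, hb, if_true, Bool.or_eq_true, Bool.and_eq_true, List.all_eq_true, List.contains_iff_mem,
    Nat.beq_eq] at hc
  rcases hc with hc | ⟨⟨h1, h2⟩, h3⟩
  · exact absurd hc h7
  · exact ⟨outOf d, outOf_mem h2, h1, h3 _ m7⟩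

end Cfsg.Agent.Fus.M24Nse
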