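import Mathlib
import Cfsg.Agent.Lib.Fus.M24Nse.Base

/-!
Congruences of character values on a section from the central characters, modulo `p` in the algebraic integers,
and rational values of a character together with its complex conjugate.
-/

set_option autoImplicit false
set_option linter.style.haveILetI false
set_option linter.unusedSectionVars false

namespace Cfsg.Agent.Fus.M24Nse

open scoped ComplexConjugate
open Cfsg Cfsg.Agent.Block Cfsg.Agent.Char Cfsg.Agent.Invol.M12Ord

universe u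

/-- Congruence modulo `p` in the algebraic integers. -/
def Cong (p : ℕ) (x y : ℂ) : Prop := IsIntegral ℤ ((x - y) / (p : ℂ))

theorem isIntegral_int (n : ℤ) : IsIntegral ℤ (n : ℂ) := by
  simpa using isIntegral_algebraMap (R := ℤ) (A := ℂ) (x := n)

theorem isIntegral_conj {z : ℂ} (h : IsIntegral ℤ z) : IsIntegral ℤ (conj z) :=
  h.map ((starRingEnd ℂ).toIntAlgHom)

theorem Cong.add {p : ℕ} {x y a b : ℂ} (h : Cong p x y) (h' : Cong p a b) : Cong p (x + a) (y + b) := by
  unfold Cong
  rw [show (x + a - (y + b)) / (p : ℂ) = (x - y) / (p : ℂ) + (a - b) / (p : ℂ) by ring]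
  exact IsIntegral.add h h'

theorem Cong.sub {p : ℕ} {x y a b : ℂ} (h : Cong p x y) (h' : Cong p a b) : Cong p (x - a) (y - b) := by
  unfold Cong
  rw [show (x - a - (y - b)) / (p : ℂ) = (x - y) / (p : ℂ) - (a - b) / (p : ℂ) by ring]
  exact IsIntegral.sub h h'

theorem Cong.mul_left {p : ℕ} {x y c : ℂ} (h : Cong p x y) (hc : IsIntegral ℤ c) : Cong p (c * x) (c * y) := by
  unfold Cong
  rw [show (c * x - c * y) / (p : ℂ) = c * ((x - y) / (p : ℂ)) by ring]
  exact IsIntegral.mul hc h

theorem Cong.conj {p : ℕ} {x y : ℂ} (h : Cong p x y) : Cong p (starRingEnd ℂ x) (starRingEnd ℂ y) := by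
  have h' := isIntegral_conj h
  rwa [map_div₀, map_sub, map_natCast] at h'

/-- A rational number congruent to zero is divisible by `p`. -/
theorem Cong.int_dvd {p : ℕ} [Fact p.Prime] {a b : ℤ} (h : Cong p (a : ℂ) (b : ℂ)) : (p : ℤ) ∣ a - b := by
  have hp : p ≠ 0 := (Fact.out : p.Prime).ne_zero
  unfold Cong at h
  rw [← Int.cast_sub] at h
  rcases (a - b).eq_nat_or_neg with ⟨k, hk | hk⟩
  · rw [hk, Int.cast_natCast] at h
    rw [hk, Int.natCast_dvd_natCast]
    exact nat_dvd_of_isIntegral_div hp h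
  · rw [hk, Int.cast_neg, Int.cast_natCast, neg_div] at h
    have h' := h.neg
    rw [neg_neg] at h'
    rw [hk, dvd_neg, Int.natCast_dvd_natCast]
    exact nat_dvd_of_isIntegral_div hp h'

/-- An algebraic integer which is rational is an integer. -/
theorem exists_int {z : ℂ} (hz : IsIntegral ℤ z) {a : ℤ} {n : ℕ} (hn : n ≠ 0) (h : z = (a : ℂ) / (n : ℂ)) :
    ∃ m : ℤ, z = (m : ℂ) ∧ a = m * (n : ℤ) := by
  rcases a.eq_nat_or_neg with ⟨k, rfl | rfl⟩
  · rw [h, Int.cast_natCast] at hz
    obtain ⟨m, rfl⟩ := nat_dvd_of_isIntegral_div hn hz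
    refine ⟨m, ?_, by push_cast; ring⟩
    rw [h]
    push_cast
    field_simp
  · rw [h, Int.cast_neg, Int.cast_natCast, neg_div] at hz
    have hz' := hz.neg
    rw [neg_neg] at hz'
    obtain ⟨m, rfl⟩ := nat_dvd_of_isIntegral_div hn hz'
    refine ⟨-(m : ℤ), ?_, by push_cast; ring⟩
    rw [h]
    push_cast
    field_simp

variable {G : Type u} [Group G] [Finite G]

/-- The sum over the class of `t` as a multiple of a value. -/
theorem omega_sum [Fintype G] (χ : IrrCharacter G) (t g : G) :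
    (Nat.card G : ℂ) * (χ : G → ℂ) t * (χ : G → ℂ) g / (dg χ : ℂ) =
      ∑ k : G, (χ : G → ℂ) (g * (k * t * k⁻¹)) := by
  have h := sum_mul_conj χ g t
  rw [h, ← value_one]
  have h1 := irr_one_ne_zero χ
  field_simp

/-- The central character at `t` times a value on the `p`-section of `u` is congruent to the sum of the values
over the conjugates of `t` in the centralizer of `u`. -/
theorem omega_congr {p : ℕ} [Fact p.Prime] (χ : IrrCharacter G) {t u g : G} (hu : orderOf u = p)
    (hug : u * g = g * u) {K : Finset G} (hK : ∀ k : G, k ∈ K ↔ IsConj t k ∧ u * k = k * u) {ω : ℤ}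
    (hω : (ω : ℂ) * (dg χ : ℂ) = ((Subgroup.centralizer ({t} : Set G)).index : ℂ) * (χ : G → ℂ) t) :
    Cong p ((ω : ℂ) * (χ : G → ℂ) g) (∑ k ∈ K, (χ : G → ℂ) (g * k)) := by
  classical
  haveI := Fintype.ofFinite G
  have hp : p.Prime := Fact.out
  set Cl := Finset.univ.filter fun k : G => IsConj t k with hCl
  have hsum : (ω : ℂ) * (χ : G → ℂ) g = ∑ k ∈ Cl, (χ : G → ℂ) (g * k) := by
    have h := omega_sum χ t g
    rw [← Finset.sum_fiberwise_of_maps_to (g := fun k => k * t * k⁻¹) (t := Cl) (fun k _ =>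
      Finset.mem_filter.2 ⟨Finset.mem_univ _, _root_.isConj_iff.2 ⟨k, rfl⟩⟩)] at h
    rw [Finset.sum_congr rfl (g := fun c => (cn t : ℂ) * (χ : G → ℂ) (g * c)) fun c hc => ?_,
      ← Finset.mul_sum] at h
    · have hN : (Nat.card G : ℂ) = ((Subgroup.centralizer ({t} : Set G)).index : ℂ) * (cn t : ℂ) := by
        rw [← Nat.cast_mul, Subgroup.index_mul_card]
      have hd : (dg χ : ℂ) ≠ 0 := Nat.cast_ne_zero.2 (charDeg_pos χ).ne'
      have hc : (cn t : ℂ) ≠ 0 := Nat.cast_ne_zero.2 (cn_pos t).ne'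
      refine mul_left_cancel₀ hc (Eq.trans ?_ h)
      rw [hN]
      field_simp
      linear_combination (χ : G → ℂ) g * hω
    · rw [Finset.sum_congr rfl (g := fun _ => (χ : G → ℂ) (g * c)) fun k hk => by
        rw [(Finset.mem_filter.1 hk).2], Finset.sum_const, nsmul_eq_mul]
      congr 1
      have hf := OrdP.card_fiber t c
      rw [if_pos (Finset.mem_filter.1 hc).2, Nat.card_eq_fintype_card, Fintype.card_subtype] at hf
      exact_mod_cast hf
  rw [hsum]
  -- group the class by the value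
  let f : G → ℂ := fun k => (χ : G → ℂ) (g * k)
  have hKsub : K ⊆ Cl := fun k hk => Finset.mem_filter.2 ⟨Finset.mem_univ _, ((hK k).1 hk).1⟩
  have hfu : ∀ k : G, f (u * k * u⁻¹) = f k := fun k => by
    have e : g * (u * k * u⁻¹) = u * (g * k) * u⁻¹ := by
      rw [← mul_assoc, ← mul_assoc, ← hug]; group
    show (χ : G → ℂ) _ = (χ : G → ℂ) _
    rw [e]
    exact (IsClass.eq_of_isConj (IsIrr.classFun χ.2) (_root_.isConj_iff.2 ⟨u, rfl⟩)).symm
  have hcount : ∀ c : ℂ, (p : ℤ) ∣
      ((Cl.filter fun k => f k = c).card : ℤ) - ((K.filter fun k => f k = c).card : ℤ) := by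
    intro c
    let X := {k : G // IsConj t k ∧ f k = c}
    let Z := Subgroup.zpowers u
    have hfz : ∀ (z : Z) (k : G), f ((z : G) * k * (z : G)⁻¹) = f k := by
      have hpow : ∀ (i : ℕ) (k : G), f (u ^ i * k * (u ^ i)⁻¹) = f k := by
        intro i
        induction i with
        | zero => intro k; simp
        | succ i ih =>
          intro k
          rw [show u ^ (i + 1) * k * (u ^ (i + 1))⁻¹ = u * (u ^ i * k * (u ^ i)⁻¹) * u⁻¹ by
            rw [pow_succ']; group, hfu]
          exact ih k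
      rintro ⟨z, hz⟩ k
      obtain ⟨i, rfl⟩ := (isOfFinOrder_of_finite u).mem_powers_iff_mem_zpowers.2 hz
      exact hpow i k
    letI : MulAction Z X :=
      { smul := fun z k => ⟨(z : G) * k.1 * (z : G)⁻¹,
          k.2.1.trans (_root_.isConj_iff.2 ⟨(z : G), rfl⟩), (hfz z k.1).trans k.2.2⟩
        one_smul := fun k => Subtype.ext (by show ((1 : Z) : G) * k.1 * ((1 : Z) : G)⁻¹ = k.1; simp)
        mul_smul := fun a b k => Subtype.ext (by
          show ((a * b : Z) : G) * k.1 * ((a * b : Z) : G)⁻¹ =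
            (a : G) * ((b : G) * k.1 * (b : G)⁻¹) * (a : G)⁻¹
          push_cast
          group) }
    have hZ : IsPGroup p Z := IsPGroup.of_card (n := 1) (by rw [Nat.card_zpowers, hu, pow_one])
    have h := hZ.card_modEq_card_fixedPoints X
    have e1 : Nat.card X = (Cl.filter fun k => f k = c).card := by
      rw [Nat.card_eq_fintype_card, Fintype.card_subtype, hCl, Finset.filter_filter]
    have e2 : Nat.card (MulAction.fixedPoints Z X) = (K.filter fun k => f k = c).card := by
      rw [Nat.card_coe_set_eq, Set.ncard_eq_toFinset_card']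
      refine Finset.card_bij (fun k _ => k.1) (fun k hk => ?_) (fun a _ b _ h => Subtype.ext h) (fun k hk => ?_)
      · rw [Set.mem_toFinset] at hk
        have h' := congrArg Subtype.val (hk ⟨u, Subgroup.mem_zpowers u⟩)
        exact Finset.mem_filter.2 ⟨(hK _).2 ⟨k.2.1, mul_inv_eq_iff_eq_mul.1 h'⟩, k.2.2⟩
      · obtain ⟨hkK, hkc⟩ := Finset.mem_filter.1 hk
        obtain ⟨hk1, hk2⟩ := (hK k).1 hkK
        refine ⟨⟨k, hk1, hkc⟩, Set.mem_toFinset.2 fun z => Subtype.ext ?_, rfl⟩
        show (z : G) * k * (z : G)⁻¹ = k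
        obtain ⟨i, hi⟩ := Subgroup.mem_zpowers_iff.1 z.2
        rw [← hi, ((show Commute u k from hk2).zpow_left i).eq, mul_inv_cancel_right]
    rw [e1, e2] at h
    exact Nat.modEq_iff_dvd.1 h.symm
  set V := Cl.image f with hV
  have s1 : ∑ k ∈ Cl, f k = ∑ c ∈ V, ((Cl.filter fun k => f k = c).card : ℂ) * c := by
    rw [← Finset.sum_fiberwise_of_maps_to (g := f) (t := V) fun k hk => Finset.mem_image_of_mem f hk]
    refine Finset.sum_congr rfl fun c _ => ?_
    rw [Finset.sum_congr rfl (g := fun _ => c) fun k hk => (Finset.mem_filter.1 hk).2, Finset.sum_const, nsmul_eq_mul]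
  have s2 : ∑ k ∈ K, f k = ∑ c ∈ V, ((K.filter fun k => f k = c).card : ℂ) * c := by
    rw [← Finset.sum_fiberwise_of_maps_to (g := f) (t := V) fun k hk => Finset.mem_image_of_mem f (hKsub hk)]
    refine Finset.sum_congr rfl fun c _ => ?_
    rw [Finset.sum_congr rfl (g := fun _ => c) fun k hk => (Finset.mem_filter.1 hk).2, Finset.sum_const, nsmul_eq_mul]
  show IsIntegral ℤ ((∑ k ∈ Cl, f k - ∑ k ∈ K, f k) / (p : ℂ))
  rw [s1, s2, ← Finset.sum_sub_distrib, Finset.sum_div]
  refine IsIntegral.sum _ fun c hc => ?_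
  obtain ⟨m, hm⟩ := hcount c
  have hci : IsIntegral ℤ c := by
    obtain ⟨k, -, rfl⟩ := Finset.mem_image.1 hc
    exact irr_isIntegral χ _
  have hm' := congrArg (fun z : ℤ => (z : ℂ)) hm
  push_cast at hm'
  rw [show (((Cl.filter fun k => f k = c).card : ℂ) * c - ((K.filter fun k => f k = c).card : ℂ) * c) / (p : ℂ) =
    (m : ℂ) * c by
      have hp0 : (p : ℂ) ≠ 0 := Nat.cast_ne_zero.2 hp.ne_zero
      field_simp
      linear_combination c * hm']
  exact (isIntegral_int m).mul hci

/-- A character value fixed up to inversion by the Galois group: trace and norm are integers. -/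
theorem exists_trace_norm (χ : IrrCharacter G) {g : G}
    (h : ∀ k : ℕ, k.Coprime (orderOf g) → IsConj (g ^ k) g ∨ IsConj (g ^ k) g⁻¹) :
    ∃ R n : ℤ, (χ : G → ℂ) g + conj ((χ : G → ℂ) g) = (R : ℂ) ∧
      (χ : G → ℂ) g * conj ((χ : G → ℂ) g) = (n : ℂ) := by
  have hχ := irr_isChar χ
  have key : ∀ k : ℕ, k.Coprime (orderOf g) →
      (χ : G → ℂ) (g ^ k) = (χ : G → ℂ) g ∨ (χ : G → ℂ) (g ^ k) = conj ((χ : G → ℂ) g) := fun k hk => by
    rcases h k hk with hc | hc
    · exact Or.inl (IsClass.eq_of_isConj (IsIrr.classFun χ.2) hc)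
    · exact Or.inr ((IsClass.eq_of_isConj (IsIrr.classFun χ.2) hc).trans (irr_apply_inv χ g))
  obtain ⟨R, hR⟩ := IsChar.exists_int_of_fixed (IsChar.add hχ (IsChar.conj hχ)) g fun k hk => by
    rcases key k hk with e | e <;> simp [Pi.add_apply, e, add_comm]
  obtain ⟨n, hn⟩ := IsChar.exists_int_of_fixed (IsChar.mul hχ (IsChar.conj hχ)) g fun k hk => by
    rcases key k hk with e | e <;> simp [Pi.mul_apply, e, mul_comm]
  exact ⟨R, n, by simpa [Pi.add_apply] using hR, by simpa [Pi.mul_apply] using hn⟩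

/-- Divisibility from the central character for a trace. -/
theorem index_dvd_trace (χ : IrrCharacter G) {g : G} {R : ℤ}
    (hR : (χ : G → ℂ) g + conj ((χ : G → ℂ) g) = (R : ℂ)) :
    (dg χ : ℤ) ∣ ((Subgroup.centralizer ({g} : Set G)).index : ℤ) * R := by
  have h := centralChar_isIntegral χ g
  have h' := IsIntegral.add h (isIntegral_conj h)
  rw [centralChar, charDeg_spec', map_div₀, map_mul, map_natCast, map_natCast, ← add_div, ← mul_add, hR,
    ← Int.cast_natCast, ← Int.cast_mul] at h'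
  obtain ⟨m, -, hm⟩ := exists_int h' (charDeg_pos χ).ne' rfl
  exact ⟨m, by rw [hm]; ring⟩

end Cfsg.Agent.Fus.M24Nse
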