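import Mathlib
import Cfsg.Agent.Lib.Fus.M24Nse.Omega

/-!
Order 244823040 with the element counts of `M₂₄`: integral coordinates of the characters on the section of an
element of order five with centralizer `5 × A₄`.
-/

set_option autoImplicit false
set_option linter.style.haveILetI false
set_option linter.unusedSectionVars false

namespace Cfsg.Agent.Fus.M24Nse

open scoped ComplexConjugate
open Cfsg Cfsg.Agent.Block Cfsg.Agent.Char Cfsg.Agent.Invol.M12Ord
open Cfsg.Agent.Invol.M22Ord (PBlk)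

universe u

variable {G : Type u} [Group G] [Finite G]

/-- The elements of the section of an element of order five. -/
structure D5 [Fact (Nat.Prime 5)] (B : PBlk G 5 4) where
  u : G
  t : G
  w : G
  u_mem : u ∈ (B.P : Subgroup G)
  ou : orderOf u = 5
  ot : orderOf t = 2
  ow : orderOf w = 3
  t_mem : t ∈ B.C
  w_mem : w ∈ B.C
  cu : cn u = 60
  ct : cn (u * t) = 20
  cw : cn (u * w) = 15
  cw' : cn (u * w⁻¹) = 15
  not_conj : ¬ IsConj (u * w) (u * w⁻¹)
  K : Finset G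
  card_K : K.card = 3
  t_K : t ∈ K
  mem_K : ∀ k : G, k ∈ K ↔ IsConj t k ∧ u * k = k * u
  K_u : ∀ k ∈ K, IsConj (u * k) (u * t)
  K_t : ∀ k ∈ K, k ≠ t → IsConj (u * t * k) (u * t)
  rat_u : ∀ k : ℕ, k.Coprime 5 → IsConj (u ^ k) u
  rat_t : ∀ k : ℕ, k.Coprime 10 → IsConj ((u * t) ^ k) (u * t)

theorem orth0 [Fintype G] {g h : G} (hne : orderOf g ≠ orderOf h) :
    ∑ χ : IrrCharacter G, (χ : G → ℂ) g * conj ((χ : G → ℂ) h) = 0 := by
  classical
  rw [sum_irr_mul_conj, if_neg]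
  intro hc
  obtain ⟨c, rfl⟩ := _root_.isConj_iff.1 hc
  exact hne (by rw [← MulAut.conj_apply, MulEquiv.orderOf_eq])

theorem orth0' [Fintype G] {g h : G} (hne : ¬ IsConj g h) :
    ∑ χ : IrrCharacter G, (χ : G → ℂ) g * conj ((χ : G → ℂ) h) = 0 := by
  classical
  rw [sum_irr_mul_conj, if_neg hne]

theorem orth1 [Fintype G] {g : G} {n : ℕ} (hn : cn g = n) :
    ∑ χ : IrrCharacter G, (χ : G → ℂ) g * conj ((χ : G → ℂ) g) = (n : ℂ) := by
  classical
  rw [sum_irr_mul_conj, if_pos (IsConj.refl g), ← hn]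

theorem orderOf_section {p n : ℕ} {u v : G} (hu : orderOf u = p) (hv : orderOf v = n) (hc : Commute u v)
    (hco : p.Coprime n) : orderOf (u * v) = p * n := by
  rw [hc.orderOf_mul_eq_mul_orderOf_of_coprime (by rw [hu, hv]; exact hco), hu, hv]

variable [IsSimpleGroup G] [Fact (Nat.Prime 5)] {B : PBlk G 5 4} (S : D5 B)

/-- The five characters of the principal block at five. -/
noncomputable def mem5 (B : PBlk G 5 4) : Finset (IrrCharacter G) := by
  classical exact insert (trivialIrr G) (B.X ∪ B.Y)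

theorem mem5_iff {χ : IrrCharacter G} : χ ∈ mem5 B ↔ χ = trivialIrr G ∨ χ ∈ B.X ∨ χ = B.y := by
  classical
  have hY : B.Y = {B.y} := by
    obtain ⟨a, ha⟩ := Finset.card_eq_one.1 (show B.Y.card = 1 by have := B.card_Y; omega)
    have := B.y_mem
    rw [ha, Finset.mem_singleton] at this
    rw [ha, this]
  simp [mem5, hY, or_comm]

theorem card_mem5 : (mem5 B).card = 5 := by
  classical
  have hY : B.Y.card = 1 := by have := B.card_Y; omega
  have := B.card_X
  rw [mem5, Finset.card_insert_of_notMem (by simp [B.triv_X, B.triv_Y]), Finset.card_union_of_disjoint B.disj, hY]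
  omega

/-- The members take one sign on the whole section, congruent to the degree. -/
theorem mem5_value {χ : IrrCharacter G} (hχ : χ ∈ mem5 B) :
    ∃ s : ℤ, (s = 1 ∨ s = -1) ∧ (5 : ℤ) ∣ (dg χ : ℤ) - s ∧
      ∀ u ∈ (B.P : Subgroup G), u ≠ 1 → ∀ v ∈ B.C, ¬ 5 ∣ orderOf v → (χ : G → ℂ) (u * v) = (s : ℂ) := by
  classical
  rcases mem5_iff.1 hχ with rfl | hX | rfl
  · refine ⟨1, Or.inl rfl, by rw [dg_trivial]; norm_num, fun u _ _ v _ _ => ?_⟩
    rw [Int.cast_one]; rfl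
  · exact ⟨B.s χ, B.s_sign χ hX, by exact_mod_cast B.deg_X χ hX, fun u hu hu1 v hv hr => B.valX χ hX u hu hu1 v hv hr⟩
  · refine ⟨-B.ε, by rcases B.ε_sign with h | h <;> simp [h], ?_, fun u hu hu1 v hv hr => ?_⟩
    · have h := B.deg_Y B.y B.y_mem
      push_cast at h
      omega
    · have h := B.sum_Y hu hu1 hv hr
      obtain ⟨a, ha⟩ := Finset.card_eq_one.1 (show B.Y.card = 1 by have := B.card_Y; omega)
      have hy := B.y_mem
      rw [ha, Finset.mem_singleton] at hy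
      rw [ha, Finset.sum_singleton, ← hy] at h
      rw [h]; push_cast; rfl

namespace D5

theorem comm_t : Commute S.u S.t := B.comm S.u_mem S.t_mem

theorem comm_w : Commute S.u S.w := B.comm S.u_mem S.w_mem

theorem o_ut : orderOf (S.u * S.t) = 10 :=
  (orderOf_section S.ou S.ot S.comm_t (by norm_num)).trans (by norm_num)

theorem o_uw : orderOf (S.u * S.w) = 15 :=
  (orderOf_section S.ou S.ow S.comm_w (by norm_num)).trans (by norm_num)

theorem o_uw' : orderOf (S.u * S.w⁻¹) = 15 :=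
  (orderOf_section S.ou ((orderOf_inv S.w).trans S.ow) S.comm_w.inv_right (by norm_num)).trans (by norm_num)

theorem values {χ : IrrCharacter G} (hχ : χ ∈ mem5 B) :
    ∃ s : ℤ, (s = 1 ∨ s = -1) ∧ (5 : ℤ) ∣ (dg χ : ℤ) - s ∧ (χ : G → ℂ) S.u = s ∧ (χ : G → ℂ) (S.u * S.t) = s ∧
      (χ : G → ℂ) (S.u * S.w) = s ∧ (χ : G → ℂ) (S.u * S.w⁻¹) = s := by
  obtain ⟨s, hs, hd, hv⟩ := mem5_value hχ
  have hu1 : S.u ≠ 1 := ne_one_of_orderOf S.ou (by norm_num)
  refine ⟨s, hs, hd, ?_, hv _ S.u_mem hu1 _ S.t_mem (by rw [S.ot]; norm_num),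
    hv _ S.u_mem hu1 _ S.w_mem (by rw [S.ow]; norm_num),
    hv _ S.u_mem hu1 _ (inv_mem S.w_mem) (by rw [orderOf_inv, S.ow]; norm_num)⟩
  have := hv _ S.u_mem hu1 1 (one_mem _) (by simp)
  rwa [mul_one] at this

end D5

/-- The coordinates at five. -/
theorem exists_coord5 (hna : ¬ IsMulCommutative G) :
    ∃ a T : IrrCharacter G → ℤ,
      (∀ χ ∈ mem5 B, a χ = 0 ∧ T χ = 0) ∧
      (∀ χ : IrrCharacter G, χ ∉ mem5 B →
        (χ : G → ℂ) S.u = ((3 * a χ + T χ : ℤ) : ℂ) ∧ (a χ = 0 ∨ T χ = 0) ∧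
        (5 : ℤ) ∣ 3 * a χ + T χ - (dg χ : ℤ) ∧
        (dg χ : ℤ) ∣ ((Subgroup.centralizer ({S.u} : Set G)).index : ℤ) * (3 * a χ + T χ) ∧
        (dg χ : ℤ) ∣ ((Subgroup.centralizer ({S.u * S.t} : Set G)).index : ℤ) * (T χ - a χ) ∧
        (χ : G → ℂ) (S.u * S.t) = ((T χ - a χ : ℤ) : ℂ) ∧
        (χ : G → ℂ) (S.u * S.w) + (χ : G → ℂ) (S.u * S.w⁻¹) = -(T χ : ℂ)) ∧
      ∑ χ, a χ * a χ = 5 ∧ ∑ χ, T χ * T χ = 10 ∧
      ∀ g : G, orderOf g ∉ ([5, 10, 15] : List ℕ) →
        ∑ χ : IrrCharacter G, (χ : G → ℂ) g * (a χ : ℂ) = 0 ∧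
          ∑ χ : IrrCharacter G, (χ : G → ℂ) g * (T χ : ℂ) = 0 := by
  classical
  haveI := Fintype.ofFinite G
  obtain ⟨x, hx, -⟩ := int_column (g := S.u) (fun k hk => S.rat_u k (by rwa [S.ou] at hk))
  obtain ⟨y, hy, -⟩ := int_column (g := S.u * S.t) (fun k hk => S.rat_t k (by rwa [S.o_ut] at hk))
  set Z : IrrCharacter G → ℂ := fun χ => (χ : G → ℂ) (S.u * S.w) + (χ : G → ℂ) (S.u * S.w⁻¹) with hZ
  set A : IrrCharacter G → ℂ := fun χ => (x χ : ℂ) + 3 * (y χ : ℂ) + 4 * Z χ with hA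
  -- the orthogonality relations
  have ne1 : orderOf S.u ≠ orderOf (S.u * S.t) := by rw [S.ou, S.o_ut]; norm_num
  have ne2 : orderOf S.u ≠ orderOf (S.u * S.w) := by rw [S.ou, S.o_uw]; norm_num
  have ne3 : orderOf S.u ≠ orderOf (S.u * S.w⁻¹) := by rw [S.ou, S.o_uw']; norm_num
  have ne4 : orderOf (S.u * S.t) ≠ orderOf (S.u * S.w) := by rw [S.o_ut, S.o_uw]; norm_num
  have ne5 : orderOf (S.u * S.t) ≠ orderOf (S.u * S.w⁻¹) := by rw [S.o_ut, S.o_uw']; norm_num
  have e11 : ∑ χ, (x χ : ℂ) * (x χ : ℂ) = 60 := by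
    have h := orth1 (G := G) S.cu
    simpa [hx, map_intCast] using h
  have e22 : ∑ χ, (y χ : ℂ) * (y χ : ℂ) = 20 := by
    have h := orth1 (G := G) S.ct
    simpa [hy, map_intCast] using h
  have e12 : ∑ χ, (x χ : ℂ) * (y χ : ℂ) = 0 := by
    have h := orth0 (G := G) ne1
    simpa [hx, hy, map_intCast] using h
  have e13 : ∑ χ, (x χ : ℂ) * conj (Z χ) = 0 := by
    simp only [hZ, map_add, mul_add, Finset.sum_add_distrib, ← hx]
    rw [orth0 ne2, orth0 ne3, add_zero]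
  have e23 : ∑ χ, (y χ : ℂ) * conj (Z χ) = 0 := by
    simp only [hZ, map_add, mul_add, Finset.sum_add_distrib, ← hy]
    rw [orth0 ne4, orth0 ne5, add_zero]
  have e33 : ∑ χ, Z χ * conj (Z χ) = 30 := by
    simp only [hZ, map_add, mul_add, add_mul, Finset.sum_add_distrib]
    rw [orth1 S.cw, orth1 S.cw', orth0' S.not_conj, orth0' (fun h => S.not_conj h.symm)]
    norm_num
  have e31 : ∑ χ, Z χ * (x χ : ℂ) = 0 := by
    have h := congrArg conj e13
    simpa [map_sum, mul_comm] using h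
  have e32 : ∑ χ, Z χ * (y χ : ℂ) = 0 := by
    have h := congrArg conj e23
    simpa [map_sum, mul_comm] using h
  -- the members exhaust the norm of the principal coordinate
  have hmem : ∀ χ ∈ mem5 B, ∃ s : ℤ, (s = 1 ∨ s = -1) ∧ x χ = s ∧ y χ = s ∧ Z χ = 2 * (s : ℂ) := by
    intro χ hχ
    obtain ⟨s, hs, -, h1, h2, h3, h4⟩ := S.values hχ
    rw [hx] at h1
    rw [hy] at h2
    refine ⟨s, hs, Int.cast_injective h1, Int.cast_injective h2, ?_⟩
    simp only [hZ, h3, h4]; ring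
  have hAsum : ∑ χ, A χ * conj (A χ) = 720 := by
    have : ∀ χ, A χ * conj (A χ) = (x χ : ℂ) * (x χ : ℂ) + 9 * ((y χ : ℂ) * (y χ : ℂ)) + 16 * (Z χ * conj (Z χ)) +
        6 * ((x χ : ℂ) * (y χ : ℂ)) + 4 * ((x χ : ℂ) * conj (Z χ)) + 4 * (Z χ * (x χ : ℂ)) +
        12 * ((y χ : ℂ) * conj (Z χ)) + 12 * (Z χ * (y χ : ℂ)) := by
      intro χ
      simp only [hA, map_add, map_mul, map_intCast, map_ofNat]
      ring
    rw [Finset.sum_congr rfl fun χ _ => this χ]
    simp only [Finset.sum_add_distrib, ← Finset.mul_sum]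
    rw [e11, e22, e33, e12, e13, e31, e23, e32]
    norm_num
  have hAzero : ∀ χ, χ ∉ mem5 B → A χ = 0 := by
    intro χ hχ
    have h : ∑ ψ ∈ Finset.univ \ mem5 B, Complex.normSq (A ψ) = 0 := by
      have h1 : ∑ ψ, Complex.normSq (A ψ) = 720 := by
        apply Complex.ofReal_injective
        push_cast
        rw [← hAsum]
        exact Finset.sum_congr rfl fun ψ _ => (Complex.mul_conj _).symm
      have h2 : ∑ ψ ∈ mem5 B, Complex.normSq (A ψ) = 720 := by
        rw [Finset.sum_congr rfl (g := fun _ => (144 : ℝ)) fun ψ hψ => ?_, Finset.sum_const, card_mem5]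
        · norm_num
        · obtain ⟨s, hs, e1, e2, e3⟩ := hmem ψ hψ
          simp only [hA, e1, e2, e3]
          rcases hs with rfl | rfl <;> norm_num [Complex.normSq]
      rw [← Finset.sum_sdiff (Finset.subset_univ (mem5 B)), h2] at h1
      linarith
    exact Complex.normSq_eq_zero.1 ((Finset.sum_eq_zero_iff_of_nonneg fun ψ _ => Complex.normSq_nonneg _).1 h χ
      (Finset.mem_sdiff.2 ⟨Finset.mem_univ χ, hχ⟩))
  -- integrality
  have hT : ∀ χ, ∃ T : ℤ, χ ∉ mem5 B → Z χ = -(T : ℂ) ∧ x χ + 3 * y χ = 4 * T := by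
    intro χ
    by_cases hχ : χ ∈ mem5 B
    · exact ⟨0, fun h => absurd hχ h⟩
    have h0 := hAzero χ hχ
    obtain ⟨m, hm, hm'⟩ := exists_int (z := -Z χ) (a := x χ + 3 * y χ) (n := 4)
      ((irr_isIntegral χ _).add (irr_isIntegral χ _)).neg (by norm_num) (by
        simp only [hA] at h0
        push_cast
        linear_combination (-(1 : ℂ) / 4) * h0)
    exact ⟨m, fun _ => ⟨by rw [← hm, neg_neg], by omega⟩⟩
  choose T0 hT0 using hT
  let T : IrrCharacter G → ℤ := fun χ => if χ ∈ mem5 B then 0 else T0 χ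
  let a : IrrCharacter G → ℤ := fun χ => if χ ∈ mem5 B then 0 else T0 χ - y χ
  have ha4 : ∀ χ, 4 * (a χ : ℂ) = (x χ : ℂ) - (y χ : ℂ) := by
    intro χ
    by_cases hχ : χ ∈ mem5 B
    · obtain ⟨s, -, e1, e2, -⟩ := hmem χ hχ
      simp [a, hχ, e1, e2]
    · have h := congrArg (fun z : ℤ => (z : ℂ)) (hT0 χ hχ).2
      simp only [a, if_neg hχ]
      push_cast at h ⊢
      linear_combination -h
  have hT6 : ∀ χ, 6 * (T χ : ℂ) = (x χ : ℂ) + 3 * (y χ : ℂ) - 2 * Z χ := by
    intro χ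
    by_cases hχ : χ ∈ mem5 B
    · obtain ⟨s, -, e1, e2, e3⟩ := hmem χ hχ
      simp [T, hχ, e1, e2, e3]; ring
    · have h := congrArg (fun z : ℤ => (z : ℂ)) (hT0 χ hχ).2
      have h' := (hT0 χ hχ).1
      simp only [T, if_neg hχ]
      push_cast at h ⊢
      linear_combination -h + 2 * h'
  have hsa : ∑ χ, a χ * a χ = 5 := by
    apply Int.cast_injective (α := ℂ)
    push_cast
    refine mul_left_cancel₀ (show (16 : ℂ) ≠ 0 by norm_num) ?_
    rw [Finset.mul_sum, Finset.sum_congr rfl (g := fun χ => (x χ : ℂ) * (x χ : ℂ) + (y χ : ℂ) * (y χ : ℂ) -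
      2 * ((x χ : ℂ) * (y χ : ℂ))) fun χ _ => by linear_combination (4 * (a χ : ℂ) + (x χ : ℂ) - (y χ : ℂ)) * ha4 χ,
      Finset.sum_sub_distrib, Finset.sum_add_distrib, ← Finset.mul_sum, e11, e22, e12]
    norm_num
  have hsT : ∑ χ, T χ * T χ = 10 := by
    apply Int.cast_injective (α := ℂ)
    push_cast
    refine mul_left_cancel₀ (show (36 : ℂ) ≠ 0 by norm_num) ?_
    have hre : ∀ χ, (36 : ℂ) * ((T χ : ℂ) * (T χ : ℂ)) = (x χ : ℂ) * (x χ : ℂ) + 9 * ((y χ : ℂ) * (y χ : ℂ)) +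
        4 * (Z χ * conj (Z χ)) + 6 * ((x χ : ℂ) * (y χ : ℂ)) - 2 * ((x χ : ℂ) * conj (Z χ)) -
        2 * (Z χ * (x χ : ℂ)) - 6 * ((y χ : ℂ) * conj (Z χ)) - 6 * (Z χ * (y χ : ℂ)) := by
      intro χ
      have h := hT6 χ
      have hc := congrArg conj h
      simp only [map_sub, map_add, map_mul, map_intCast, map_ofNat] at hc
      linear_combination (6 * (T χ : ℂ)) * h + ((x χ : ℂ) + 3 * (y χ : ℂ) - 2 * Z χ) * hc
    rw [Finset.mul_sum, Finset.sum_congr rfl fun χ _ => hre χ]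
    simp only [Finset.sum_add_distrib, Finset.sum_sub_distrib, ← Finset.mul_sum]
    rw [e11, e22, e33, e12, e13, e31, e23, e32]
    norm_num
  refine ⟨a, T, fun χ hχ => ⟨if_pos hχ, if_pos hχ⟩, fun χ hχ => ?_, hsa, hsT, fun g hg => ?_⟩
  · have hxeq : x χ = 3 * a χ + T χ := by
      have := (hT0 χ hχ).2
      simp only [a, T, if_neg hχ]
      omega
    have hyeq : y χ = T χ - a χ := by
      simp only [a, T, if_neg hχ]
      omega
    have hxv : (χ : G → ℂ) S.u = ((3 * a χ + T χ : ℤ) : ℂ) := by rw [hx, hxeq]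
    refine ⟨hxv, ?_, ?_, OrdP.index_dvd χ hxv, OrdP.index_dvd χ (by rw [hy, hyeq]), by rw [hy, hyeq], by
      have := (hT0 χ hχ).1
      simpa [T, hχ, hZ] using this⟩
    · -- the central character at the involution
      obtain ⟨v, hv, -⟩ := OrdP.involution_value hna χ (x := S.t) (by rw [← S.ot, pow_orderOf_eq_one])
      obtain ⟨ω, hω⟩ := OrdP.index_dvd χ hv
      have hω' : (ω : ℂ) * (dg χ : ℂ) = ((Subgroup.centralizer ({S.t} : Set G)).index : ℂ) * (χ : G → ℂ) S.t := by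
        rw [hv]
        have := congrArg (fun z : ℤ => (z : ℂ)) hω
        push_cast at this
        linear_combination -this
      have c1 := omega_congr χ S.ou (g := S.u) rfl S.mem_K hω'
      rw [Finset.sum_congr rfl (g := fun _ => (y χ : ℂ)) fun k hk => by
        rw [IsClass.eq_of_isConj (IsIrr.classFun χ.2) (S.K_u k hk), hy], Finset.sum_const, S.card_K, hx] at c1
      have c2 := omega_congr χ S.ou (g := S.u * S.t)
        (by rw [mul_assoc, S.comm_t.eq]) S.mem_K hω'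
      rw [← Finset.add_sum_erase _ _ S.t_K, Finset.sum_congr rfl (g := fun _ => (y χ : ℂ)) fun k hk => by
          rw [IsClass.eq_of_isConj (IsIrr.classFun χ.2) (S.K_t k (Finset.mem_of_mem_erase hk)
            (Finset.ne_of_mem_erase hk)), hy],
        Finset.sum_const, Finset.card_erase_of_mem S.t_K, S.card_K,
        show S.u * S.t * S.t = S.u by rw [mul_assoc, ← sq, ← S.ot, pow_orderOf_eq_one, mul_one], hx, hy] at c2
      simp only [nsmul_eq_mul, Nat.reduceSub, Nat.cast_ofNat] at c1 c2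
      have d1 : (5 : ℤ) ∣ ω * x χ - 3 * y χ := Cong.int_dvd (p := 5) (by push_cast; exact c1)
      have d2 : (5 : ℤ) ∣ ω * y χ - (x χ + 2 * y χ) := Cong.int_dvd (p := 5) (by push_cast; exact c2)
      rw [hxeq, hyeq] at d1 d2
      have d3 : (5 : ℤ) ∣ 4 * ((ω + 1) * a χ) := by
        have := dvd_sub d1 d2
        rwa [show ω * (3 * a χ + T χ) - 3 * (T χ - a χ) - (ω * (T χ - a χ) - (3 * a χ + T χ + 2 * (T χ - a χ))) =
          4 * ((ω + 1) * a χ) by ring] at this
      have hp5 : Prime (5 : ℤ) := Int.prime_iff_natAbs_prime.2 (by norm_num)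
      have d4 : (5 : ℤ) ∣ (ω + 1) * a χ := (hp5.dvd_mul.1 d3).resolve_left (by norm_num)
      have d5 : (5 : ℤ) ∣ (ω - 3) * T χ := by
        have := dvd_sub d1 (d4.mul_left 3)
        rwa [show ω * (3 * a χ + T χ) - 3 * (T χ - a χ) - 3 * ((ω + 1) * a χ) = (ω - 3) * T χ by ring] at this
      have ba : a χ * a χ ≤ 5 := hsa ▸ Finset.single_le_sum (f := fun ψ => a ψ * a ψ)
        (fun ψ _ => mul_self_nonneg _) (Finset.mem_univ χ)
      have bT : T χ * T χ ≤ 10 := hsT ▸ Finset.single_le_sum (f := fun ψ => T ψ * T ψ)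
        (fun ψ _ => mul_self_nonneg _) (Finset.mem_univ χ)
      have ba' : -2 ≤ a χ ∧ a χ ≤ 2 := by constructor <;> nlinarith
      have bT' : -3 ≤ T χ ∧ T χ ≤ 3 := by constructor <;> nlinarith
      rcases hp5.dvd_mul.1 d4 with h | h
      · rcases hp5.dvd_mul.1 d5 with h' | h'
        · omega
        · omega
      · omega
    · have := congr_deg (p := 5) (j := 1) χ (by rw [S.ou, pow_one]) hxv
      exact_mod_cast this
  · simp only [List.mem_cons, List.not_mem_nil, or_false, not_or] at hg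
    have n1 : orderOf g ≠ orderOf S.u := by rw [S.ou]; exact hg.1
    have n2 : orderOf g ≠ orderOf (S.u * S.t) := by rw [S.o_ut]; exact hg.2.1
    have n3 : orderOf g ≠ orderOf (S.u * S.w) := by rw [S.o_uw]; exact hg.2.2
    have n4 : orderOf g ≠ orderOf (S.u * S.w⁻¹) := by rw [S.o_uw']; exact hg.2.2
    have f1 : ∑ χ : IrrCharacter G, (χ : G → ℂ) g * (x χ : ℂ) = 0 := by simpa [hx, map_intCast] using orth0 (G := G) n1
    have f2 : ∑ χ : IrrCharacter G, (χ : G → ℂ) g * (y χ : ℂ) = 0 := by simpa [hy, map_intCast] using orth0 (G := G) n2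
    have f3 : ∑ χ : IrrCharacter G, (χ : G → ℂ) g * conj (Z χ) = 0 := by
      simp only [hZ, map_add, mul_add, Finset.sum_add_distrib]
      rw [orth0 n3, orth0 n4, add_zero]
    constructor
    · refine (mul_eq_zero.1 ?_).resolve_left (show (4 : ℂ) ≠ 0 by norm_num)
      rw [Finset.mul_sum, Finset.sum_congr rfl (g := fun χ : IrrCharacter G => (χ : G → ℂ) g * (x χ : ℂ) - (χ : G → ℂ) g * (y χ : ℂ))
        fun χ _ => by linear_combination (χ : G → ℂ) g * ha4 χ, Finset.sum_sub_distrib, f1, f2, sub_zero]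
    · refine (mul_eq_zero.1 ?_).resolve_left (show (6 : ℂ) ≠ 0 by norm_num)
      rw [Finset.mul_sum, Finset.sum_congr rfl (g := fun χ : IrrCharacter G => (χ : G → ℂ) g * (x χ : ℂ) +
        3 * ((χ : G → ℂ) g * (y χ : ℂ)) - 2 * ((χ : G → ℂ) g * conj (Z χ))) fun χ _ => by
          have hc := congrArg conj (hT6 χ)
          simp only [map_sub, map_add, map_mul, map_intCast, map_ofNat] at hc
          linear_combination (χ : G → ℂ) g * hc,
        Finset.sum_sub_distrib, Finset.sum_add_distrib, ← Finset.mul_sum, ← Finset.mul_sum, f1, f2, f3]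
      ring

end Cfsg.Agent.Fus.M24Nse
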