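import Mathlib
import Cfsg.Agent.Lib.Fus.M24Nse.SecFive
import Cfsg.Agent.Lib.Fus.M24Nse.Options

/-!
Order 244823040 with the element counts of `M₂₄`: integral coordinates of the characters on the section of an
element of order seven with centralizer `7 × S₃`.
-/

set_option autoImplicit false
set_option linter.style.haveILetI false
set_option linter.unusedSectionVars false

namespace Cfsg.Agent.Fus.M24Nse

open scoped ComplexConjugate
open Cfsg Cfsg.Agent.Block Cfsg.Agent.Char Cfsg.Agent.Invol.M12Ord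
open Cfsg.Agent.Invol.M22Ord (PBlk)

universe u

variable {G : Type u} [Group G] [Finite G]

/-- The elements of the section of an element of order seven. -/
structure D7 [Fact (Nat.Prime 7)] (B : PBlk G 7 3) where
  u : G
  t : G
  w : G
  u_mem : u ∈ (B.P : Subgroup G)
  ou : orderOf u = 7
  ot : orderOf t = 2
  ow : orderOf w = 3
  t_mem : t ∈ B.C
  w_mem : w ∈ B.C
  cu : cn u = 42
  ct : cn (u * t) = 14
  cw : cn (u * w) = 21
  w_conj : IsConj w w⁻¹
  K : Finset G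
  card_K : K.card = 3
  t_K : t ∈ K
  mem_K : ∀ k : G, k ∈ K ↔ IsConj t k ∧ u * k = k * u
  K_u : ∀ k ∈ K, IsConj (u * k) (u * t)
  K_t : ∀ k ∈ K, k ≠ t → IsConj (u * t * k) (u * w)
  K_w : ∀ k ∈ K, IsConj (u * w * k) (u * t)
  nr_u : ¬ IsConj u u⁻¹
  rat_u : ∀ k : ℕ, k.Coprime 7 → IsConj (u ^ k) u ∨ IsConj (u ^ k) u⁻¹
  rat_t : ∀ k : ℕ, k.Coprime 14 → IsConj ((u * t) ^ k) (u * t) ∨ IsConj ((u * t) ^ k) (u * t)⁻¹
  rat_w : ∀ k : ℕ, k.Coprime 21 → IsConj ((u * w) ^ k) (u * w) ∨ IsConj ((u * w) ^ k) (u * w)⁻¹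

/-- The norm sum of a column. -/
theorem sum_sq_zero [Fintype G] {g : G} (h : ¬ IsConj g g⁻¹) :
    ∑ χ : IrrCharacter G, (χ : G → ℂ) g * (χ : G → ℂ) g = 0 := by
  have h' := orth0' h
  simpa [irr_apply_inv] using h'

theorem orth0_inv [Fintype G] {g h : G} (hne : orderOf g ≠ orderOf h) :
    ∑ χ : IrrCharacter G, (χ : G → ℂ) g * (χ : G → ℂ) h = 0 := by
  have h' := orth0 (g := g) (h := h⁻¹) (by rwa [orderOf_inv])
  simpa [irr_apply_inv] using h'

/-- A value on a section is congruent to the value at the regular part. -/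
theorem cong_regular {p : ℕ} [Fact p.Prime] {M : Ideal AlgInt} (hM : IsPModular p M) (χ : IrrCharacter G)
    {u v : G} {n : ℕ} (hu : orderOf u = p) (hv : orderOf v = n) (hpn : p.Coprime n) (hc : Commute u v) :
    MemLocalIdeal M ((χ : G → ℂ) (u * v) - (χ : G → ℂ) v) := by
  obtain ⟨l, hl⟩ := exists_pow_eq_self_of_coprime (show p.Coprime (orderOf v) by rw [hv]; exact hpn)
  have hu' : u ^ p = 1 := by rw [← hu]; exact pow_orderOf_eq_one u
  have hmem : v ∈ Subgroup.zpowers (u * v) := by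
    have h1 : ((u * v) ^ p) ^ l ∈ Subgroup.zpowers (u * v) :=
      pow_mem (pow_mem (Subgroup.mem_zpowers _) _) _
    rwa [hc.mul_pow, hu', one_mul, hl] at h1
  exact value_pPart_congr hM (irr_isChar χ) (g := u * v) (u := u) (v := v) rfl hc (k := 1)
    (by rw [pow_one, hu']) hmem

/-- Trace and discriminant of a value on a section with rational regular part. -/
theorem trace_disc {p : ℕ} [Fact p.Prime] (χ : IrrCharacter G) {u v : G} {n : ℕ} (hu : orderOf u = p)
    (hv : orderOf v = n) (hpn : p.Coprime n) (hc : Commute u v) {a R m : ℤ} (ha : (χ : G → ℂ) v = (a : ℂ))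
    (hR : (χ : G → ℂ) (u * v) + conj ((χ : G → ℂ) (u * v)) = (R : ℂ))
    (hm : (χ : G → ℂ) (u * v) * conj ((χ : G → ℂ) (u * v)) = (m : ℂ)) :
    (p : ℤ) ∣ R - 2 * a ∧ (p : ℤ) ∣ 4 * m - R * R ∧ R * R ≤ 4 * m := by
  obtain ⟨M, hM⟩ := exists_isPModular p Fact.out
  have h1 := cong_regular hM χ hu hv hpn hc
  have h2 := cong_regular hM χ (u := u⁻¹) (v := v⁻¹) ((orderOf_inv u).trans hu) ((orderOf_inv v).trans hv) hpn
    hc.inv_inv
  rw [← mul_inv_rev, ← hc.eq, irr_apply_inv, irr_apply_inv, ha, map_intCast] at h2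
  rw [ha] at h1
  refine ⟨?_, ?_, ?_⟩
  · have h := ideal_add hM h1 h2
    rw [show (χ : G → ℂ) (u * v) - (a : ℂ) + (conj ((χ : G → ℂ) (u * v)) - (a : ℂ)) = ((R - 2 * a : ℤ) : ℂ) by
      push_cast; rw [← hR]; ring] at h
    exact (ideal_intCast_iff hM _).1 h
  · have hd := ideal_sub hM h1 h2
    have h := ideal_mul_left hM (ring_of_ideal hd) hd
    rw [show ((χ : G → ℂ) (u * v) - (a : ℂ) - (conj ((χ : G → ℂ) (u * v)) - (a : ℂ))) *
      ((χ : G → ℂ) (u * v) - (a : ℂ) - (conj ((χ : G → ℂ) (u * v)) - (a : ℂ))) = ((R * R - 4 * m : ℤ) : ℂ) by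
      push_cast; rw [← hR, ← hm]; ring] at h
    have := (ideal_intCast_iff hM _).1 h
    have := dvd_neg.2 this
    rwa [neg_sub] at this
  · set z := (χ : G → ℂ) (u * v)
    have e1 : z.re + z.re = (R : ℝ) := by
      have := congrArg Complex.re hR
      simpa using this
    have e2 : z.re * z.re + z.im * z.im = (m : ℝ) := by
      have := congrArg Complex.re hm
      simpa [Complex.mul_re] using this
    have : ((R * R : ℤ) : ℝ) ≤ ((4 * m : ℤ) : ℝ) := by
      push_cast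
      rw [← e1, ← e2]
      nlinarith [mul_self_nonneg z.im]
    exact_mod_cast this

/-- Two congruent values with trace `R` and discriminant `-7` are equal. -/
theorem eq_of_cong {x y : ℂ} {R : ℤ} {n : ℤ} (hd : R * R - 4 * n = -7) (hxR : x + conj x = R)
    (hxn : x * conj x = n) (hyR : y + conj y = R) (hyn : y * conj y = n) (h : Cong 7 x y) : x = y := by
  have q : (x - y) * (x + y - (R : ℂ)) = 0 := by
    linear_combination x * hxR - y * hyR - hxn + hyn
  rcases mul_eq_zero.1 q with h0 | h0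
  · exact sub_eq_zero.1 h0
  exfalso
  unfold Cong at h
  have h2 := h.mul h
  have e : (x - y) / ((7 : ℕ) : ℂ) * ((x - y) / ((7 : ℕ) : ℂ)) = ((-7 : ℤ) : ℂ) / ((49 : ℕ) : ℂ) := by
    have e1 : (x - y) * (x - y) = ((-7 : ℤ) : ℂ) := by
      have hdc := congrArg (fun z : ℤ => (z : ℂ)) hd
      push_cast at hdc ⊢
      have hy' : y = (R : ℂ) - x := by linear_combination h0
      rw [hy']
      linear_combination hdc + 4 * x * hxR - 4 * hxn
    rw [div_mul_div_comm, e1]
    norm_num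
  obtain ⟨m, -, hm⟩ := exists_int h2 (by norm_num) e
  omega

/-- The five characters of the principal block at seven. -/
noncomputable def mem7 [Fact (Nat.Prime 7)] (B : PBlk G 7 3) : Finset (IrrCharacter G) := by
  classical exact insert (trivialIrr G) (B.X ∪ B.Y)

variable [IsSimpleGroup G] [Fact (Nat.Prime 7)] {B : PBlk G 7 3} (S : D7 B)

namespace D7

theorem comm_t : Commute S.u S.t := B.comm S.u_mem S.t_mem

theorem comm_w : Commute S.u S.w := B.comm S.u_mem S.w_mem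

theorem o_ut : orderOf (S.u * S.t) = 14 :=
  (orderOf_section S.ou S.ot S.comm_t (by norm_num)).trans (by norm_num)

theorem o_uw : orderOf (S.u * S.w) = 21 :=
  (orderOf_section S.ou S.ow S.comm_w (by norm_num)).trans (by norm_num)

theorem nr_t : ¬ IsConj (S.u * S.t) (S.u * S.t)⁻¹ := fun h => by
  refine S.nr_u ?_
  have h8 := h.pow 8
  have e : (S.u * S.t) ^ 8 = S.u := by
    rw [S.comm_t.mul_pow, ← pow_mod_orderOf S.u, S.ou, ← pow_mod_orderOf S.t, S.ot]
    simp
  rwa [inv_pow, e] at h8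

theorem nr_w : ¬ IsConj (S.u * S.w) (S.u * S.w)⁻¹ := fun h => by
  refine S.nr_u ?_
  have h8 := h.pow 15
  have e : (S.u * S.w) ^ 15 = S.u := by
    rw [S.comm_w.mul_pow, ← pow_mod_orderOf S.u, S.ou, ← pow_mod_orderOf S.w, S.ow]
    simp
  rwa [inv_pow, e] at h8

end D7

/-- The data of the coordinates at seven of one character outside the principal block. -/
structure Out7 (χ : IrrCharacter G) (q : ℤ × ℤ × ℤ × ℤ) : Prop where
  coord : Coord7 (dg χ) q
  trace : (χ : G → ℂ) S.u + conj ((χ : G → ℂ) S.u) = ((rr q : ℤ) : ℂ)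
  norm : (χ : G → ℂ) S.u * conj ((χ : G → ℂ) S.u) = ((nn q : ℤ) : ℂ)

/-- The coordinates at seven. -/
theorem exists_coord7 (hG : Nat.card G = 244823040) :
    ∃ q : IrrCharacter G → ℤ × ℤ × ℤ × ℤ,
      (∀ χ ∈ mem7 B, q χ = (0, 0, 0, 0)) ∧
      (∀ χ : IrrCharacter G, χ ∉ mem7 B → Out7 S χ (q χ)) ∧
      (∀ ψ ∈ B.Y, (ψ : G → ℂ) S.u + conj ((ψ : G → ℂ) S.u) = ((-B.ε : ℤ) : ℂ) ∧
        (ψ : G → ℂ) S.u * conj ((ψ : G → ℂ) S.u) = 2) ∧
      ∑ χ, (q χ).2.1 = 7 ∧ ∑ χ, (q χ).2.2.2 = 7 ∧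
      ∀ g : G, orderOf g ∉ ([7, 14, 21] : List ℕ) →
        ∑ χ : IrrCharacter G, (χ : G → ℂ) g * ((q χ).1 : ℂ) = 0 ∧
          ∑ χ : IrrCharacter G, (χ : G → ℂ) g * ((q χ).2.2.1 : ℂ) = 0 := by
  classical
  haveI := Fintype.ofFinite G
  have hna := not_comm hG
  have hu1 : S.u ≠ 1 := ne_one_of_orderOf S.ou (by norm_num)
  set x : IrrCharacter G → ℂ := fun χ => (χ : G → ℂ) S.u with hx
  set y : IrrCharacter G → ℂ := fun χ => (χ : G → ℂ) (S.u * S.t) with hy
  set z : IrrCharacter G → ℂ := fun χ => (χ : G → ℂ) (S.u * S.w) with hz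
  choose Rx nx hRx hnx using fun χ => exists_trace_norm χ (g := S.u) (fun k hk => S.rat_u k (by rwa [S.ou] at hk))
  choose Ry ny hRy hny using fun χ =>
    exists_trace_norm χ (g := S.u * S.t) (fun k hk => S.rat_t k (by rwa [S.o_ut] at hk))
  choose Rz nz hRz hnz using fun χ =>
    exists_trace_norm χ (g := S.u * S.w) (fun k hk => S.rat_w k (by rwa [S.o_uw] at hk))
  have ne1 : orderOf S.u ≠ orderOf (S.u * S.t) := by rw [S.ou, S.o_ut]; norm_num
  have ne2 : orderOf S.u ≠ orderOf (S.u * S.w) := by rw [S.ou, S.o_uw]; norm_num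
  have ne3 : orderOf (S.u * S.t) ≠ orderOf (S.u * S.w) := by rw [S.o_ut, S.o_uw]; norm_num
  have exx : ∑ χ, x χ * conj (x χ) = 42 := orth1 S.cu
  have eyy : ∑ χ, y χ * conj (y χ) = 14 := orth1 S.ct
  have ezz : ∑ χ, z χ * conj (z χ) = 21 := orth1 S.cw
  have exy : ∑ χ, x χ * conj (y χ) = 0 := orth0 ne1
  have exz : ∑ χ, x χ * conj (z χ) = 0 := orth0 ne2
  have eyz : ∑ χ, y χ * conj (z χ) = 0 := orth0 ne3
  have eyx : ∑ χ, y χ * conj (x χ) = 0 := orth0 ne1.symm
  have ezx : ∑ χ, z χ * conj (x χ) = 0 := orth0 ne2.symm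
  have ezy : ∑ χ, z χ * conj (y χ) = 0 := orth0 ne3.symm
  -- sums of squares of the traces
  have sq : ∀ (g : G) (R : IrrCharacter G → ℤ) (n : ℕ), ¬ IsConj g g⁻¹ → cn g = n →
      (∀ χ : IrrCharacter G, (χ : G → ℂ) g + conj ((χ : G → ℂ) g) = (R χ : ℂ)) →
      ∑ χ, R χ * R χ = 2 * (n : ℤ) := by
    intro g R n hnr hn hR
    apply Int.cast_injective (α := ℂ)
    push_cast
    have h2 := sum_sq_zero hnr
    have h3 := congrArg conj h2
    rw [map_sum, map_zero] at h3
    simp only [map_mul] at h3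
    rw [Finset.sum_congr rfl (g := fun χ : IrrCharacter G => (χ : G → ℂ) g * (χ : G → ℂ) g +
      2 * ((χ : G → ℂ) g * conj ((χ : G → ℂ) g)) + conj ((χ : G → ℂ) g) * conj ((χ : G → ℂ) g)) fun χ _ => by
        rw [← hR]; ring, Finset.sum_add_distrib, Finset.sum_add_distrib, ← Finset.mul_sum, orth1 hn, h2, h3]
    ring
  have sRx := sq _ Rx 42 S.nr_u S.cu hRx
  have sRy := sq _ Ry 14 S.nr_t S.ct hRy
  have sRz := sq _ Rz 21 S.nr_w S.cw hRz
  have sn : ∀ (g : G) (m : IrrCharacter G → ℤ) (n : ℕ), cn g = n →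
      (∀ χ : IrrCharacter G, (χ : G → ℂ) g * conj ((χ : G → ℂ) g) = (m χ : ℂ)) → ∑ χ, m χ = (n : ℤ) := by
    intro g m n hn hm
    apply Int.cast_injective (α := ℂ)
    push_cast
    rw [← orth1 hn]
    exact Finset.sum_congr rfl fun χ _ => (hm χ).symm
  have snx := sn _ nx 42 S.cu hnx
  have sny := sn _ ny 14 S.ct hny
  have snz := sn _ nz 21 S.cw hnz
  -- rational values at the regular parts
  choose vt hvt using fun χ : IrrCharacter G =>
    (⟨_, (OrdP.involution_value hna χ (x := S.t) (by rw [← S.ot, pow_orderOf_eq_one])).choose_spec.1⟩ :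
      ∃ a : ℤ, (χ : G → ℂ) S.t = (a : ℂ))
  obtain ⟨vw, hvw, -⟩ := int_column (g := S.w) fun k hk => by
    rw [S.ow] at hk
    rw [← pow_mod_orderOf, S.ow]
    have h3 : k % 3 ≠ 0 := fun h => by
      have := Nat.le_of_dvd one_pos (hk ▸ Nat.dvd_gcd (Nat.dvd_of_mod_eq_zero h) (dvd_refl 3))
      omega
    rcases (show k % 3 = 1 ∨ k % 3 = 2 by omega) with h | h <;> rw [h]
    · rw [pow_one]
    · rw [show S.w ^ 2 = S.w⁻¹ by
        rw [eq_inv_iff_mul_eq_one, ← pow_succ]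
        have h := pow_orderOf_eq_one S.w
        rw [S.ow] at h
        exact h]
      exact S.w_conj.symm
  have td_x : ∀ χ, (7 : ℤ) ∣ Rx χ - 2 * (dg χ : ℤ) ∧ (7 : ℤ) ∣ 4 * nx χ - Rx χ * Rx χ ∧ Rx χ * Rx χ ≤ 4 * nx χ :=
    fun χ => trace_disc (p := 7) χ (v := (1 : G)) S.ou orderOf_one (Nat.coprime_one_right 7) (Commute.one_right _)
      (by rw [value_one]; norm_cast) (by rw [mul_one]; exact hRx χ) (by rw [mul_one]; exact hnx χ)
  have td_y : ∀ χ, (7 : ℤ) ∣ Ry χ - 2 * vt χ ∧ (7 : ℤ) ∣ 4 * ny χ - Ry χ * Ry χ ∧ Ry χ * Ry χ ≤ 4 * ny χ :=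
    fun χ => trace_disc (p := 7) χ S.ou S.ot (by norm_num) S.comm_t (hvt χ) (hRy χ) (hny χ)
  have td_z : ∀ χ, (7 : ℤ) ∣ Rz χ - 2 * vw χ ∧ (7 : ℤ) ∣ 4 * nz χ - Rz χ * Rz χ ∧ Rz χ * Rz χ ≤ 4 * nz χ :=
    fun χ => trace_disc (p := 7) χ S.ou S.ow (by norm_num) S.comm_w (hvw χ) (hRz χ) (hnz χ)
  -- the central character at the involution
  have homega : ∀ χ : IrrCharacter G, ∃ ω : ℤ, Cong 7 ((ω : ℂ) * x χ) (3 * y χ) ∧
      Cong 7 ((ω : ℂ) * z χ) (3 * y χ) := by
    intro χ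
    obtain ⟨ω, hω⟩ := OrdP.index_dvd χ (hvt χ)
    have hω' : (ω : ℂ) * (dg χ : ℂ) = ((Subgroup.centralizer ({S.t} : Set G)).index : ℂ) * (χ : G → ℂ) S.t := by
      rw [hvt]
      have := congrArg (fun z : ℤ => (z : ℂ)) hω
      push_cast at this
      linear_combination -this
    have c1 := omega_congr χ S.ou (g := S.u) rfl S.mem_K hω'
    rw [Finset.sum_congr rfl (g := fun _ => y χ) fun k hk =>
      IsClass.eq_of_isConj (IsIrr.classFun χ.2) (S.K_u k hk), Finset.sum_const, S.card_K] at c1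
    have c3 := omega_congr χ S.ou (g := S.u * S.w) (by rw [mul_assoc, S.comm_w.eq]) S.mem_K hω'
    rw [Finset.sum_congr rfl (g := fun _ => y χ) fun k hk =>
      IsClass.eq_of_isConj (IsIrr.classFun χ.2) (S.K_w k hk), Finset.sum_const, S.card_K] at c3
    simp only [nsmul_eq_mul, Nat.cast_ofNat] at c1 c3
    exact ⟨ω, c1, c3⟩
  choose ω homx homz using homega
  -- the members
  have hmem : ∀ χ, χ ∈ mem7 B ↔ χ = trivialIrr G ∨ χ ∈ B.X ∨ χ ∈ B.Y := fun χ => by
    simp [mem7]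
  have hvX : ∀ χ ∈ insert (trivialIrr G) B.X, ∃ s : ℤ, (s = 1 ∨ s = -1) ∧ x χ = s ∧ y χ = s ∧ z χ = s := by
    intro χ hχ
    rcases Finset.mem_insert.1 hχ with rfl | hX
    · exact ⟨1, Or.inl rfl, by rw [Int.cast_one]; rfl, by rw [Int.cast_one]; rfl, by rw [Int.cast_one]; rfl⟩
    · have h1 := B.valX χ hX _ S.u_mem hu1 1 (one_mem _) (by simp)
      rw [mul_one] at h1
      exact ⟨B.s χ, B.s_sign χ hX, h1, B.valX χ hX _ S.u_mem hu1 _ S.t_mem (by rw [S.ot]; norm_num),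
        B.valX χ hX _ S.u_mem hu1 _ S.w_mem (by rw [S.ow]; norm_num)⟩
  have hvXR : ∀ χ ∈ insert (trivialIrr G) B.X, Rx χ * Rx χ = 4 ∧ Ry χ * Ry χ = 4 ∧ Rz χ * Rz χ = 4 ∧
      nx χ = 1 ∧ ny χ = 1 ∧ nz χ = 1 := by
    intro χ hχ
    obtain ⟨s, hs, e1, e2, e3⟩ := hvX χ hχ
    have key : ∀ (R n : ℤ) (v : ℂ), v = (s : ℂ) → v + conj v = (R : ℂ) → v * conj v = (n : ℂ) →
        R * R = 4 ∧ n = 1 := by
      intro R n v hv hR hn
      rw [hv, map_intCast] at hR hn
      have hR' : s + s = R := Int.cast_injective (α := ℂ) (by push_cast; exact hR)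
      have hn' : s * s = n := Int.cast_injective (α := ℂ) (by push_cast; exact hn)
      rcases hs with rfl | rfl <;> constructor <;> subst R <;> omega
    obtain ⟨a1, b1⟩ := key _ _ _ e1 (hRx χ) (hnx χ)
    obtain ⟨a2, b2⟩ := key _ _ _ e2 (hRy χ) (hny χ)
    obtain ⟨a3, b3⟩ := key _ _ _ e3 (hRz χ) (hnz χ)
    exact ⟨a1, a2, a3, b1, b2, b3⟩
  have hcX : (insert (trivialIrr G) B.X).card = 3 := by
    rw [Finset.card_insert_of_notMem B.triv_X]
    have := B.card_X
    omega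
  obtain ⟨ψ1, ψ2, hne12, hY⟩ := Finset.card_eq_two.1 (show B.Y.card = 2 by have := B.card_Y; omega)
  have hm1 : ψ1 ∈ B.Y := by rw [hY]; simp
  have hm2 : ψ2 ∈ B.Y := by rw [hY]; simp
  have hsub : Disjoint (insert (trivialIrr G) B.X) B.Y :=
    Finset.disjoint_insert_left.2 ⟨B.triv_Y, B.disj⟩
  -- a sum over all characters bounds the sum over the members
  have bound : ∀ (f : IrrCharacter G → ℤ) (c : ℤ), (∀ χ, 0 ≤ f χ) → (∀ χ ∈ insert (trivialIrr G) B.X, f χ = c) →
      3 * c + (f ψ1 + f ψ2) ≤ ∑ χ, f χ := by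
    intro f c hf hc
    refine le_trans (le_of_eq ?_) (Finset.sum_le_sum_of_subset_of_nonneg
      (Finset.subset_univ (insert (trivialIrr G) B.X ∪ B.Y)) fun χ _ _ => hf χ)
    rw [Finset.sum_union hsub, Finset.sum_congr rfl (g := fun _ => c) hc, Finset.sum_const, hcX, hY,
      Finset.sum_pair hne12]
    simp
  have hYsum : ∀ v : G, v ∈ B.C → ¬ 7 ∣ orderOf v →
      (ψ1 : G → ℂ) (S.u * v) + (ψ2 : G → ℂ) (S.u * v) = -(B.ε : ℂ) := fun v hv hr => by
    have h := B.sum_Y S.u_mem hu1 hv hr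
    rwa [hY, Finset.sum_pair hne12] at h
  have sx : x ψ1 + x ψ2 = -(B.ε : ℂ) := by
    have := hYsum 1 (one_mem _) (by simp)
    rwa [mul_one] at this
  have sy : y ψ1 + y ψ2 = -(B.ε : ℂ) := hYsum _ S.t_mem (by rw [S.ot]; norm_num)
  have sz : z ψ1 + z ψ2 = -(B.ε : ℂ) := hYsum _ S.w_mem (by rw [S.ow]; norm_num)
  have hεc : ∀ v1 v2 : ℂ, v1 + v2 = -(B.ε : ℂ) → conj v1 + conj v2 = -(B.ε : ℂ) := fun v1 v2 h => by
    have := congrArg conj h
    simpa using this
  have pair : ∀ (v1 v2 : ℂ) (R1 R2 n1 n2 : ℤ), v1 + v2 = -(B.ε : ℂ) → v1 + conj v1 = (R1 : ℂ) →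
      v2 + conj v2 = (R2 : ℂ) → v1 * conj v1 = (n1 : ℂ) → v2 * conj v2 = (n2 : ℂ) →
      R1 + R2 = -2 * B.ε ∧ n2 = n1 + B.ε * R1 + 1 := by
    intro v1 v2 R1 R2 n1 n2 h hR1 hR2 hn1 hn2
    have h' := hεc _ _ h
    have ee : (B.ε : ℂ) * (B.ε : ℂ) = 1 := by exact_mod_cast B.εε
    constructor <;> apply Int.cast_injective (α := ℂ) <;> push_cast
    · linear_combination h + h' - hR1 - hR2
    · rw [show v2 = -(B.ε : ℂ) - v1 by linear_combination h] at hn2
      rw [map_sub, map_neg, map_intCast] at hn2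
      linear_combination -hn2 + (B.ε : ℂ) * hR1 + hn1 + ee
  have cY : ∀ (v : G), v ∈ B.C → ¬ 7 ∣ orderOf v → ∀ a : IrrCharacter G → ℤ,
      (∀ χ : IrrCharacter G, (χ : G → ℂ) v = a χ) → ∀ ψ ∈ B.Y, (7 : ℤ) ∣ a ψ - 3 * B.ε := by
    intro v hv hr a ha ψ hψ
    have h := B.congr_Y hv hr (fun χ _ => ha χ) (ha B.y)
    have e1 : a ψ = a B.y := Int.cast_injective (α := ℂ) (by rw [← ha, ← ha]; exact B.eq_y hψ hr)
    push_cast at h
    rw [e1, mul_comm 3]
    exact h
  have dY : ∀ ψ ∈ B.Y, (7 : ℤ) ∣ (dg ψ : ℤ) - 3 * B.ε := fun ψ hψ => by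
    have := B.deg_Y ψ hψ
    push_cast at this
    omega
  have tY := cY S.t S.t_mem (by rw [S.ot]; norm_num) vt hvt
  have wY := cY S.w S.w_mem (by rw [S.ow]; norm_num) vw hvw
  -- the traces of the exceptional characters
  have hsmall : ∀ R1 R2 B0 : ℤ, (7 : ℤ) ∣ R1 + B.ε → R1 + R2 = -2 * B.ε → R1 * R1 + R2 * R2 ≤ B0 → B0 ≤ 72 →
      R1 = -B.ε ∧ R2 = -B.ε := by
    intro R1 R2 B0 h1 h2 h3 h4
    obtain ⟨j, hj⟩ := h1
    have e1 : R1 = -B.ε + 7 * j := by omega
    have e2 : R2 = -B.ε - 7 * j := by omega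
    rw [e1, e2] at h3
    have hj0 : j = 0 := by
      by_contra hne
      have : 1 ≤ j * j := by
        rcases Int.lt_or_lt_of_ne hne with hlt | hgt <;> nlinarith
      have := B.εε
      nlinarith
    omega
  obtain ⟨px1, px2⟩ := pair (x ψ1) (x ψ2) _ _ _ _ sx (hRx ψ1) (hRx ψ2) (hnx ψ1) (hnx ψ2)
  obtain ⟨py1, py2⟩ := pair (y ψ1) (y ψ2) _ _ _ _ sy (hRy ψ1) (hRy ψ2) (hny ψ1) (hny ψ2)
  obtain ⟨pz1, pz2⟩ := pair (z ψ1) (z ψ2) _ _ _ _ sz (hRz ψ1) (hRz ψ2) (hnz ψ1) (hnz ψ2)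
  have bRx := bound (fun χ => Rx χ * Rx χ) 4 (fun χ => mul_self_nonneg _) fun χ hχ => (hvXR χ hχ).1
  have bRy := bound (fun χ => Ry χ * Ry χ) 4 (fun χ => mul_self_nonneg _) fun χ hχ => (hvXR χ hχ).2.1
  have bRz := bound (fun χ => Rz χ * Rz χ) 4 (fun χ => mul_self_nonneg _) fun χ hχ => (hvXR χ hχ).2.2.1
  rw [sRx] at bRx
  rw [sRy] at bRy
  rw [sRz] at bRz
  obtain ⟨ex1, ex2⟩ := hsmall (Rx ψ1) (Rx ψ2) 72 (by
    have := (td_x ψ1).1; have := dY ψ1 hm1; omega) px1 (by omega) le_rfl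
  obtain ⟨ey1, ey2⟩ := hsmall (Ry ψ1) (Ry ψ2) 16 (by
    have := (td_y ψ1).1; have := tY ψ1 hm1; omega) py1 (by omega) (by norm_num)
  obtain ⟨ez1, ez2⟩ := hsmall (Rz ψ1) (Rz ψ2) 30 (by
    have := (td_z ψ1).1; have := wY ψ1 hm1; omega) pz1 (by omega) (by norm_num)
  have hnnn : ∀ (R n : IrrCharacter G → ℤ), (∀ χ, R χ * R χ ≤ 4 * n χ) → ∀ χ, 0 ≤ n χ := fun R n h χ => by
    have := h χ
    have := mul_self_nonneg (R χ)
    omega
  have bnx := bound nx 1 (hnnn _ _ fun χ => (td_x χ).2.2) fun χ hχ => (hvXR χ hχ).2.2.2.1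
  have bny := bound ny 1 (hnnn _ _ fun χ => (td_y χ).2.2) fun χ hχ => (hvXR χ hχ).2.2.2.2.1
  have bnz := bound nz 1 (hnnn _ _ fun χ => (td_z χ).2.2) fun χ hχ => (hvXR χ hχ).2.2.2.2.2
  rw [snx] at bnx
  rw [sny] at bny
  rw [snz] at bnz
  rw [ex1, mul_neg, B.εε] at px2
  rw [ey1, mul_neg, B.εε] at py2
  rw [ez1, mul_neg, B.εε] at pz2
  have hn2 : ∀ R n : ℤ, R = -B.ε → (7 : ℤ) ∣ 4 * n - R * R → R * R ≤ 4 * n → (7 : ℤ) ∣ n - 2 ∧ 2 ≤ n := by
    intro R n h1 h2 h3
    rw [h1, neg_mul_neg, B.εε] at h2 h3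
    omega
  -- the central character is three modulo seven
  have homega3 : (7 : ℤ) ∣ ω ψ1 - 3 := by
    have h1 := homx ψ1
    have h1c := h1.conj
    simp only [map_mul, map_intCast, map_ofNat] at h1c
    have h2 := Cong.add h1 h1c
    rw [← mul_add, ← mul_add, show x ψ1 + conj (x ψ1) = (Rx ψ1 : ℂ) from hRx ψ1,
      show y ψ1 + conj (y ψ1) = (Ry ψ1 : ℂ) from hRy ψ1, ex1, ey1] at h2
    have h3 : (7 : ℤ) ∣ ω ψ1 * -B.ε - 3 * -B.ε := Cong.int_dvd (p := 7) (by push_cast at h2 ⊢; exact h2)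
    rcases B.ε_sign with h | h <;> rw [h] at h3 <;> omega
  have hxy : ∀ v : IrrCharacter G → ℂ, Cong 7 ((ω ψ1 : ℂ) * v ψ1) (3 * y ψ1) → IsIntegral ℤ (v ψ1) →
      Cong 7 (v ψ1) (y ψ1) := by
    intro v h hi
    obtain ⟨j, hj⟩ := homega3
    have hy' : IsIntegral ℤ (y ψ1) := irr_isIntegral ψ1 _
    have e : (v ψ1 - y ψ1) / ((7 : ℕ) : ℂ) = ((5 : ℤ) : ℂ) * (((ω ψ1 : ℂ) * v ψ1 - 3 * y ψ1) / ((7 : ℕ) : ℂ)) -
        ((5 * j : ℤ) : ℂ) * v ψ1 - ((2 : ℤ) : ℂ) * (v ψ1 - y ψ1) := by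
      have hj' := congrArg (fun z : ℤ => (z : ℂ)) hj
      push_cast at hj' ⊢
      field_simp
      linear_combination -(5 * v ψ1) * hj'
    show IsIntegral ℤ _
    rw [e]
    exact (((isIntegral_int 5).mul h).sub ((isIntegral_int _).mul hi)).sub ((isIntegral_int 2).mul (hi.sub hy'))
  -- the norms of the exceptional characters
  have hy2 : ny ψ1 = 2 := by
    have := hn2 _ _ ey1 (td_y ψ1).2.1 (td_y ψ1).2.2
    omega
  have hsame : ∀ (v : IrrCharacter G → ℂ) (n : ℤ), Cong 7 (v ψ1) (y ψ1) → v ψ1 + conj (v ψ1) = ((-B.ε : ℤ) : ℂ) →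
      v ψ1 * conj (v ψ1) = (n : ℂ) → (7 : ℤ) ∣ n - 2 → IsIntegral ℤ (v ψ1) → (49 : ℤ) ∣ n - 2 := by
    intro v n h hR hn hdiv hi
    obtain ⟨m, hm⟩ := hdiv
    obtain ⟨M, hM⟩ := exists_isPModular 7 Fact.out
    -- the sum of the two differences lies in the maximal ideal
    have hyR : y ψ1 + conj (y ψ1) = ((-B.ε : ℤ) : ℂ) := by rw [← ey1]; exact hRy ψ1
    have hyn : y ψ1 * conj (y ψ1) = ((2 : ℤ) : ℂ) := by rw [← hy2]; exact hny ψ1
    set a := (v ψ1 - y ψ1) / ((7 : ℕ) : ℂ) with ha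
    have hai : IsIntegral ℤ a := h
    have hsum : MemLocalIdeal M ((v ψ1 - conj (v ψ1)) + (y ψ1 - conj (y ψ1))) := by
      have h7 : MemLocalIdeal M (((7 : ℤ) : ℂ)) := (ideal_intCast_iff hM _).2 (by norm_num)
      have hyy : MemLocalIdeal M (y ψ1 - conj (y ψ1)) := by
        have d1 := cong_regular hM ψ1 S.ou S.ot (by norm_num) S.comm_t
        have d2 := cong_regular hM ψ1 (u := S.u⁻¹) (v := S.t⁻¹) ((orderOf_inv _).trans S.ou)
          ((orderOf_inv _).trans S.ot) (by norm_num) S.comm_t.inv_inv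
        rw [← mul_inv_rev, ← S.comm_t.eq, irr_apply_inv, irr_apply_inv, hvt, map_intCast] at d2
        rw [hvt] at d1
        have := ideal_sub hM d1 d2
        rwa [show (ψ1 : G → ℂ) (S.u * S.t) - (vt ψ1 : ℂ) - (conj ((ψ1 : G → ℂ) (S.u * S.t)) - (vt ψ1 : ℂ)) =
          y ψ1 - conj (y ψ1) by simp only [hy]; ring] at this
      have := ideal_add hM (ideal_mul_left hM (ring_of_integral hM (hai.sub (isIntegral_conj hai))) h7)
        (ideal_add hM hyy hyy)
      rwa [show (a - conj a) * ((7 : ℤ) : ℂ) + (y ψ1 - conj (y ψ1) + (y ψ1 - conj (y ψ1))) =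
        (v ψ1 - conj (v ψ1)) + (y ψ1 - conj (y ψ1)) by
          rw [ha, map_div₀, map_sub, map_natCast]; push_cast; field_simp; ring] at this
    have hprod := ideal_mul_left hM (ring_of_integral hM (hai.sub (isIntegral_conj hai))) hsum
    have e : (a - conj a) * ((v ψ1 - conj (v ψ1)) + (y ψ1 - conj (y ψ1))) = ((-4 * m : ℤ) : ℂ) := by
      have hm' := congrArg (fun z : ℤ => (z : ℂ)) hm
      push_cast at hm' hR hn hyR hyn ⊢
      rw [ha, map_div₀, map_sub, map_natCast]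
      push_cast
      field_simp
      linear_combination (v ψ1 + conj (v ψ1) + -(B.ε : ℂ)) * hR - (y ψ1 + conj (y ψ1) + -(B.ε : ℂ)) * hyR -
        4 * hn + 4 * hyn - 4 * hm'
    rw [e] at hprod
    have := (ideal_intCast_iff hM _).1 hprod
    push_cast at this
    omega
  have hx2 : nx ψ1 = 2 := by
    obtain ⟨h7, hge⟩ := hn2 _ _ ex1 (td_x ψ1).2.1 (td_x ψ1).2.2
    have hi : IsIntegral ℤ (x ψ1) := irr_isIntegral ψ1 _
    have := hsame x _ (hxy x (homx ψ1) hi) (by rw [← ex1]; exact hRx ψ1) (hnx ψ1) h7 hi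
    omega
  have hz2 : nz ψ1 = 2 := by
    obtain ⟨h7, hge⟩ := hn2 _ _ ez1 (td_z ψ1).2.1 (td_z ψ1).2.2
    have hi : IsIntegral ℤ (z ψ1) := irr_isIntegral ψ1 _
    have := hsame z _ (hxy z (homz ψ1) hi) (by rw [← ez1]; exact hRz ψ1) (hnz ψ1) h7 hi
    omega
  have hd7 : (-B.ε) * (-B.ε) - 4 * 2 = -7 := by rw [neg_mul_neg, B.εε]; norm_num
  have heq1 : x ψ1 = y ψ1 := eq_of_cong hd7 (by rw [← ex1]; exact hRx ψ1) (by rw [← hx2]; exact hnx ψ1)
    (by rw [← ey1]; exact hRy ψ1) (by rw [← hy2]; exact hny ψ1) (hxy x (homx ψ1) (irr_isIntegral ψ1 _))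
  have heq2 : z ψ1 = y ψ1 := eq_of_cong hd7 (by rw [← ez1]; exact hRz ψ1) (by rw [← hz2]; exact hnz ψ1)
    (by rw [← ey1]; exact hRy ψ1) (by rw [← hy2]; exact hny ψ1) (hxy z (homz ψ1) (irr_isIntegral ψ1 _))
  have hYv : ∀ ψ ∈ B.Y, x ψ = y ψ ∧ z ψ = y ψ ∧ nx ψ = 2 ∧ Rx ψ = -B.ε := by
    intro ψ hψ
    rw [hY, Finset.mem_insert, Finset.mem_singleton] at hψ
    rcases hψ with rfl | rfl
    · exact ⟨heq1, heq2, hx2, ex1⟩
    · exact ⟨by linear_combination sx - sy - heq1, by linear_combination sz - sy - heq2, by omega, ex2⟩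
  -- the principal coordinate vanishes outside
  set A1 : IrrCharacter G → ℂ := fun χ => x χ + 3 * y χ + 2 * z χ with hA1
  have hA1s : ∑ χ, A1 χ * conj (A1 χ) = 252 := by
    rw [Finset.sum_congr rfl (g := fun χ => x χ * conj (x χ) + 9 * (y χ * conj (y χ)) + 4 * (z χ * conj (z χ)) +
      3 * (x χ * conj (y χ)) + 3 * (y χ * conj (x χ)) + 2 * (x χ * conj (z χ)) + 2 * (z χ * conj (x χ)) +
      6 * (y χ * conj (z χ)) + 6 * (z χ * conj (y χ))) fun χ _ => by
        simp only [hA1, map_add, map_mul, map_ofNat]; ring]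
    simp only [Finset.sum_add_distrib, ← Finset.mul_sum]
    rw [exx, eyy, ezz, exy, eyx, exz, ezx, eyz, ezy]
    norm_num
  have hA1z : ∀ χ, χ ∉ mem7 B → A1 χ = 0 := by
    intro χ hχ
    have h : ∑ ψ ∈ Finset.univ \ mem7 B, Complex.normSq (A1 ψ) = 0 := by
      have h1 : ∑ ψ, Complex.normSq (A1 ψ) = 252 := by
        apply Complex.ofReal_injective
        push_cast
        rw [← hA1s]
        exact Finset.sum_congr rfl fun ψ _ => (Complex.mul_conj _).symm
      have h2 : ∑ ψ ∈ mem7 B, Complex.normSq (A1 ψ) = 252 := by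
        have hm7 : mem7 B = insert (trivialIrr G) B.X ∪ B.Y := by
          ext χ; simp [mem7]
        rw [hm7, Finset.sum_union hsub, Finset.sum_congr rfl (g := fun _ => (36 : ℝ)) fun ψ hψ => ?_,
          Finset.sum_congr rfl (s₁ := B.Y) (g := fun _ => (72 : ℝ)) fun ψ hψ => ?_, Finset.sum_const, hcX,
          Finset.sum_const, hY, Finset.card_pair hne12]
        · norm_num
        · obtain ⟨e1, e2, e3, -⟩ := hYv ψ hψ
          apply Complex.ofReal_injective
          rw [← Complex.mul_conj]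
          have hn := hnx ψ
          rw [e3] at hn
          change x ψ * conj (x ψ) = _ at hn
          simp only [hA1, e2, ← e1]
          push_cast at hn ⊢
          rw [show x ψ + 3 * x ψ + 2 * x ψ = 6 * x ψ by ring, map_mul, map_ofNat]
          linear_combination 36 * hn
        · obtain ⟨s, hs, e1, e2, e3⟩ := hvX ψ hψ
          simp only [hA1, e1, e2, e3]
          rcases hs with rfl | rfl <;> norm_num [Complex.normSq]
      rw [← Finset.sum_sdiff (Finset.subset_univ (mem7 B)), h2] at h1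
      linarith
    exact Complex.normSq_eq_zero.1 ((Finset.sum_eq_zero_iff_of_nonneg fun ψ _ => Complex.normSq_nonneg _).1 h χ
      (Finset.mem_sdiff.2 ⟨Finset.mem_univ χ, hχ⟩))
  have hmemv : ∀ χ ∈ mem7 B, x χ = y χ ∧ z χ = y χ := by
    intro χ hχ
    rcases (hmem χ).1 hχ with rfl | h | h
    · exact ⟨rfl, rfl⟩
    · obtain ⟨s, -, e1, e2, e3⟩ := hvX χ (Finset.mem_insert_of_mem h)
      exact ⟨e1.trans e2.symm, e3.trans e2.symm⟩
    · exact ⟨(hYv χ h).1, (hYv χ h).2.1⟩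
  -- the two nonprincipal coordinates
  let bs : IrrCharacter G → ℂ := fun χ => if χ ∈ mem7 B then 0 else -y χ
  let b2 : IrrCharacter G → ℂ := fun χ => if χ ∈ mem7 B then 0 else -(y χ + z χ)
  have hbs : ∀ χ, 6 * bs χ = x χ - 3 * y χ + 2 * z χ := by
    intro χ
    by_cases hχ : χ ∈ mem7 B
    · simp only [bs, if_pos hχ, (hmemv χ hχ).1, (hmemv χ hχ).2]; ring
    · have := hA1z χ hχ
      simp only [hA1] at this
      simp only [bs, if_neg hχ]
      linear_combination -this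
  have hb2 : ∀ χ, 3 * b2 χ = x χ - z χ := by
    intro χ
    by_cases hχ : χ ∈ mem7 B
    · simp only [b2, if_pos hχ, (hmemv χ hχ).1, (hmemv χ hχ).2]; ring
    · have := hA1z χ hχ
      simp only [hA1] at this
      simp only [b2, if_neg hχ]
      linear_combination -this
  let Rs : IrrCharacter G → ℤ := fun χ => if χ ∈ mem7 B then 0 else -Ry χ
  let R2 : IrrCharacter G → ℤ := fun χ => if χ ∈ mem7 B then 0 else -Ry χ - Rz χ
  let Ns : IrrCharacter G → ℤ := fun χ => if χ ∈ mem7 B then 0 else ny χ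
  have hb2i : ∀ χ, IsIntegral ℤ (b2 χ) := fun χ => by
    by_cases hχ : χ ∈ mem7 B
    · simp only [b2, if_pos hχ]; exact isIntegral_zero
    · simp only [b2, if_neg hχ]; exact ((irr_isIntegral χ _).add (irr_isIntegral χ _)).neg
  have hbsi : ∀ χ, IsIntegral ℤ (bs χ) := fun χ => by
    by_cases hχ : χ ∈ mem7 B
    · simp only [bs, if_pos hχ]; exact isIntegral_zero
    · simp only [bs, if_neg hχ]; exact (irr_isIntegral χ _).neg
  have hRs : ∀ χ, bs χ + conj (bs χ) = (Rs χ : ℂ) := fun χ => by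
    by_cases hχ : χ ∈ mem7 B
    · simp [bs, Rs, hχ]
    · simp only [bs, Rs, if_neg hχ, map_neg]
      push_cast
      linear_combination -hRy χ
  have hR2 : ∀ χ, b2 χ + conj (b2 χ) = (R2 χ : ℂ) := fun χ => by
    by_cases hχ : χ ∈ mem7 B
    · simp [b2, R2, hχ]
    · simp only [b2, R2, if_neg hχ, map_neg, map_add]
      push_cast
      linear_combination -hRy χ - hRz χ
  have hNs : ∀ χ, bs χ * conj (bs χ) = (Ns χ : ℂ) := fun χ => by
    by_cases hχ : χ ∈ mem7 B
    · simp [bs, Ns, hχ]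
    · simp only [bs, Ns, if_neg hχ, map_neg, neg_mul_neg]
      exact hny χ
  have hN2 : ∀ χ, ∃ n : ℤ, b2 χ * conj (b2 χ) = (n : ℂ) := by
    intro χ
    by_cases hχ : χ ∈ mem7 B
    · exact ⟨0, by simp [b2, hχ]⟩
    · obtain ⟨m, hm, -⟩ := exists_int ((hb2i χ).mul (isIntegral_conj (hb2i χ))) (a := nx χ + 2 * nz χ - 3 * ny χ)
        (n := 6) (by norm_num) (by
          have h0 := hA1z χ hχ
          simp only [hA1] at h0
          have h0c := congrArg conj h0
          simp only [map_add, map_mul, map_ofNat, map_zero] at h0c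
          simp only [b2, if_neg hχ, map_neg, map_add]
          have a1 : x χ * conj (x χ) = (nx χ : ℂ) := hnx χ
          have a2 : y χ * conj (y χ) = (ny χ : ℂ) := hny χ
          have a3 : z χ * conj (z χ) = (nz χ : ℂ) := hnz χ
          push_cast
          field_simp
          linear_combination a1 + 2 * a3 - 3 * a2 - conj (x χ) * h0 + (3 * y χ + 2 * z χ) * h0c)
      exact ⟨m, hm⟩
  choose N2 hN2 using hN2
  have sumNs : ∑ χ, Ns χ = 7 := by
    apply Int.cast_injective (α := ℂ)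
    push_cast
    refine mul_left_cancel₀ (show (36 : ℂ) ≠ 0 by norm_num) ?_
    rw [Finset.mul_sum, Finset.sum_congr rfl (g := fun χ => x χ * conj (x χ) + 9 * (y χ * conj (y χ)) +
      4 * (z χ * conj (z χ)) - 3 * (x χ * conj (y χ)) - 3 * (y χ * conj (x χ)) + 2 * (x χ * conj (z χ)) +
      2 * (z χ * conj (x χ)) - 6 * (y χ * conj (z χ)) - 6 * (z χ * conj (y χ))) fun χ _ => by
        have h := hbs χ
        have hc := congrArg conj h
        simp only [map_add, map_sub, map_mul, map_ofNat] at hc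
        rw [← hNs χ]
        linear_combination (6 * conj (bs χ)) * h + (x χ - 3 * y χ + 2 * z χ) * hc]
    simp only [Finset.sum_add_distrib, Finset.sum_sub_distrib, ← Finset.mul_sum]
    rw [exx, eyy, ezz, exy, eyx, exz, ezx, eyz, ezy]
    norm_num
  have sumN2 : ∑ χ, N2 χ = 7 := by
    apply Int.cast_injective (α := ℂ)
    push_cast
    refine mul_left_cancel₀ (show (9 : ℂ) ≠ 0 by norm_num) ?_
    rw [Finset.mul_sum, Finset.sum_congr rfl (g := fun χ => x χ * conj (x χ) + z χ * conj (z χ) -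
      x χ * conj (z χ) - z χ * conj (x χ)) fun χ _ => by
        have h := hb2 χ
        have hc := congrArg conj h
        simp only [map_sub, map_mul, map_ofNat] at hc
        rw [← hN2 χ]
        linear_combination (3 * conj (b2 χ)) * h + (x χ - z χ) * hc]
    simp only [Finset.sum_add_distrib, Finset.sum_sub_distrib]
    rw [exx, ezz, exz, ezx]
    norm_num
  have hN2m : ∀ χ ∈ mem7 B, N2 χ = 0 := fun χ hχ => by
    have := hN2 χ
    simp only [b2, if_pos hχ, zero_mul] at this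
    exact_mod_cast this.symm
  have nnn : ∀ (v : ℂ) (n : ℤ), v * conj v = (n : ℂ) → 0 ≤ n ∧ (n = 0 → v = 0) := by
    intro v n h
    rw [Complex.mul_conj] at h
    have h' : Complex.normSq v = (n : ℝ) := by exact_mod_cast h
    refine ⟨?_, fun e => Complex.normSq_eq_zero.1 (by rw [h', e]; norm_num)⟩
    have := Complex.normSq_nonneg v
    rw [h'] at this
    exact_mod_cast this
  refine ⟨fun χ => (Rs χ, Ns χ, R2 χ, N2 χ), fun χ hχ => ?_, fun χ hχ => ?_, fun ψ hψ => ?_, sumNs, sumN2,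
    fun g hg => ?_⟩
  · simp [Rs, Ns, R2, hχ, hN2m χ hχ]
  · have hxbs : x χ = bs χ + 2 * b2 χ := by
      have h0 := hA1z χ hχ
      simp only [hA1] at h0
      simp only [bs, b2, if_neg hχ]
      linear_combination h0
    have hzbs : z χ = bs χ - b2 χ := by simp only [bs, b2, if_neg hχ]; ring
    have hybs : y χ = -bs χ := by simp only [bs, if_neg hχ]; ring
    have hRxe : Rx χ = Rs χ + 2 * R2 χ := Int.cast_injective (α := ℂ) (by
      push_cast
      rw [← hRs, ← hR2, ← hRx χ]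
      show x χ + conj (x χ) = _
      rw [hxbs]; simp only [map_add, map_mul, map_ofNat]; ring)
    have hRze : Rz χ = Rs χ - R2 χ := Int.cast_injective (α := ℂ) (by
      push_cast
      rw [← hRs, ← hR2, ← hRz χ]
      show z χ + conj (z χ) = _
      rw [hzbs]; simp only [map_sub]; ring)
    have hRye : Ry χ = -Rs χ := by simp [Rs, hχ]
    by_cases h7 : 7 ∣ dg χ
    · -- defect zero
      obtain ⟨M, hM⟩ := exists_isPModular 7 Fact.out
      have hfac : (dg χ).factorization 7 = (Nat.card G).factorization 7 := by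
        have hd : dg χ ∣ 244823040 := hG ▸ charDeg_dvd χ
        have hpos : dg χ ≠ 0 := (charDeg_pos χ).ne'
        have h1 := (Nat.factorization_le_iff_dvd hpos (by norm_num)).2 hd 7
        have h2 := (Fact.out : Nat.Prime 7).factorization_pos_of_dvd hpos h7
        have h3 : (244823040 : ℕ).factorization 7 = 1 := by
          rw [show (244823040 : ℕ) = 7 * 34974720 by norm_num, Nat.factorization_mul (by norm_num) (by norm_num),
            Finsupp.add_apply, (Fact.out : Nat.Prime 7).factorization_self,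
            Nat.factorization_eq_zero_of_not_dvd (by norm_num : ¬ 7 ∣ 34974720)]
        rw [hG]
        omega
      have v0 : ∀ g : G, 7 ∣ orderOf g → (χ : G → ℂ) g = 0 := fun g hg => defectZero_vanish hM χ hfac hg
      have ey : y χ = 0 := v0 _ (by rw [S.o_ut]; norm_num)
      have ez : z χ = 0 := v0 _ (by rw [S.o_uw]; norm_num)
      have ex : x χ = 0 := v0 _ (by rw [S.ou])
      have e1 : bs χ = 0 := by simp [bs, hχ, ey]
      have e2 : b2 χ = 0 := by simp [b2, hχ, ey, ez]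
      have q0 : (Rs χ, Ns χ, R2 χ, N2 χ) = (0, 0, 0, 0) := by
        have a1 := hRs χ; have a2 := hNs χ; have a3 := hR2 χ; have a4 := hN2 χ
        rw [e1] at a1 a2; rw [e2] at a3 a4
        simp only [map_zero, add_zero, mul_zero] at a1 a2 a3 a4
        refine Prod.ext ?_ (Prod.ext ?_ (Prod.ext ?_ ?_)) <;> dsimp only <;> apply Int.cast_injective (α := ℂ) <;>
          push_cast
        exacts [a1.symm, a2.symm, a3.symm, a4.symm]
      show Out7 S χ (Rs χ, Ns χ, R2 χ, N2 χ)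
      rw [q0]
      refine ⟨?_, ?_, ?_⟩
      · rw [Coord7, if_pos (Nat.mod_eq_zero_of_dvd h7)]
      · show x χ + conj (x χ) = _
        simp [ex, rr]
      · show x χ * conj (x χ) = _
        simp [ex, nn]
    · -- exactly one coordinate is not zero
      have hs7 := td_y χ
      have hN2R : (7 : ℤ) ∣ 4 * N2 χ - R2 χ * R2 χ ∧ R2 χ * R2 χ ≤ 4 * N2 χ := by
        obtain ⟨M, hM⟩ := exists_isPModular 7 Fact.out
        have d1 := cong_regular hM χ S.ou S.ot (by norm_num) S.comm_t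
        have d2 := cong_regular hM χ (u := S.u⁻¹) (v := S.t⁻¹) ((orderOf_inv _).trans S.ou)
          ((orderOf_inv _).trans S.ot) (by norm_num) S.comm_t.inv_inv
        rw [← mul_inv_rev, ← S.comm_t.eq, irr_apply_inv, irr_apply_inv, hvt, map_intCast] at d2
        rw [hvt] at d1
        have e1 := cong_regular hM χ S.ou S.ow (by norm_num) S.comm_w
        have e2 := cong_regular hM χ (u := S.u⁻¹) (v := S.w⁻¹) ((orderOf_inv _).trans S.ou)
          ((orderOf_inv _).trans S.ow) (by norm_num) S.comm_w.inv_inv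
        rw [← mul_inv_rev, ← S.comm_w.eq, irr_apply_inv, irr_apply_inv, hvw, map_intCast] at e2
        rw [hvw] at e1
        have hb := ideal_neg (ideal_add hM (ideal_sub hM d1 d2) (ideal_sub hM e1 e2))
        have he : -((χ : G → ℂ) (S.u * S.t) - (vt χ : ℂ) - (conj ((χ : G → ℂ) (S.u * S.t)) - (vt χ : ℂ)) +
            ((χ : G → ℂ) (S.u * S.w) - (vw χ : ℂ) - (conj ((χ : G → ℂ) (S.u * S.w)) - (vw χ : ℂ)))) =
            b2 χ - conj (b2 χ) := by
          simp only [b2, if_neg hχ, hy, hz, map_neg, map_add]; ring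
        rw [he] at hb
        refine ⟨?_, ?_⟩
        · have h := ideal_mul_left hM (ring_of_ideal hb) hb
          rw [show (b2 χ - conj (b2 χ)) * (b2 χ - conj (b2 χ)) = ((R2 χ * R2 χ - 4 * N2 χ : ℤ) : ℂ) by
            push_cast; rw [← hR2, ← hN2]; ring] at h
          have h' := dvd_neg.2 ((ideal_intCast_iff hM _).1 h)
          rwa [neg_sub] at h'
        · have e1 : (b2 χ).re + (b2 χ).re = (R2 χ : ℝ) := by simpa using congrArg Complex.re (hR2 χ)
          have e2 : (b2 χ).re * (b2 χ).re + (b2 χ).im * (b2 χ).im = (N2 χ : ℝ) := by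
            simpa [Complex.mul_re] using congrArg Complex.re (hN2 χ)
          have : ((R2 χ * R2 χ : ℤ) : ℝ) ≤ ((4 * N2 χ : ℤ) : ℝ) := by
            push_cast
            rw [← e1, ← e2]
            nlinarith [mul_self_nonneg (b2 χ).im]
          exact_mod_cast this
      have hNsy : Ns χ = ny χ := by simp [Ns, hχ]
      have hRsR : (7 : ℤ) ∣ 4 * Ns χ - Rs χ * Rs χ ∧ Rs χ * Rs χ ≤ 4 * Ns χ := by
        rw [hNsy, show Rs χ = -Ry χ by omega, neg_mul_neg]
        exact ⟨hs7.2.1, hs7.2.2⟩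
      have hcase : ¬ (7 : ℤ) ∣ Ns χ ∨ ¬ (7 : ℤ) ∣ N2 χ := by
        by_contra hboth
        push Not at hboth
        have hp : Prime (7 : ℤ) := Int.prime_iff_natAbs_prime.2 (by norm_num)
        have a1 : (7 : ℤ) ∣ Rs χ := (or_self_iff).1 (hp.dvd_mul.1 (by have := hboth.1; have := hRsR.1; omega))
        have a2 : (7 : ℤ) ∣ R2 χ := (or_self_iff).1 (hp.dvd_mul.1 (by have := hboth.2; have := hN2R.1; omega))
        have := (td_x χ).1
        rw [hRxe] at this
        omega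
      -- the product of the coordinates is divisible by seven
      have hprod : Cong 7 (bs χ * b2 χ) 0 := by
        have c1 := homx χ
        have c3 := homz χ
        rw [hxbs, hybs] at c1
        rw [hzbs, hybs] at c3
        have i1 : IsIntegral ℤ (bs χ * b2 χ) := (hbsi χ).mul (hb2i χ)
        show IsIntegral ℤ _
        have e : (bs χ * b2 χ - 0) / ((7 : ℕ) : ℂ) =
            ((4 : ℤ) : ℂ) * (b2 χ * (((ω χ : ℂ) * (bs χ + 2 * b2 χ) - 3 * -bs χ) / ((7 : ℕ) : ℂ) +
              2 * (((ω χ : ℂ) * (bs χ - b2 χ) - 3 * -bs χ) / ((7 : ℕ) : ℂ))) -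
              bs χ * (((ω χ : ℂ) * (bs χ + 2 * b2 χ) - 3 * -bs χ) / ((7 : ℕ) : ℂ) -
                ((ω χ : ℂ) * (bs χ - b2 χ) - 3 * -bs χ) / ((7 : ℕ) : ℂ))) - ((5 : ℤ) : ℂ) * (bs χ * b2 χ) := by
          push_cast
          field_simp
          ring
        rw [e]
        exact ((isIntegral_int 4).mul (((hb2i χ).mul (IsIntegral.add c1 (IsIntegral.mul (by
          simpa using isIntegral_int 2) c3))).sub ((hbsi χ).mul (IsIntegral.sub c1 c3)))).sub
          ((isIntegral_int 5).mul i1)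
      have hzero : ∀ (a b : ℂ) (na nb : ℤ), IsIntegral ℤ a → IsIntegral ℤ b → Cong 7 (a * b) 0 →
          a * conj a = (na : ℂ) → b * conj b = (nb : ℂ) → ¬ (7 : ℤ) ∣ na → nb ≤ 7 → nb = 0 := by
        intro a b na nb hai hbi hab hna hnb hnd hle
        obtain ⟨r, s, hrs⟩ : ∃ r s : ℤ, r * na + s * 7 = 1 := by
          have hp : Prime (7 : ℤ) := Int.prime_iff_natAbs_prime.2 (by norm_num)
          exact (hp.coprime_iff_not_dvd.2 hnd).symm
        have h1 : IsIntegral ℤ (b / ((7 : ℕ) : ℂ)) := by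
          have hu : IsIntegral ℤ ((a * b - 0) / ((7 : ℕ) : ℂ)) := hab
          rw [show b / ((7 : ℕ) : ℂ) = (r : ℂ) * (conj a * ((a * b - 0) / ((7 : ℕ) : ℂ))) + (s : ℂ) * b by
            have hrs' := congrArg (fun z : ℤ => (z : ℂ)) hrs
            push_cast at hrs' ⊢
            field_simp
            linear_combination -b * hrs' - (r : ℂ) * b * hna]
          exact ((isIntegral_int r).mul ((isIntegral_conj hai).mul hu)).add ((isIntegral_int s).mul hbi)
        obtain ⟨m, -, hm⟩ := exists_int (h1.mul (isIntegral_conj h1)) (a := nb) (n := 49) (by norm_num) (by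
          rw [map_div₀, map_natCast]
          push_cast
          field_simp
          linear_combination 49 * hnb)
        have := (nnn b nb hnb).1
        omega
      have bNs : Ns χ ≤ 7 := sumNs ▸ Finset.single_le_sum (f := Ns) (fun ψ _ => (nnn _ _ (hNs ψ)).1) (Finset.mem_univ χ)
      have bN2 : N2 χ ≤ 7 := sumN2 ▸ Finset.single_le_sum (f := N2) (fun ψ _ => (nnn _ _ (hN2 ψ)).1) (Finset.mem_univ χ)
      have ix : ∀ g : G, ∀ n : ℕ, cn g = n → ∀ m : ℕ, m * n = 244823040 →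
          ((Subgroup.centralizer ({g} : Set G)).index : ℤ) = (m : ℤ) := by
        intro g n hn m hm
        have h := Subgroup.index_mul_card (Subgroup.centralizer ({g} : Set G))
        rw [hG, show Nat.card (Subgroup.centralizer ({g} : Set G)) = n from hn, ← hm] at h
        have hn0 : 0 < n := hn ▸ cn_pos g
        exact_mod_cast Nat.eq_of_mul_eq_mul_right hn0 h
      have i1 := index_dvd_trace χ (hRx χ)
      have i2 := index_dvd_trace χ (hRy χ)
      have i3 := index_dvd_trace χ (hRz χ)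
      rw [ix _ 42 S.cu 5829120 (by norm_num), hRxe] at i1
      rw [ix _ 14 S.ct 17487360 (by norm_num), hRye, mul_neg, dvd_neg] at i2
      rw [ix _ 21 S.cw 11658240 (by norm_num), hRze] at i3
      have c7 := (td_x χ).1
      rw [hRxe] at c7
      push_cast at i1 i2 i3
      rcases hcase with hs | h2
      · have hz0 : N2 χ = 0 := hzero _ _ _ _ (hbsi χ) (hb2i χ) hprod (hNs χ) (hN2 χ) hs bN2
        have hb0 : b2 χ = 0 := (nnn _ _ (hN2 χ)).2 hz0
        have hR0 : R2 χ = 0 := by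
          have := hR2 χ
          rw [hb0, map_zero, add_zero] at this
          exact_mod_cast this.symm
        have h1 : 1 ≤ Ns χ := by
          have := (nnn _ _ (hNs χ)).1
          omega
        refine ⟨?_, ?_, ?_⟩
        · rw [Coord7, if_neg (by omega)]
          refine ⟨Rs χ, Ns χ, false, by simp [q7, hR0, hz0], ?_, bNs⟩
          simp only [ok7, Bool.false_eq_true, if_false, Bool.and_eq_true, decide_eq_true_eq]
          rw [hR0] at i1 i3 c7
          simp only [mul_zero, add_zero, sub_zero] at i1 i3 c7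
          exact ⟨⟨⟨⟨⟨⟨h1, hRsR.2⟩, Int.emod_eq_zero_of_dvd hRsR.1⟩, Int.emod_eq_zero_of_dvd c7⟩,
            Int.emod_eq_zero_of_dvd i1⟩, Int.emod_eq_zero_of_dvd i2⟩, Int.emod_eq_zero_of_dvd i3⟩
        · show x χ + conj (x χ) = _
          rw [hRx χ, hRxe]; rfl
        · show x χ * conj (x χ) = _
          rw [hxbs, hb0, show nn (Rs χ, Ns χ, R2 χ, N2 χ) = Ns χ + 4 * N2 χ from rfl, hz0]
          simp [hNs χ]
      · have hz0 : Ns χ = 0 := hzero _ _ _ _ (hb2i χ) (hbsi χ) (by rw [mul_comm]; exact hprod) (hN2 χ) (hNs χ) h2 bNs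
        have hb0 : bs χ = 0 := (nnn _ _ (hNs χ)).2 hz0
        have hR0 : Rs χ = 0 := by
          have := hRs χ
          rw [hb0, map_zero, add_zero] at this
          exact_mod_cast this.symm
        have h1 : 1 ≤ N2 χ := by
          have := (nnn _ _ (hN2 χ)).1
          omega
        refine ⟨?_, ?_, ?_⟩
        · rw [Coord7, if_neg (by omega)]
          refine ⟨R2 χ, N2 χ, true, by simp [q7, hR0, hz0], ?_, bN2⟩
          simp only [ok7, if_true, Bool.and_eq_true, decide_eq_true_eq]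
          rw [hR0] at i1 i3 c7
          simp only [zero_add, zero_sub] at i1 i3 c7
          exact ⟨⟨⟨⟨⟨⟨h1, hN2R.2⟩, Int.emod_eq_zero_of_dvd hN2R.1⟩, Int.emod_eq_zero_of_dvd c7⟩,
            Int.emod_eq_zero_of_dvd i1⟩, by simp⟩, Int.emod_eq_zero_of_dvd i3⟩
        · show x χ + conj (x χ) = _
          rw [hRx χ, hRxe]; rfl
        · show x χ * conj (x χ) = _
          rw [hxbs, hb0, show nn (Rs χ, Ns χ, R2 χ, N2 χ) = Ns χ + 4 * N2 χ from rfl, hz0]
          push_cast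
          rw [zero_add, zero_add, map_mul, map_ofNat, ← hN2 χ]
          ring
  · obtain ⟨-, -, e3, e4⟩ := hYv ψ hψ
    refine ⟨by rw [← e4]; exact hRx ψ, ?_⟩
    have := hnx ψ
    rw [e3] at this
    exact_mod_cast this
  · simp only [List.mem_cons, List.not_mem_nil, or_false, not_or] at hg
    have n1 : orderOf g ≠ orderOf S.u := by rw [S.ou]; exact hg.1
    have n2 : orderOf g ≠ orderOf (S.u * S.t) := by rw [S.o_ut]; exact hg.2.1
    have n3 : orderOf g ≠ orderOf (S.u * S.w) := by rw [S.o_uw]; exact hg.2.2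
    have f1 : ∑ χ : IrrCharacter G, (χ : G → ℂ) g * x χ = 0 := orth0_inv n1
    have f2 : ∑ χ : IrrCharacter G, (χ : G → ℂ) g * y χ = 0 := orth0_inv n2
    have f3 : ∑ χ : IrrCharacter G, (χ : G → ℂ) g * z χ = 0 := orth0_inv n3
    have f1c : ∑ χ : IrrCharacter G, (χ : G → ℂ) g * conj (x χ) = 0 := orth0 n1
    have f2c : ∑ χ : IrrCharacter G, (χ : G → ℂ) g * conj (y χ) = 0 := orth0 n2
    have f3c : ∑ χ : IrrCharacter G, (χ : G → ℂ) g * conj (z χ) = 0 := orth0 n3
    constructor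
    · refine (mul_eq_zero.1 ?_).resolve_left (show (6 : ℂ) ≠ 0 by norm_num)
      rw [Finset.mul_sum, Finset.sum_congr rfl (g := fun χ : IrrCharacter G =>
        (χ : G → ℂ) g * x χ - 3 * ((χ : G → ℂ) g * y χ) + 2 * ((χ : G → ℂ) g * z χ) +
        (χ : G → ℂ) g * conj (x χ) - 3 * ((χ : G → ℂ) g * conj (y χ)) + 2 * ((χ : G → ℂ) g * conj (z χ))) fun χ _ => by
          have hc := congrArg conj (hbs χ)
          simp only [map_sub, map_add, map_mul, map_ofNat] at hc
          dsimp only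
          rw [← hRs χ]
          linear_combination (χ : G → ℂ) g * hbs χ + (χ : G → ℂ) g * hc]
      simp only [Finset.sum_add_distrib, Finset.sum_sub_distrib, ← Finset.mul_sum]
      rw [f1, f2, f3, f1c, f2c, f3c]
      ring
    · refine (mul_eq_zero.1 ?_).resolve_left (show (3 : ℂ) ≠ 0 by norm_num)
      rw [Finset.mul_sum, Finset.sum_congr rfl (g := fun χ : IrrCharacter G =>
        (χ : G → ℂ) g * x χ - (χ : G → ℂ) g * z χ + (χ : G → ℂ) g * conj (x χ) - (χ : G → ℂ) g * conj (z χ))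
        fun χ _ => by
          have hc := congrArg conj (hb2 χ)
          simp only [map_sub, map_mul, map_ofNat] at hc
          dsimp only
          rw [← hR2 χ]
          linear_combination (χ : G → ℂ) g * hb2 χ + (χ : G → ℂ) g * hc]
      simp only [Finset.sum_add_distrib, Finset.sum_sub_distrib]
      rw [f1, f3, f1c, f3c]
      ring

end Cfsg.Agent.Fus.M24Nse
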