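import Mathlib
import Cfsg.Agent.Lib.Fus.M24Nse.Cent
import Cfsg.Agent.Lib.Fus.M24Nse.SecSeven
import Cfsg.Agent.Lib.Invol.Order443520.Count

/-!
Order 244823040 with the element counts of `M₂₄`: the sections at five and at seven exist.
-/

set_option autoImplicit false
set_option linter.style.haveILetI false
set_option linter.unusedSectionVars false

namespace Cfsg.Agent.Fus.M24Nse

open Cfsg Cfsg.Agent.Block Cfsg.Agent.Char Cfsg.Agent.Invol.M12Ord
open Cfsg.Agent.Invol.M22Ord (PBlk exists_pblk exists_gen)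

universe u

variable {G : Type u} [Group G] [Finite G]

theorem isConj_inv {a b : G} (h : IsConj a b) : IsConj a⁻¹ b⁻¹ := by
  obtain ⟨g, hg⟩ := _root_.isConj_iff.1 h
  exact _root_.isConj_iff.2 ⟨g, by rw [← hg]; group⟩

theorem isConj_coe {a : G} {v v' : Subgroup.centralizer ({a} : Set G)} (h : IsConj v v') :
    IsConj (v : G) (v' : G) := by
  obtain ⟨c, hc⟩ := _root_.isConj_iff.1 h
  exact _root_.isConj_iff.2 ⟨c, congrArg Subtype.val hc⟩

/-- A pair conjugate to `(u, ·)` lands on the class of `u * v`. -/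
theorem sec_conj {u a b : G} {n : ℕ} (ha : IsConj a u) (hab : Commute a b) (hb : orderOf b = n)
    {v : Subgroup.centralizer ({u} : Set G)}
    (hall : ∀ x : Subgroup.centralizer ({u} : Set G), orderOf x = n → IsConj x v) :
    IsConj (a * b) (u * (v : G)) := by
  obtain ⟨g, hg⟩ := _root_.isConj_iff.1 ha
  have hmem : g * b * g⁻¹ ∈ Subgroup.centralizer ({u} : Set G) := by
    refine Subgroup.mem_centralizer_singleton_iff.2 ?_
    rw [← hg]
    calc g * b * g⁻¹ * (g * a * g⁻¹) = g * (b * a) * g⁻¹ := by group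
      _ = g * a * g⁻¹ * (g * b * g⁻¹) := by rw [← hab.eq]; group
  have ho : orderOf (⟨g * b * g⁻¹, hmem⟩ : Subgroup.centralizer ({u} : Set G)) = n := by
    rw [← Subgroup.orderOf_coe]
    show orderOf (g * b * g⁻¹) = n
    rw [← MulAut.conj_apply, MulEquiv.orderOf_eq, hb]
  refine IsConj.trans ?_ (conj_of (hall _ ho))
  exact _root_.isConj_iff.2 ⟨g, by
    show g * (a * b) * g⁻¹ = u * (g * b * g⁻¹)
    rw [← hg]; group⟩

/-- The elements of one order in a centralizer. -/
noncomputable def inCent (u : G) (n : ℕ) : Finset G :=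
  (Set.toFinite {g : G | u * g = g * u ∧ orderOf g = n}).toFinset

theorem mem_inCent {u : G} {n : ℕ} {g : G} : g ∈ inCent u n ↔ u * g = g * u ∧ orderOf g = n := by
  simp [inCent]

theorem card_inCent (u : G) (n : ℕ) :
    (inCent u n).card = Nat.card {g : G // u * g = g * u ∧ orderOf g = n} := by
  rw [inCent, ← Set.ncard_eq_toFinset_card _ (Set.toFinite _), ← Nat.card_coe_set_eq]
  rfl

theorem inCent_iff {u : G} {v : Subgroup.centralizer ({u} : Set G)} {n : ℕ} (hv : orderOf (v : G) = n)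
    (hall : ∀ x : Subgroup.centralizer ({u} : Set G), orderOf x = n → IsConj x v) (k : G) :
    k ∈ inCent u n ↔ IsConj (v : G) k ∧ u * k = k * u := by
  rw [mem_inCent]
  refine ⟨fun ⟨h1, h2⟩ => ⟨?_, h1⟩, fun ⟨h1, h2⟩ => ⟨h2, ?_⟩⟩
  · exact (isConj_coe (hall ⟨k, Subgroup.mem_centralizer_singleton_iff.2 h1.symm⟩
      (by rw [← Subgroup.orderOf_coe]; exact h2))).symm
  · obtain ⟨g, hg⟩ := _root_.isConj_iff.1 h1
    rw [← hg, ← MulAut.conj_apply, MulEquiv.orderOf_eq, hv]

theorem pow_order {b : G} {n k : ℕ} (hb : orderOf b = n) (hk : k.Coprime n) : orderOf (b ^ k) = n := by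
  rw [Nat.Coprime.orderOf_pow (by rw [hb]; exact hk.symm), hb]

variable [IsSimpleGroup G]

/-- The section at five. -/
theorem exists_sec5 (L : Local G) [Fact (Nat.Prime 5)] :
    ∃ B : PBlk G 5 4, Nat.card B.C = 60 ∧ Nonempty (D5 B) := by
  classical
  obtain ⟨B, hB, -⟩ := blk5 L.toCounts L.c5
  refine ⟨B, hB, ?_⟩
  obtain ⟨u, hu, hu1, hou, -, hC⟩ := exists_gen B.P B.hP
  have hself : u ∈ Subgroup.centralizer ({u} : Set G) := Subgroup.mem_centralizer_singleton_iff.2 rfl
  have hcard : Nat.card (Subgroup.centralizer ({u} : Set G)) = 60 := L.c5 u hou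
  obtain ⟨i2, i3⟩ := L.inv5 u hou
  obtain ⟨hw, ht, hmul⟩ := sixty (u := (⟨u, hself⟩ : Subgroup.centralizer ({u} : Set G)))
    (by rw [← Subgroup.orderOf_coe]; exact hou)
    (fun g => Subtype.ext (Subgroup.mem_centralizer_singleton_iff.1 g.2).symm) hcard
    (by rw [ocnt_cent, i2]) (by rw [ocnt_cent, i3])
  haveI : Fact (Nat.Prime 2) := ⟨Nat.prime_two⟩
  haveI : Fact (Nat.Prime 3) := ⟨Nat.prime_three⟩
  obtain ⟨t, hot⟩ := exists_prime_orderOf_dvd_card' (G := Subgroup.centralizer ({u} : Set G)) 2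
    (by rw [hcard]; norm_num)
  obtain ⟨w, how⟩ := exists_prime_orderOf_dvd_card' (G := Subgroup.centralizer ({u} : Set G)) 3
    (by rw [hcard]; norm_num)
  obtain ⟨hct, hallt⟩ := ht t hot
  obtain ⟨hcw, hnw⟩ := hw w how
  have hot' : orderOf (t : G) = 2 := by rw [Subgroup.orderOf_coe]; exact hot
  have how' : orderOf (w : G) = 3 := by rw [Subgroup.orderOf_coe]; exact how
  have hmem : ∀ v : Subgroup.centralizer ({u} : Set G), Commute u (v : G) := fun v =>
    (Subgroup.mem_centralizer_singleton_iff.1 v.2).symm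
  have hpow := card_powers B hu hou hC
  have hall : ∀ k : ℕ, k.Coprime 5 → IsConj (u ^ k) u := by
    intro k hk
    have hk5 : k % 5 ≠ 0 := fun h => by
      have := Nat.dvd_gcd (Nat.dvd_of_mod_eq_zero h) (dvd_refl 5)
      rw [hk] at this
      norm_num at this
    rw [← pow_mod_orderOf, hou]
    by_contra hno
    have hsub : {j : ℕ | j < 5 ∧ IsConj u (u ^ j)} ⊆ ↑(((Finset.range 5).erase 0).erase (k % 5)) := by
      intro j hj
      simp only [Finset.coe_erase, Set.mem_sdiff, Set.mem_singleton_iff, Finset.coe_range, Set.mem_Iio]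
      refine ⟨⟨hj.1, fun h => hu1 ?_⟩, fun h => hno ?_⟩
      · obtain ⟨g, hg⟩ := _root_.isConj_iff.1 hj.2
        rw [h, pow_zero] at hg
        exact conj_eq_one_iff.1 hg
      · rw [← h]; exact hj.2.symm
    have hle := Set.ncard_le_ncard hsub (Finset.finite_toSet _)
    rw [hpow, Set.ncard_coe_finset, Finset.card_erase_of_mem (by
      simp only [Finset.mem_erase, Finset.mem_range]; omega), Finset.card_erase_of_mem (by simp)] at hle
    simp at hle
  exact ⟨{
    u := u, t := t, w := w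
    u_mem := hu, ou := hou, ot := hot', ow := how'
    t_mem := hC.le t.2
    w_mem := hC.le w.2
    cu := L.c5 u hou
    ct := (cn_mul hou hot' (by norm_num) (hmem t) t.2).trans hct
    cw := (cn_mul hou how' (by norm_num) (hmem w) w.2).trans hcw
    cw' := (cn_mul hou ((orderOf_inv _).trans how') (by norm_num) (hmem w).inv_right (w⁻¹).2).trans
      (hw w⁻¹ ((orderOf_inv _).trans how)).1
    not_conj := fun h => by
      obtain ⟨g, hg⟩ := _root_.isConj_iff.1 h
      have e6 : ∀ v : G, Commute u v → orderOf v = 3 → (u * v) ^ 6 = u ∧ (u * v) ^ 10 = v := fun v hv hov => by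
        constructor <;> rw [hv.mul_pow, ← pow_mod_orderOf u, hou, ← pow_mod_orderOf v, hov] <;> simp
      obtain ⟨a1, a2⟩ := e6 _ (hmem w) how'
      obtain ⟨b1, b2⟩ := e6 _ (hmem w).inv_right ((orderOf_inv _).trans how')
      have c1 : g * u * g⁻¹ = u := by
        conv_lhs => rw [← a1]
        rw [← conj_pow, hg, b1]
      have c2 : g * (w : G) * g⁻¹ = (w : G)⁻¹ := by
        conv_lhs => rw [← a2]
        rw [← conj_pow, hg, b2]
      refine hnw (_root_.isConj_iff.2 ⟨⟨g, Subgroup.mem_centralizer_singleton_iff.2 ?_⟩, Subtype.ext c2⟩)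
      exact mul_inv_eq_iff_eq_mul.1 c1
    K := inCent u 2
    card_K := (card_inCent u 2).trans i2
    t_K := mem_inCent.2 ⟨hmem t, hot'⟩
    mem_K := inCent_iff hot' hallt
    K_u := fun k hk => sec_conj (IsConj.refl u) (mem_inCent.1 hk).1 (mem_inCent.1 hk).2 hallt
    K_t := fun k hk hne => by
      rw [mul_assoc]
      obtain ⟨hkc, hko⟩ := mem_inCent.1 hk
      refine sec_conj (IsConj.refl u) ((hmem t).mul_right hkc) ?_ hallt
      have h := hmul ⟨k, Subgroup.mem_centralizer_singleton_iff.2 hkc.symm⟩ t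
        (by rw [← Subgroup.orderOf_coe]; exact hko) hot fun e => hne (congrArg Subtype.val e).symm
      rw [← Subgroup.orderOf_coe] at h
      exact h
    rat_u := hall
    rat_t := fun k hk => by
      have h5 : k.Coprime 5 := hk.coprime_dvd_right (by norm_num)
      have h2 : k.Coprime 2 := hk.coprime_dvd_right (by norm_num)
      rw [(hmem t).mul_pow]
      exact sec_conj (hall k h5) ((hmem t).pow_pow k k) (pow_order hot' h2) hallt }⟩

/-- The section at seven. -/
theorem exists_sec7 (L : Local G) [Fact (Nat.Prime 7)] :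
    ∃ B : PBlk G 7 3, Nat.card B.C = 42 ∧ Nonempty (D7 B) := by
  classical
  obtain ⟨B, hB⟩ := blk7 L.toCounts
  refine ⟨B, hB, ?_⟩
  obtain ⟨u, hu, hu1, hou, -, hC⟩ := exists_gen B.P B.hP
  have hself : u ∈ Subgroup.centralizer ({u} : Set G) := Subgroup.mem_centralizer_singleton_iff.2 rfl
  have hcard : Nat.card (Subgroup.centralizer ({u} : Set G)) = 42 := L.c7 u hou
  obtain ⟨i2, i3⟩ := L.inv7 u hou
  obtain ⟨hw, ht, hmul, htw⟩ := fortyTwo (u := (⟨u, hself⟩ : Subgroup.centralizer ({u} : Set G)))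
    (by rw [← Subgroup.orderOf_coe]; exact hou)
    (fun g => Subtype.ext (Subgroup.mem_centralizer_singleton_iff.1 g.2).symm) hcard
    (by rw [ocnt_cent, i2]) (by rw [ocnt_cent, i3])
  haveI : Fact (Nat.Prime 2) := ⟨Nat.prime_two⟩
  haveI : Fact (Nat.Prime 3) := ⟨Nat.prime_three⟩
  obtain ⟨t, hot⟩ := exists_prime_orderOf_dvd_card' (G := Subgroup.centralizer ({u} : Set G)) 2
    (by rw [hcard]; norm_num)
  obtain ⟨w, how⟩ := exists_prime_orderOf_dvd_card' (G := Subgroup.centralizer ({u} : Set G)) 3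
    (by rw [hcard]; norm_num)
  obtain ⟨hct, hallt⟩ := ht t hot
  obtain ⟨hcw, hallw⟩ := hw w how
  have hot' : orderOf (t : G) = 2 := by rw [Subgroup.orderOf_coe]; exact hot
  have how' : orderOf (w : G) = 3 := by rw [Subgroup.orderOf_coe]; exact how
  have hmem : ∀ v : Subgroup.centralizer ({u} : Set G), Commute u (v : G) := fun v =>
    (Subgroup.mem_centralizer_singleton_iff.1 v.2).symm
  have hnr : ¬ IsConj u u⁻¹ := fun h => by
    obtain ⟨g, hg⟩ := _root_.isConj_iff.1 h
    exact absurd (B.even_of_inverts hu hu1 (by norm_num) hg) (by norm_num)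
  have hpow := card_powers B hu hou hC
  have hS : ∀ k : ℕ, k.Coprime 7 → IsConj (u ^ k) u ∨ IsConj (u ^ k) u⁻¹ := by
    set S := {j : ℕ | j < 7 ∧ IsConj u (u ^ j)} with hSdef
    have hpm : ∀ j : ℕ, u ^ j = u ^ (j % 7) := fun j => by rw [← hou, pow_mod_orderOf]
    have hcl : ∀ i j : ℕ, i ∈ S → j ∈ S → i * j % 7 ∈ S := fun i j hi hj => by
      refine ⟨Nat.mod_lt _ (by norm_num), ?_⟩
      rw [← hpm, pow_mul]
      obtain ⟨g, hg⟩ := _root_.isConj_iff.1 hi.2
      refine hj.2.trans ?_
      exact _root_.isConj_iff.2 ⟨g, by rw [← conj_pow, hg]⟩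
    have h0 : 0 ∉ S := fun h => by
      obtain ⟨g, hg⟩ := _root_.isConj_iff.1 h.2
      rw [pow_zero] at hg
      exact hu1 (conj_eq_one_iff.1 hg)
    have h6 : 6 ∉ S := fun h => hnr (by
      have e : u ^ 6 = u⁻¹ := eq_inv_of_mul_eq_one_left (by
        rw [← pow_succ]
        exact orderOf_dvd_iff_pow_eq_one.1 (by rw [hou]))
      exact e ▸ h.2)
    have h3 : 3 ∉ S := fun h => h6 (hcl _ _ (hcl _ _ h h) h)
    have h5 : 5 ∉ S := fun h => h6 (hcl _ _ (hcl _ _ h h) h)
    have hsub : S ⊆ {1, 2, 4} := fun j hj => by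
      have hlt := hj.1
      interval_cases j
      · exact absurd hj h0
      · simp
      · simp
      · exact absurd hj h3
      · simp
      · exact absurd hj h5
      · exact absurd hj h6
    have heq := Set.eq_of_subset_of_ncard_le hsub (by rw [hpow]; norm_num) (Set.toFinite _)
    have hin : ∀ j : ℕ, j % 7 = 1 ∨ j % 7 = 2 ∨ j % 7 = 4 → IsConj (u ^ j) u := fun j hj => by
      have : j % 7 ∈ S := by rw [heq]; simpa using hj
      rw [hpm]
      exact this.2.symm
    intro k hk
    have hk7 : k % 7 ≠ 0 := fun h => by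
      have := Nat.dvd_gcd (Nat.dvd_of_mod_eq_zero h) (dvd_refl 7)
      rw [hk] at this
      norm_num at this
    by_cases hj : k % 7 = 1 ∨ k % 7 = 2 ∨ k % 7 = 4
    · exact Or.inl (hin k hj)
    · refine Or.inr ?_
      have e : u ^ k = (u ^ (6 * k))⁻¹ := eq_inv_of_mul_eq_one_left (by
        rw [← pow_add, show k + 6 * k = 7 * k by ring, pow_mul, ← hou, pow_orderOf_eq_one, one_pow])
      rw [e]
      exact isConj_inv (hin (6 * k) (by
        rcases (show k % 7 = 3 ∨ k % 7 = 5 ∨ k % 7 = 6 by omega) with h | h | h <;> rw [Nat.mul_mod, h] <;> norm_num))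
  have hrat : ∀ (v : Subgroup.centralizer ({u} : Set G)) (n : ℕ), orderOf (v : G) = n →
      (∀ x : Subgroup.centralizer ({u} : Set G), orderOf x = n → IsConj x v) →
      ∀ k : ℕ, k.Coprime (7 * n) →
        IsConj ((u * (v : G)) ^ k) (u * (v : G)) ∨ IsConj ((u * (v : G)) ^ k) (u * (v : G))⁻¹ := by
    intro v n hov hall k hk
    rw [(hmem v).mul_pow]
    have hc := (hmem v).pow_pow k k
    have hb := pow_order hov (hk.coprime_dvd_right (dvd_mul_left _ _))
    rcases hS k (hk.coprime_dvd_right (dvd_mul_right _ _)) with h | h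
    · exact Or.inl (sec_conj h hc hb hall)
    · refine Or.inr ?_
      have h' := isConj_inv h
      rw [inv_inv] at h'
      have := isConj_inv (sec_conj h' hc.inv_inv ((orderOf_inv _).trans hb) hall)
      rwa [mul_inv_rev, inv_inv, inv_inv, ← hc.eq] at this
  exact ⟨{
    u := u, t := t, w := w
    u_mem := hu, ou := hou, ot := hot', ow := how'
    t_mem := hC.le t.2
    w_mem := hC.le w.2
    cu := L.c7 u hou
    ct := (cn_mul hou hot' (by norm_num) (hmem t) t.2).trans hct
    cw := (cn_mul hou how' (by norm_num) (hmem w) w.2).trans hcw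
    w_conj := (isConj_coe (hallw w⁻¹ ((orderOf_inv _).trans how))).symm
    K := inCent u 2
    card_K := (card_inCent u 2).trans i2
    t_K := mem_inCent.2 ⟨hmem t, hot'⟩
    mem_K := inCent_iff hot' hallt
    K_u := fun k hk => sec_conj (IsConj.refl u) (mem_inCent.1 hk).1 (mem_inCent.1 hk).2 hallt
    K_t := fun k hk hne => by
      rw [mul_assoc]
      obtain ⟨hkc, hko⟩ := mem_inCent.1 hk
      refine sec_conj (IsConj.refl u) ((hmem t).mul_right hkc) ?_ hallw
      have h := hmul ⟨k, Subgroup.mem_centralizer_singleton_iff.2 hkc.symm⟩ t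
        (by rw [← Subgroup.orderOf_coe]; exact hko) hot fun e => hne (congrArg Subtype.val e).symm
      rw [← Subgroup.orderOf_coe] at h
      exact h
    K_w := fun k hk => by
      rw [mul_assoc]
      obtain ⟨hkc, hko⟩ := mem_inCent.1 hk
      refine sec_conj (IsConj.refl u) ((hmem w).mul_right hkc) ?_ hallt
      have h := htw ⟨k, Subgroup.mem_centralizer_singleton_iff.2 hkc.symm⟩ w
        (by rw [← Subgroup.orderOf_coe]; exact hko) how
      rw [← Subgroup.orderOf_coe] at h
      have e : (w : G) * k = MulAut.conj (k⁻¹) (k * (w : G)) := by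
        rw [MulAut.conj_apply, inv_inv]; group
      rw [e, MulEquiv.orderOf_eq]
      exact h
    nr_u := hnr
    rat_u := hS
    rat_t := hrat t 2 hot' hallt
    rat_w := hrat w 3 how' hallw }⟩

end Cfsg.Agent.Fus.M24Nse
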