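import Mathlib
import Cfsg.Agent.Lib.Fus.M24Nse.Sections
import Cfsg.Agent.Lib.Invol.Order95040.Counting

/-!
Order 244823040 with the element counts of `M₂₄`: the column at an element of order eleven and the counts of
products of two conjugates landing in its class.
-/

set_option autoImplicit false
set_option linter.style.haveILetI false
set_option linter.unusedSectionVars false

namespace Cfsg.Agent.Fus.M24Nse

open scoped ComplexConjugate
open Cfsg Cfsg.Agent.Block Cfsg.Agent.Char Cfsg.Agent.Invol.M12Ord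
open Cfsg.Agent.Invol.M22Ord (PBlk exists_pblk exists_gen)

universe u

variable {G : Type u} [Group G] [Finite G]

theorem sum_sq (hG : Nat.card G = 244823040) :
    ∑ χ : IrrCharacter G, (dg χ : ℤ) * dg χ = 244823040 := by
  haveI := Fintype.ofFinite G
  apply Int.cast_injective (α := ℂ)
  have h := sum_irr_mul_conj (G := G) 1 1
  simp only [if_pos (IsConj.refl (1 : G)), value_one, map_natCast] at h
  push_cast
  convert h using 1
  rw [show Nat.card (Subgroup.centralizer ({1} : Set G)) = Nat.card G from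
    Subgroup.card_eq_iff_eq_top _ |>.2 (Subgroup.centralizer_eq_top_iff_subset.2 (by simp)), hG]
  norm_num

/-- The complex conjugate character. -/
noncomputable def conjIrrC (χ : IrrCharacter G) : IrrCharacter G :=
  ⟨fun g => conj ((χ : G → ℂ) g), IsIrr.conj χ.2⟩

theorem conjIrrC_apply (χ : IrrCharacter G) (g : G) : (conjIrrC χ : G → ℂ) g = conj ((χ : G → ℂ) g) := rfl

theorem dg_conjIrrC (χ : IrrCharacter G) : dg (conjIrrC χ) = dg χ := by
  apply Nat.cast_injective (R := ℂ)
  rw [← value_one, conjIrrC_apply, value_one, map_natCast]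

/-- The nontrivial characters of degree prime to eleven. -/
noncomputable def zset (G : Type u) [Group G] [Finite G] : Finset (IrrCharacter G) :=
  (Set.toFinite {χ : IrrCharacter G | χ ≠ trivialIrr G ∧ ¬ 11 ∣ dg χ}).toFinset

theorem mem_zset {χ : IrrCharacter G} : χ ∈ zset G ↔ χ ≠ trivialIrr G ∧ ¬ 11 ∣ dg χ := by simp [zset]

variable [IsSimpleGroup G]

theorem degOK (L : Counts G) {χ : IrrCharacter G} (h0 : χ ≠ trivialIrr G) : DegOK (dg χ) := by
  classical
  haveI := Fintype.ofFinite G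
  haveI : Fact (Nat.Prime 23) := ⟨by norm_num⟩
  haveI : Fact (Nat.Prime 11) := ⟨by norm_num⟩
  obtain ⟨h23, h11⟩ := deg_mod L h0
  refine ⟨OrdP.two_le_deg (not_comm L.card) h0, L.card ▸ charDeg_dvd χ, ?_, h23, h11⟩
  have h := Finset.single_le_sum (f := fun ξ : IrrCharacter G => (dg ξ : ℤ) * dg ξ)
    (fun ξ _ => mul_self_nonneg _) (Finset.mem_univ χ)
  rw [sum_sq L.card] at h
  exact_mod_cast h

/-- The column at an element of order eleven. -/
theorem exists_eleven (L : Counts G) : ∃ z : G, orderOf z = 11 ∧ (zset G).card = 10 ∧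
    ∀ χ : IrrCharacter G, χ ≠ trivialIrr G →
      (χ : G → ℂ) z = if 11 ∣ dg χ then 0 else ((sgn (dg χ) : ℤ) : ℂ) := by
  classical
  haveI : Fact (Nat.Prime 11) := ⟨by norm_num⟩
  obtain ⟨B, hB⟩ := blk11 L
  obtain ⟨z, hz, hz1, hoz, -, -⟩ := exists_gen B.P B.hP
  have hone : ¬ 11 ∣ orderOf (1 : G) := by rw [orderOf_one]; norm_num
  have hY : B.Y = {B.y} := by
    obtain ⟨a, ha⟩ := Finset.card_eq_one.1 (show B.Y.card = 1 by have := B.card_Y; omega)
    have := B.y_mem
    rw [ha, Finset.mem_singleton] at this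
    rw [ha, this]
  have hX : ∀ χ ∈ B.X, ¬ 11 ∣ dg χ ∧ sgn (dg χ) = B.s χ ∧ (χ : G → ℂ) z = (B.s χ : ℂ) := by
    intro χ hχ
    have h := B.deg_X χ hχ
    have hv := B.valX χ hχ z hz hz1 1 (one_mem _) hone
    rw [mul_one] at hv
    refine ⟨?_, ?_, hv⟩
    · rcases B.s_sign χ hχ with hs | hs <;> rw [hs] at h <;> omega
    · unfold sgn
      rcases B.s_sign χ hχ with hs | hs <;> rw [hs] at h ⊢
      · rw [if_pos (by rw [Nat.beq_eq]; omega)]
      · rw [if_neg (by rw [Nat.beq_eq]; omega)]
  have hy : ¬ 11 ∣ dg B.y ∧ sgn (dg B.y) = -B.ε ∧ (B.y : G → ℂ) z = ((-B.ε : ℤ) : ℂ) := by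
    have h := B.deg_Y B.y B.y_mem
    have hv := B.sum_Y hz hz1 (one_mem _) hone
    rw [hY, Finset.sum_singleton, mul_one] at hv
    push_cast at h
    refine ⟨?_, ?_, by rw [hv]; push_cast; rfl⟩
    · rcases B.ε_sign with hs | hs <;> rw [hs] at h <;> omega
    · unfold sgn
      rcases B.ε_sign with hs | hs <;> rw [hs] at h ⊢
      · rw [if_neg (by rw [Nat.beq_eq]; omega)]
      · rw [if_pos (by rw [Nat.beq_eq]; omega), neg_neg]
  have hout : ∀ χ : IrrCharacter G, χ ≠ trivialIrr G → χ ∉ B.X → χ ≠ B.y → 11 ∣ dg χ := fun χ h1 h2 h3 =>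
    B.out hB χ h1 h2 (by rw [hY, Finset.mem_singleton]; exact h3)
  have hzset : zset G = insert B.y B.X := by
    ext χ
    rw [mem_zset, Finset.mem_insert]
    refine ⟨fun ⟨h1, h2⟩ => ?_, ?_⟩
    · by_contra hc
      push Not at hc
      exact h2 (hout χ h1 hc.2 hc.1)
    · rintro (rfl | h)
      · exact ⟨fun e => B.triv_Y (e ▸ B.y_mem), hy.1⟩
      · exact ⟨fun e => B.triv_X (e ▸ h), (hX χ h).1⟩
  refine ⟨z, hoz, ?_, fun χ h0 => ?_⟩
  · rw [hzset, Finset.card_insert_of_notMem fun h => Finset.disjoint_left.1 B.disj h B.y_mem]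
    have := B.card_X
    omega
  · by_cases hd : 11 ∣ dg χ
    · rw [if_pos hd]
      obtain ⟨M, hM⟩ := exists_isPModular 11 (Fact.out : Nat.Prime 11)
      refine defectZero_vanish hM χ ?_ (by rw [hoz])
      show (dg χ).factorization 11 = (Nat.card G).factorization 11
      have hpos : dg χ ≠ 0 := (charDeg_pos χ).ne'
      have hdvd : dg χ ∣ 244823040 := L.card ▸ charDeg_dvd χ
      have h1 := (Nat.factorization_le_iff_dvd hpos (by norm_num)).2 hdvd 11
      have h2 := (Fact.out : Nat.Prime 11).factorization_pos_of_dvd hpos hd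
      have h3 : (244823040 : ℕ).factorization 11 = 1 := by
        rw [show (244823040 : ℕ) = 11 * 22256640 by norm_num, Nat.factorization_mul (by norm_num) (by norm_num),
          Finsupp.add_apply, (Fact.out : Nat.Prime 11).factorization_self,
          Nat.factorization_eq_zero_of_not_dvd (by norm_num : ¬ 11 ∣ 22256640)]
      rw [L.card]
      omega
    · rw [if_neg hd]
      have hm : χ ∈ zset G := mem_zset.2 ⟨h0, hd⟩
      rw [hzset, Finset.mem_insert] at hm
      rcases hm with rfl | hm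
      · rw [hy.2.1, hy.2.2]
      · rw [(hX χ hm).2.1, (hX χ hm).2.2]

omit [IsSimpleGroup G] in
/-- The number of pairs of conjugates is divisible by the centralizer of the first element. -/
theorem dvd_ncard {x y z : G} (hco : Nat.Coprime (cn x) (cn z)) :
    cn x ∣ {y' : G | IsConj y y' ∧ IsConj (x * y') z}.ncard := by
  classical
  set S : Set G := {y' : G | IsConj y y' ∧ IsConj (x * y') z} with hS
  set C := Subgroup.centralizer ({x} : Set G) with hC
  have hcl : ∀ (c : C) (a : G), a ∈ S → (c : G) * a * (c : G)⁻¹ ∈ S := by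
    intro c a ha
    refine ⟨ha.1.trans (_root_.isConj_iff.2 ⟨c, rfl⟩), IsConj.trans ?_ ha.2⟩
    refine IsConj.symm (_root_.isConj_iff.2 ⟨c, ?_⟩)
    calc (c : G) * (x * a) * (c : G)⁻¹ = ((c : G) * x) * a * (c : G)⁻¹ := by group
      _ = x * ((c : G) * a * (c : G)⁻¹) := by rw [Subgroup.mem_centralizer_singleton_iff.1 c.2]; group
  letI act : MulAction C S :=
    { smul := fun c a => ⟨(c : G) * a * (c : G)⁻¹, hcl c a a.2⟩
      one_smul := fun a => Subtype.ext (show ((1 : C) : G) * a * ((1 : C) : G)⁻¹ = a by simp)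
      mul_smul := fun c d a => Subtype.ext (show ((c * d : C) : G) * a * ((c * d : C) : G)⁻¹ =
        (c : G) * ((d : G) * a * (d : G)⁻¹) * (c : G)⁻¹ by push_cast; group) }
  have hfree : ∀ a : S, MulAction.stabilizer C a = ⊥ := by
    intro a
    rw [eq_bot_iff]
    intro c hc
    have e : (c : G) * a * (c : G)⁻¹ = a := congrArg Subtype.val (show c • a = a from hc)
    have hca : (c : G) * a = a * c := mul_inv_eq_iff_eq_mul.1 e
    have hcx : (c : G) * x = x * c := Subgroup.mem_centralizer_singleton_iff.1 c.2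
    have hcw : (c : G) ∈ Subgroup.centralizer ({x * (a : G)} : Set G) :=
      Subgroup.mem_centralizer_singleton_iff.2 (by rw [← mul_assoc, hcx, mul_assoc, hca, mul_assoc])
    obtain ⟨g, hg⟩ := _root_.isConj_iff.1 a.2.2
    have hcz : g * (c : G) * g⁻¹ ∈ Subgroup.centralizer ({z} : Set G) := by
      refine Subgroup.mem_centralizer_singleton_iff.2 ?_
      rw [← hg]
      calc g * (c : G) * g⁻¹ * (g * (x * a) * g⁻¹) = g * ((c : G) * (x * a)) * g⁻¹ := by group
        _ = _ := by rw [Subgroup.mem_centralizer_singleton_iff.1 hcw]; group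
    have d1 : orderOf (c : G) ∣ cn x := Subgroup.orderOf_dvd_natCard C c.2
    have d2 : orderOf (c : G) ∣ cn z := by
      have := Subgroup.orderOf_dvd_natCard _ hcz
      rwa [← MulAut.conj_apply, MulEquiv.orderOf_eq] at this
    have := Nat.dvd_gcd d1 d2
    rw [hco, Nat.dvd_one, orderOf_eq_one_iff] at this
    exact Subgroup.mem_bot.2 (Subtype.ext this)
  rw [← Nat.card_coe_set_eq, Nat.card_congr (MulAction.selfEquivOrbitsQuotientProd hfree), Nat.card_prod]
  exact dvd_mul_left _ _

/-- The count at a pair, written on the nontrivial degrees prime to eleven. -/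
theorem count_z (L : Counts G) {z : G} (hz : orderOf z = 11)
    (hval : ∀ χ : IrrCharacter G, χ ≠ trivialIrr G →
      (χ : G → ℂ) z = if 11 ∣ dg χ then 0 else ((sgn (dg χ) : ℤ) : ℂ))
    {x y : G} {a b : ℕ} (ha : cn x = a) (hb : cn y = b) (hco : a.Coprime 11) :
    ∃ K : ℕ, (244823040 : ℂ) + ∑ χ ∈ zset G, (wt (dg χ) : ℂ) * ((χ : G → ℂ) x * (χ : G → ℂ) y) =
      ((K * (a * b * 11) : ℕ) : ℂ) := by
  classical
  have hcz : cn z = 11 := L.c11 z hz
  obtain ⟨K, hK⟩ := dvd_ncard (x := x) (y := y) (z := z) (by rw [ha, hcz]; exact hco)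
  refine ⟨K, ?_⟩
  have h := triple x y z
  rw [hK, ha, hb, hcz, L.card] at h
  rw [show ((K * (a * b * 11) : ℕ) : ℂ) = ((a * K : ℕ) : ℂ) * (b : ℂ) * ((11 : ℕ) : ℂ) by push_cast; ring,
    ← h, Finset.mul_sum]
  have hsub : insert (trivialIrr G) (zset G) ⊆ Finset.univ := Finset.subset_univ _
  rw [← Finset.sum_subset hsub fun χ _ hχ => ?_, Finset.sum_insert fun h => (mem_zset.1 h).1 rfl]
  · congr 1
    · rw [trivial_value, trivial_value, trivial_value, trivial_value, map_one]; norm_num
    · refine Finset.sum_congr rfl fun χ hχ => ?_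
      obtain ⟨h0, h11⟩ := mem_zset.1 hχ
      rw [hval χ h0, if_neg h11, map_intCast, value_one]
      unfold wt
      rw [Int.cast_mul, Int.cast_natCast, Nat.cast_div (L.card ▸ charDeg_dvd χ) (Nat.cast_ne_zero.2 (charDeg_pos χ).ne')]
      push_cast
      ring
  · simp only [Finset.mem_insert, mem_zset, not_or, not_and, not_not] at hχ
    rw [hval χ hχ.1, if_pos (hχ.2 hχ.1), map_zero, mul_zero, zero_div, mul_zero]

end Cfsg.Agent.Fus.M24Nse
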