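import Cfsg.Agent.Lib.Fus.M24Nse.Base
import Cfsg.Agent.Lib.Invol.Order443520.Count

/-!
Order 244823040: the degrees in the principal blocks at five and seven, and the centralizer at five.
-/

set_option autoImplicit false
set_option linter.style.haveILetI false
set_option linter.unusedSectionVars false

namespace Cfsg.Agent.Fus.M24Nse

open scoped ComplexConjugate
open Cfsg Cfsg.Agent.Block Cfsg.Agent.Char Cfsg.Agent.Invol.M12Ord
open Cfsg.Agent.Invol.M22Ord (PBlk exists_pblk exists_gen)

universe u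

/-- The degrees allowed modulo twenty-three and eleven. -/
def okd (d : ℕ) : Bool := [0, 1, 22, 11, 12].contains (d % 23) && [0, 1, 10].contains (d % 11)

/-- The candidates for the degrees in a block whose class size is `n`. -/
def rowDegs (n : ℕ) : List ℕ := (List.range 15647).filter fun d => Nat.ble 2 d && n % d == 0 && okd d

def degsFive : List ℕ := [11, 12, 22, 23, 231, 252, 253, 264, 276, 483, 506, 528, 736, 759, 1012, 1288, 1518,
  1771, 2024, 2277, 2772, 3036, 3312, 3542, 4048, 4554, 5313, 5544, 5796, 6072, 6336, 7084, 8096, 8832, 9108,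
  9856, 10626, 12144, 12672, 14168, 15456]

def degsSeven : List ℕ := [11, 12, 22, 23, 45, 230, 253, 264, 276, 495, 506, 528, 736, 759, 990, 1012, 1035,
  1265, 1518, 1760, 2024, 2277, 2530, 2760, 3036, 3312, 3520, 3795, 3840, 4048, 4554, 5060, 6072, 6336, 7360,
  7590, 8096, 8832, 9108, 10120, 11385, 12144, 12672, 15180]

/-- The signed degrees congruent to one modulo `p`. -/
def signed (p : ℕ) (D : List ℕ) : List ℤ :=
  (D.flatMap fun d : ℕ => [(d : ℤ), -(d : ℤ)]).filter fun x => (x - 1) % (p : ℤ) == 0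

/-- The relation completes the signed degrees to a block with automizer of order `e`. -/
def closes (p e : ℕ) (D : List ℕ) (S : ℤ) : Bool := D.contains S.natAbs && (S - e) % (p : ℤ) == 0

def goodFive (x y z : ℤ) : Bool :=
  !closes 5 4 degsFive (1 + x + y + z) ||
    ([x.natAbs, y.natAbs, z.natAbs, (1 + x + y + z).natAbs].contains 5796 ||
      ([x.natAbs, y.natAbs, z.natAbs, (1 + x + y + z).natAbs].filter fun d => d == 736).length == 1)

def goodSeven (x y : ℤ) : Bool :=
  !closes 7 3 degsSeven (1 + x + y) ||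
    (decide (0 < x) && decide (0 < y) || x == -1035 || y == -1035 || (1 + x + y).natAbs == 276)

theorem degs_five : rowDegs 4080384 = degsFive := by decide +kernel

theorem degs_five' : rowDegs 2040192 = degsFive := by decide +kernel

theorem degs_seven : rowDegs 5829120 = degsSeven := by decide +kernel

theorem check_five : ((signed 5 degsFive).all fun x => (signed 5 degsFive).all fun y =>
    (signed 5 degsFive).all fun z => goodFive x y z) = true := by decide +kernel

theorem check_seven : ((signed 7 degsSeven).all fun x => (signed 7 degsSeven).all fun y =>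
    goodSeven x y) = true := by decide +kernel

theorem check_two : ((signed 5 degsFive).all fun x =>
    !closes 5 2 degsFive (1 + x) || (x == 11 && (1 + x).natAbs == 12)) = true := by decide +kernel

variable {G : Type u} [Group G] [Finite G]

theorem dg_small (hG : Nat.card G = 244823040) (χ : IrrCharacter G) : dg χ < 15647 := by
  classical
  haveI := Fintype.ofFinite G
  by_contra hc
  have h := sum_irr_mul_conj (1 : G) 1
  rw [if_pos (IsConj.refl _), centralizer_one_eq_top, Subgroup.card_top, hG] at h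
  simp only [value_one, map_natCast] at h
  have h' : ∑ ξ : IrrCharacter G, dg ξ * dg ξ = 244823040 := by
    apply Nat.cast_injective (R := ℂ)
    push_cast
    exact h
  have h2 : dg χ * dg χ ≤ 244823040 := h' ▸
    Finset.single_le_sum (f := fun ξ => dg ξ * dg ξ) (fun ξ _ => Nat.zero_le _) (Finset.mem_univ χ)
  have h3 : 15647 * 15647 ≤ dg χ * dg χ := Nat.mul_le_mul (not_lt.1 hc) (not_lt.1 hc)
  omega

variable [IsSimpleGroup G]

section Block

variable {p e : ℕ} [Fact p.Prime] (B : PBlk G p e)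

/-- Every degree in a principal block divides the class size of a singular element. -/
theorem dg_dvd_index (hG : Nat.card G = 244823040) {n : ℕ} (hC : Nat.card B.C * n = 244823040)
    {χ : IrrCharacter G} (hχ : χ ∈ B.X ∨ χ = B.y) : dg χ ∣ n := by
  classical
  obtain ⟨u, hu, hu1, -, -, hc⟩ := exists_gen B.P B.hP
  have hidx : (Subgroup.centralizer ({u} : Set G)).index = n := by
    have h := Subgroup.card_mul_index B.C
    rw [hG, ← hC] at h
    rw [hc]
    exact Nat.eq_of_mul_eq_mul_left Nat.card_pos h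
  have hone : ¬ p ∣ orderOf (1 : G) := by rw [orderOf_one]; exact (Fact.out : p.Prime).not_dvd_one
  rcases hχ with hχ | rfl
  · have hv : (χ : G → ℂ) u = (B.s χ : ℂ) := by
      rw [← mul_one u]
      exact B.valX χ hχ u hu hu1 1 (one_mem _) hone
    have h := OrdP.index_dvd χ hv
    rw [hidx] at h
    rcases B.s_sign χ hχ with hs | hs <;> rw [hs] at h
    · rw [mul_one] at h; exact Int.natCast_dvd_natCast.1 h
    · rw [mul_neg_one, dvd_neg] at h; exact Int.natCast_dvd_natCast.1 h
  · have h : IsIntegral ℤ (∑ ψ ∈ B.Y, centralChar (ψ : G → ℂ) u) :=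
      IsIntegral.sum _ fun ψ _ => centralChar_isIntegral ψ u
    have hs : ∑ ψ ∈ B.Y, (ψ : G → ℂ) u = -(B.ε : ℂ) := by
      have := B.sum_Y hu hu1 (one_mem _) hone
      rwa [mul_one] at this
    rw [Finset.sum_congr rfl (g := fun ψ : IrrCharacter G => (n : ℂ) / (dg B.y : ℂ) * (ψ : G → ℂ) u)
      fun ψ hψ => by rw [centralChar, hidx, value_one, B.dg_Y hψ]; ring, ← Finset.mul_sum, hs] at h
    refine nat_dvd_of_isIntegral_div (charDeg_pos B.y).ne' ?_
    rcases B.ε_sign with hε | hε <;> rw [hε] at h <;> push_cast at h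
    · have h' := h.neg
      rwa [mul_neg_one, neg_neg] at h'
    · rwa [neg_neg, mul_one] at h

theorem dg_mem (L : Counts G) {n : ℕ} (hC : Nat.card B.C * n = 244823040) {χ : IrrCharacter G}
    (hχ : χ ∈ B.X ∨ χ = B.y) : dg χ ∈ rowDegs n := by
  haveI : Fact (Nat.Prime 23) := ⟨by norm_num⟩
  haveI : Fact (Nat.Prime 11) := ⟨by norm_num⟩
  have hne : χ ≠ trivialIrr G := by
    rcases hχ with h | rfl
    · exact fun e0 => B.triv_X (e0 ▸ h)
    · exact fun e0 => B.triv_Y (e0 ▸ B.y_mem)
  have h2 := OrdP.two_le_deg (not_comm L.card) hne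
  obtain ⟨h23, h11⟩ := deg_mod L hne
  simp only [rowDegs, okd, List.mem_filter, List.mem_range, Bool.and_eq_true, Nat.ble_eq, beq_iff_eq,
    List.contains_iff_mem]
  exact ⟨dg_small L.card χ, ⟨h2, Nat.mod_eq_zero_of_dvd (dg_dvd_index B L.card hC hχ)⟩, h23, h11⟩

theorem signed_mem (L : Counts G) {n : ℕ} {D : List ℕ} (hD : rowDegs n = D)
    (hC : Nat.card B.C * n = 244823040) {χ : IrrCharacter G} (hχ : χ ∈ B.X) :
    B.s χ * (dg χ : ℤ) ∈ signed p D := by
  have hm := hD ▸ dg_mem B L hC (Or.inl hχ)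
  have hd := B.deg_X χ hχ
  refine List.mem_filter.2 ⟨List.mem_flatMap.2 ⟨_, hm, ?_⟩, beq_iff_eq.2 (Int.emod_eq_zero_of_dvd ?_)⟩
  · rcases B.s_sign χ hχ with hs | hs <;> rw [hs] <;> simp
  · rcases B.s_sign χ hχ with hs | hs <;> rw [hs] at hd ⊢
    · rwa [one_mul]
    · rw [show (-1 : ℤ) * (dg χ : ℤ) - 1 = -((dg χ : ℤ) - -1) by ring]
      exact dvd_neg.2 hd

theorem closes_of (L : Counts G) {n : ℕ} {D : List ℕ} (hD : rowDegs n = D)
    (hC : Nat.card B.C * n = 244823040) {S : ℤ} (hS : B.ε * (dg B.y : ℤ) = S) :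
    closes p e D S = true ∧ S.natAbs = dg B.y := by
  have hd := B.deg_Y B.y B.y_mem
  have hSn : S.natAbs = dg B.y := by
    rw [← hS]
    rcases B.ε_sign with h | h <;> rw [h] <;> simp
  refine ⟨Bool.and_eq_true_iff.2 ⟨?_, beq_iff_eq.2 (Int.emod_eq_zero_of_dvd ?_)⟩, hSn⟩
  · rw [List.contains_iff_mem, hSn]
    exact hD ▸ dg_mem B L hC (Or.inr rfl)
  · rw [← hS]
    have := hd.mul_left B.ε
    rwa [mul_sub, ← mul_assoc B.ε B.ε, B.εε, one_mul] at this

theorem natAbs_signed {χ : IrrCharacter G} (hχ : χ ∈ B.X) : (B.s χ * (dg χ : ℤ)).natAbs = dg χ := by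
  rcases B.s_sign χ hχ with hs | hs <;> rw [hs] <;> simp

end Block

/-- An element of prime order has the centralizer of a Sylow subgroup. -/
theorem cn_sylow (hG : Nat.card G = 244823040) [Fact (Nat.Prime 5)] {x : G} (hx : orderOf x = 5) :
    ∃ P : Sylow 5 G, cn x = Nat.card (Subgroup.centralizer ((P : Subgroup G) : Set G)) := by
  have hp' : IsPGroup 5 (Subgroup.zpowers x) :=
    IsPGroup.of_card (n := 1) (by rw [Nat.card_zpowers, hx, pow_one])
  obtain ⟨P, hP⟩ := hp'.exists_le_sylow
  have hPc := OrdP.card_sylow_eq (p := 5) (m := 48964608) (hG.trans (by norm_num)) (by norm_num) P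
  have he : Subgroup.zpowers x = (P : Subgroup G) :=
    Subgroup.eq_of_le_of_card_ge hP (by rw [Nat.card_zpowers, hx]; exact hPc.le)
  refine ⟨P, ?_⟩
  show Nat.card (Subgroup.centralizer ({x} : Set G)) = _
  rw [← Subgroup.centralizer_closure, ← Subgroup.zpowers_eq_closure, he]

/-- The centralizers of the elements of order five have order sixty. -/
theorem five_c (L : Counts G) : ∀ x : G, orderOf x = 5 → cn x = 60 := by
  classical
  haveI : Fact (Nat.Prime 5) := ⟨by norm_num⟩
  haveI : Fact (Nat.Prime 23) := ⟨by norm_num⟩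
  intro x hx
  obtain ⟨P, hxP⟩ := cn_sylow L.card hx
  have hG5 : Nat.card G = 5 * 48964608 := L.card.trans (by norm_num)
  have hna := not_comm L.card
  obtain ⟨f, k, -, -, hf, hf1, hfp, -, -⟩ := OrdP.exists_e hna hG5 (by norm_num) P
  have hle : Subgroup.centralizer ((P : Subgroup G) : Set G) ≤
      Subgroup.normalizer ((P : Subgroup G) : Set G) := fun g hg => Subgroup.mem_normalizer_iff.2 fun h => by
    constructor
    · intro hh
      rw [show g * h * g⁻¹ = h by
        rw [← Subgroup.mem_centralizer_iff.1 hg h hh, mul_inv_cancel_right]]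
      exact hh
    · intro hh
      have h1 := Subgroup.mem_centralizer_iff.1 hg _ hh
      have h2 : g * h * g⁻¹ = h := by
        have h3 : g * h * g⁻¹ * g = g * (g * h * g⁻¹) := h1
        rw [inv_mul_cancel_right] at h3
        exact (mul_left_cancel h3).symm
      rwa [h2] at hh
  have hmul := Subgroup.relIndex_mul_relIndex ⊥ _ _ bot_le hle
  rw [Subgroup.relIndex_bot_left, Subgroup.relIndex_bot_left, hf, L.n5 P, ← hxP] at hmul
  obtain rfl | rfl : f = 2 ∨ f = 4 := by
    have := Nat.le_of_dvd (by norm_num) hfp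
    have h3 : f ≠ 3 := fun h => by rw [h] at hfp; norm_num at hfp
    omega
  · exfalso
    obtain ⟨B, hB, -⟩ := exists_pblk hna (by norm_num) P (OrdP.card_sylow_eq hG5 (by norm_num) P) hf hf1 hfp
    have hC : Nat.card B.C * 2040192 = 244823040 := by
      rw [PBlk.C, hB, ← hxP]
      omega
    obtain ⟨χ, hχ⟩ := Finset.card_eq_one.1 (show B.X.card = 1 by have := B.card_X; omega)
    have hχX : χ ∈ B.X := hχ ▸ Finset.mem_singleton_self χ
    obtain ⟨hc, hy⟩ := closes_of B L degs_five' hC (S := 1 + B.s χ * (dg χ : ℤ))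
      (by rw [B.deg_rel, hχ, Finset.sum_singleton])
    have h := List.all_eq_true.1 check_two _ (signed_mem B L degs_five' hC hχX)
    rw [hc, hy] at h
    simp only [Bool.not_true, Bool.false_or, Bool.and_eq_true, beq_iff_eq] at h
    have hd : dg χ = 11 := by have := natAbs_signed B hχX; rw [h.1] at this; simpa using this.symm
    obtain ⟨A, hA⟩ := blk23 L
    have hmem : ∀ ψ : IrrCharacter G, ψ ≠ trivialIrr G → (dg ψ = 11 ∨ dg ψ = 12) → dg ψ = dg A.y := by
      intro ψ hψ hd
      refine A.dg_Y (not_not.1 fun hY => ?_)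
      by_cases hX : ψ ∈ A.X
      · have h := A.deg_X ψ hX
        rcases A.s_sign ψ hX with hs | hs <;> rw [hs] at h <;> omega
      · have := A.out hA ψ hψ hX hY
        omega
    have h1 := hmem χ (fun e0 => B.triv_X (e0 ▸ hχX)) (Or.inl hd)
    have h2 := hmem B.y (fun e0 => B.triv_Y (e0 ▸ B.y_mem)) (Or.inr h.2)
    omega
  · omega

/-- The principal block at five contains a degree 5796 or exactly one degree 736. -/
theorem row5 (L : Counts G) [Fact (Nat.Prime 5)] (B : PBlk G 5 4) (hC : Nat.card B.C = 60) :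
    ∃ χ : IrrCharacter G, (χ ∈ B.X ∨ χ = B.y) ∧ (dg χ = 5796 ∨ (dg χ = 736 ∧
      ∀ ψ : IrrCharacter G, (ψ ∈ B.X ∨ ψ = B.y) → dg ψ = 736 → ψ = χ)) := by
  classical
  have hC' : Nat.card B.C * 4080384 = 244823040 := by rw [hC]
  obtain ⟨a, b, c, hab, hac, hbc, hX⟩ := Finset.card_eq_three.1 (show B.X.card = 3 by
    have := B.card_X; omega)
  have ha : a ∈ B.X := by simp [hX]
  have hb : b ∈ B.X := by simp [hX]
  have hc : c ∈ B.X := by simp [hX]
  obtain ⟨hcl, hy⟩ := closes_of B L degs_five hC'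
    (S := 1 + B.s a * (dg a : ℤ) + B.s b * (dg b : ℤ) + B.s c * (dg c : ℤ)) (by
      rw [B.deg_rel, hX, Finset.sum_insert (by simp [hab, hac]), Finset.sum_pair hbc]
      ring)
  have h := List.all_eq_true.1 (List.all_eq_true.1 (List.all_eq_true.1 check_five _
    (signed_mem B L degs_five hC' ha)) _ (signed_mem B L degs_five hC' hb)) _
    (signed_mem B L degs_five hC' hc)
  simp only [goodFive, hcl, hy, natAbs_signed B ha, natAbs_signed B hb, natAbs_signed B hc,
    Bool.not_true, Bool.false_or, Bool.or_eq_true, beq_iff_eq,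
    List.contains_iff_mem] at h
  have hmem : ∀ ψ : IrrCharacter G, ψ ∈ [a, b, c, B.y] ↔ ψ ∈ B.X ∨ ψ = B.y := fun ψ => by
    simp [hX, or_assoc]
  rw [show [dg a, dg b, dg c, dg B.y] = [a, b, c, B.y].map dg from rfl, List.filter_map,
    List.length_map, List.mem_map] at h
  rcases h with ⟨χ, hχ, hd⟩ | h
  · exact ⟨χ, (hmem χ).1 hχ, Or.inl hd⟩
  · obtain ⟨χ, hχ⟩ := List.length_eq_one_iff.1 h
    have h1 : χ ∈ [a, b, c, B.y].filter ((fun d => d == 736) ∘ dg) := hχ ▸ List.mem_cons_self
    rw [List.mem_filter] at h1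
    refine ⟨χ, (hmem χ).1 h1.1, Or.inr ⟨by simpa using h1.2, fun ψ hψ hd => ?_⟩⟩
    have h2 : ψ ∈ [a, b, c, B.y].filter ((fun d => d == 736) ∘ dg) :=
      List.mem_filter.2 ⟨(hmem ψ).2 hψ, by simp [hd]⟩
    rw [hχ] at h2
    exact List.mem_singleton.1 h2

/-- The principal block at seven contains a degree 1035 or has exceptional degree 276. -/
theorem row7 (L : Counts G) [Fact (Nat.Prime 7)] (B : PBlk G 7 3) (hC : Nat.card B.C = 42) :
    (∃ χ ∈ B.X, dg χ = 1035) ∨ dg B.y = 276 := by
  classical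
  have hC' : Nat.card B.C * 5829120 = 244823040 := by rw [hC]
  obtain ⟨a, b, hab, hX⟩ := Finset.card_eq_two.1 (show B.X.card = 2 by have := B.card_X; omega)
  have ha : a ∈ B.X := by simp [hX]
  have hb : b ∈ B.X := by simp [hX]
  have hrel : B.ε * (dg B.y : ℤ) = 1 + B.s a * (dg a : ℤ) + B.s b * (dg b : ℤ) := by
    rw [B.deg_rel, hX, Finset.sum_pair hab]
    ring
  obtain ⟨hcl, hy⟩ := closes_of B L degs_seven hC' hrel
  have h := List.all_eq_true.1 (List.all_eq_true.1 check_seven _ (signed_mem B L degs_seven hC' ha)) _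
    (signed_mem B L degs_seven hC' hb)
  simp only [goodSeven, hcl, hy, Bool.not_true, Bool.false_or, Bool.or_eq_true, Bool.and_eq_true,
    decide_eq_true_eq, beq_iff_eq] at h
  rcases h with ((⟨hpa, hpb⟩ | h) | h) | h
  · exfalso
    haveI : Fact (Nat.Prime 2) := ⟨Nat.prime_two⟩
    have hna := not_comm L.card
    obtain ⟨v, hv⟩ := exists_prime_orderOf_dvd_card' (G := G) 2 (by rw [L.card]; norm_num)
    choose A hA _ using fun χ : IrrCharacter G =>
      OrdP.involution_value hna χ (show v ^ 2 = 1 from hv ▸ pow_orderOf_eq_one v)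
    have hsa : B.s a = 1 := (B.s_sign a ha).resolve_right fun e0 => by rw [e0] at hpa; omega
    have hsb : B.s b = 1 := (B.s_sign b hb).resolve_right fun e0 => by rw [e0] at hpb; omega
    rw [hsa, hsb, one_mul, one_mul] at hrel
    have hε : B.ε = 1 := B.ε_sign.resolve_right fun e0 => by rw [e0] at hrel; omega
    rw [hε, one_mul] at hrel
    have hY : A B.y = 1 + A a + A b := by
      have h0 := B.rel B.y B.y_mem v (by rw [hv]; norm_num)
      rw [hX, Finset.sum_pair hab, hsa, hsb, hε, hA, hA, hA] at h0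
      apply Int.cast_injective (α := ℂ)
      push_cast at h0 ⊢
      linear_combination h0
    have hQ := B.Q_zero (by norm_num) (by norm_num) hv hv hA hA (c := 6) (by rw [hC]) (by norm_num)
    rw [PBlk.Q, hX, Finset.sum_pair hab, hsa, hsb, hε, hY] at hQ
    have hyC : (dg B.y : ℂ) = 1 + (dg a : ℂ) + (dg b : ℂ) := by exact_mod_cast hrel
    have hda : (dg a : ℂ) ≠ 0 := Nat.cast_ne_zero.2 (charDeg_pos a).ne'
    have hdb : (dg b : ℂ) ≠ 0 := Nat.cast_ne_zero.2 (charDeg_pos b).ne'
    have hdy : (1 : ℂ) + (dg a : ℂ) + (dg b : ℂ) ≠ 0 := hyC ▸ Nat.cast_ne_zero.2 (charDeg_pos B.y).ne'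
    rw [hyC] at hQ
    field_simp at hQ
    push_cast at hQ
    have hid : (((dg b : ℤ) * (A a - (dg a : ℤ)) ^ 2 + (dg a : ℤ) * (A b - (dg b : ℤ)) ^ 2 +
        ((dg a : ℤ) * A b - (dg b : ℤ) * A a) ^ 2 : ℤ) : ℂ) = ((0 : ℤ) : ℂ) := by
      push_cast
      linear_combination hQ
    have hid' := Int.cast_injective hid
    have hpos : (0 : ℤ) < dg b := Int.natCast_pos.2 (charDeg_pos b)
    have hz : (A a - (dg a : ℤ)) ^ 2 = 0 := by
      have h1 := sq_nonneg (A b - (dg b : ℤ))
      have h2 := sq_nonneg ((dg a : ℤ) * A b - (dg b : ℤ) * A a)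
      have h3 : 0 ≤ (dg a : ℤ) * (A b - (dg b : ℤ)) ^ 2 := mul_nonneg (Int.natCast_nonneg _) h1
      have h4 := sq_nonneg (A a - (dg a : ℤ))
      nlinarith
    rw [sq_eq_zero_iff, sub_eq_zero] at hz
    refine ne_one_of_orderOf hv (by norm_num) (OrdP.eq_one_of_value (fun e0 => B.triv_X (e0 ▸ ha)) ?_)
    rw [hA a, hz, value_one]
    push_cast
    rfl
  · refine Or.inl ⟨a, ha, ?_⟩
    have := natAbs_signed B ha
    rw [h] at this
    simpa using this.symm
  · refine Or.inl ⟨b, hb, ?_⟩
    have := natAbs_signed B hb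
    rw [h] at this
    simpa using this.symm
  · exact Or.inr h

end Cfsg.Agent.Fus.M24Nse
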