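import Mathlib
import Cfsg.Agent.Lib.Fus.M24Nse.Rows

/-!
Order 244823040 with the element counts of `M₂₄`: each of the principal blocks at five and at seven has a
single degree prime to eleven.
-/

set_option autoImplicit false
set_option linter.style.haveILetI false
set_option linter.unusedSectionVars false
set_option Elab.async false

namespace Cfsg.Agent.Fus.M24Nse

open Cfsg Cfsg.Agent.Block Cfsg.Agent.Char Cfsg.Agent.Invol.M12Ord
open Cfsg.Agent.Invol.M22Ord (PBlk exists_pblk exists_gen)

universe u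

/-- The degrees prime to eleven in a row at five. -/
def fineFive (x y z : ℤ) : Bool :=
  !closes 5 4 degsFive (1 + x + y + z) ||
    (let L := [x.natAbs, y.natAbs, z.natAbs, (1 + x + y + z).natAbs].filter fun d => d % 11 != 0
     L == [5796] || L == [736])

/-- The degrees prime to eleven in a row at seven through 1035 or 276. -/
def fineSeven (x y : ℤ) : Bool :=
  !closes 7 3 degsSeven (1 + x + y) ||
    !(x.natAbs == 1035 || y.natAbs == 1035 || (1 + x + y).natAbs == 276) ||
    (let L := [x.natAbs, y.natAbs, (1 + x + y).natAbs].filter fun d => d % 11 != 0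
     L == [1035] || L == [276])

def signedFive : List ℤ :=
  [11, 231, -264, 276, 506, 736, -759, 1771, -2024, 3036, -4554, -5544, 5796, 6336, -7084, 8096, 9856, 10626,
    -12144, 15456]

def signedSeven : List ℤ :=
  [22, -230, 253, 736, -1035, -1518, 2024, 3312, -3520, 3795, -5060, 6336, 9108, -12144]

theorem signed_five : signed 5 degsFive = signedFive := by decide +kernel

theorem signed_seven : signed 7 degsSeven = signedSeven := by decide +kernel

/-- The rows at five whose first entry is in a list. -/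
def fineFrom (l : List ℤ) : Bool := l.all fun x => signedFive.all fun y => signedFive.all fun z => fineFive x y z

theorem fine_a : fineFrom (signedFive.take 5) = true := by decide +kernel

theorem fine_b : fineFrom ((signedFive.drop 5).take 5) = true := by decide +kernel

theorem fine_c : fineFrom ((signedFive.drop 10).take 5) = true := by decide +kernel

theorem fine_d : fineFrom (signedFive.drop 15) = true := by decide +kernel

theorem fineFrom_append {l m : List ℤ} (hl : fineFrom l = true) (hm : fineFrom m = true) :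
    fineFrom (l ++ m) = true := by
  unfold fineFrom at *
  rw [List.all_append, hl, hm, Bool.and_self]

theorem signedFive_split : signedFive.take 5 ++ ((signedFive.drop 5).take 5 ++
    ((signedFive.drop 10).take 5 ++ signedFive.drop 15)) = signedFive := by decide +kernel

theorem check_fineFive : fineFrom signedFive = true :=
  signedFive_split ▸ fineFrom_append fine_a (fineFrom_append fine_b (fineFrom_append fine_c fine_d))

theorem check_fineSeven : (signedSeven.all fun x => signedSeven.all fun y =>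
    fineSeven x y) = true := by decide +kernel

variable {G : Type u} [Group G] [Finite G]

/-- A list with one degree prime to eleven. -/
theorem single_of_filter {L : List (IrrCharacter G)} {d : ℕ}
    (h : ((L.map dg).filter fun n => n % 11 != 0) = [d]) :
    ∃ χ ∈ L, dg χ = d ∧ ¬ 11 ∣ dg χ ∧ ∀ ψ ∈ L, ψ ≠ χ → 11 ∣ dg ψ := by
  rw [List.filter_map] at h
  obtain ⟨χ, hl, hd⟩ := List.map_eq_singleton_iff.1 h
  have h1 : χ ∈ L.filter ((fun n => n % 11 != 0) ∘ dg) := hl ▸ List.mem_cons_self
  rw [List.mem_filter] at h1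
  refine ⟨χ, h1.1, hd, fun e => by simp [Nat.mod_eq_zero_of_dvd e] at h1, fun ψ hψ hne => ?_⟩
  by_contra hno
  have h2 : ψ ∈ L.filter ((fun n => n % 11 != 0) ∘ dg) :=
    List.mem_filter.2 ⟨hψ, by simpa [Nat.dvd_iff_mod_eq_zero] using hno⟩
  rw [hl] at h2
  exact hne (List.mem_singleton.1 h2)

variable [IsSimpleGroup G]

/-- The principal block at five has one degree prime to eleven, 5796 or 736. -/
theorem row5_fine (L : Counts G) [Fact (Nat.Prime 5)] (B : PBlk G 5 4) (hC : Nat.card B.C = 60) :
    ∃ χ : IrrCharacter G, (χ ∈ B.X ∨ χ = B.y) ∧ (dg χ = 5796 ∨ dg χ = 736) ∧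
      ∀ ψ : IrrCharacter G, (ψ ∈ B.X ∨ ψ = B.y) → ψ ≠ χ → 11 ∣ dg ψ := by
  classical
  have hC' : Nat.card B.C * 4080384 = 244823040 := by rw [hC]
  obtain ⟨a, b, c, hab, hac, hbc, hX⟩ := Finset.card_eq_three.1 (show B.X.card = 3 by
    have := B.card_X; omega)
  have ha : a ∈ B.X := by simp [hX]
  have hb : b ∈ B.X := by simp [hX]
  have hc : c ∈ B.X := by simp [hX]
  obtain ⟨hcl, hy⟩ := closes_of B L degs_five hC'
    (S := 1 + B.s a * (dg a : ℤ) + B.s b * (dg b : ℤ) + B.s c * (dg c : ℤ)) (by
      rw [B.deg_rel, hX, Finset.sum_insert (by simp [hab, hac]), Finset.sum_pair hbc]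
      ring)
  have hc5 := check_fineFive
  unfold fineFrom at hc5
  have h := List.all_eq_true.1 (List.all_eq_true.1 (List.all_eq_true.1 hc5 _
    ((signed_five ▸ signed_mem B L degs_five hC' ha))) _ (signed_five ▸ signed_mem B L degs_five hC' hb)) _
    (signed_five ▸ signed_mem B L degs_five hC' hc)
  simp only [fineFive, hcl, hy, natAbs_signed B ha, natAbs_signed B hb, natAbs_signed B hc,
    Bool.not_true, Bool.false_or, Bool.or_eq_true, beq_iff_eq] at h
  have hmem : ∀ ψ : IrrCharacter G, ψ ∈ [a, b, c, B.y] ↔ ψ ∈ B.X ∨ ψ = B.y := fun ψ => by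
    simp [hX, or_assoc]
  have key : ∀ d : ℕ, ([dg a, dg b, dg c, dg B.y].filter fun n => n % 11 != 0) = [d] →
      ∃ χ : IrrCharacter G, (χ ∈ B.X ∨ χ = B.y) ∧ dg χ = d ∧
        ∀ ψ : IrrCharacter G, (ψ ∈ B.X ∨ ψ = B.y) → ψ ≠ χ → 11 ∣ dg ψ := fun d h' => by
    obtain ⟨χ, hχ, hd, -, hu⟩ := single_of_filter (L := [a, b, c, B.y]) h'
    exact ⟨χ, (hmem χ).1 hχ, hd, fun ψ hψ => hu ψ ((hmem ψ).2 hψ)⟩
  rcases h with h | h
  · obtain ⟨χ, h1, h2, h3⟩ := key _ h
    exact ⟨χ, h1, Or.inl h2, h3⟩
  · obtain ⟨χ, h1, h2, h3⟩ := key _ h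
    exact ⟨χ, h1, Or.inr h2, h3⟩

/-- The principal block at seven has one degree prime to eleven, 1035, or has exceptional degree 276. -/
theorem row7_fine (L : Counts G) [Fact (Nat.Prime 7)] (B : PBlk G 7 3) (hC : Nat.card B.C = 42) :
    (∃ χ ∈ B.X, dg χ = 1035 ∧ ∀ ψ : IrrCharacter G, (ψ ∈ B.X ∨ ψ = B.y) → ψ ≠ χ → 11 ∣ dg ψ) ∨
      (dg B.y = 276 ∧ ∀ ψ ∈ B.X, 11 ∣ dg ψ) := by
  classical
  have hC' : Nat.card B.C * 5829120 = 244823040 := by rw [hC]
  obtain ⟨a, b, hab, hX⟩ := Finset.card_eq_two.1 (show B.X.card = 2 by have := B.card_X; omega)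
  have ha : a ∈ B.X := by simp [hX]
  have hb : b ∈ B.X := by simp [hX]
  obtain ⟨hcl, hy⟩ := closes_of B L degs_seven hC' (S := 1 + B.s a * (dg a : ℤ) + B.s b * (dg b : ℤ)) (by
    rw [B.deg_rel, hX, Finset.sum_pair hab]
    ring)
  have h := List.all_eq_true.1 (List.all_eq_true.1 check_fineSeven _ ((signed_seven ▸ signed_mem B L degs_seven hC' ha))) _
    (signed_seven ▸ signed_mem B L degs_seven hC' hb)
  simp only [fineSeven, hcl, hy, natAbs_signed B ha, natAbs_signed B hb, Bool.not_true, Bool.false_or,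
    Bool.or_eq_true, Bool.not_eq_true', Bool.or_eq_false_iff, beq_iff_eq, beq_eq_false_iff_ne] at h
  have hmem : ∀ ψ : IrrCharacter G, ψ ∈ [a, b, B.y] ↔ ψ ∈ B.X ∨ ψ = B.y := fun ψ => by
    simp [hX, or_assoc]
  rcases row7 L B hC with ⟨χ, hχ, hd⟩ | h276
  · have hd' : dg a = 1035 ∨ dg b = 1035 := by
      simp [hX] at hχ
      rcases hχ with rfl | rfl <;> simp [hd]
    have hl : ([dg a, dg b, dg B.y].filter fun n => n % 11 != 0) = [1035] := by
      rcases h with h | h | h
      · omega
      · exact h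
      · exfalso
        have : (1035 : ℕ) ∈ [dg a, dg b, dg B.y].filter fun n => n % 11 != 0 :=
          List.mem_filter.2 ⟨by rcases hd' with h' | h' <;> simp [h'], by decide⟩
        rw [h] at this
        simp at this
    obtain ⟨ξ, hξ, -, hn, hu⟩ := single_of_filter (L := [a, b, B.y]) hl
    have hχξ : χ = ξ := by
      by_contra hne
      have := hu χ ((hmem χ).2 (Or.inl hχ)) hne
      rw [hd] at this
      norm_num at this
    exact Or.inl ⟨χ, hχ, hd, fun ψ hψ hne => hu ψ ((hmem ψ).2 hψ) (hχξ ▸ hne)⟩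
  · have hl : ([dg a, dg b, dg B.y].filter fun n => n % 11 != 0) = [276] := by
      rcases h with h | h | h
      · omega
      · exfalso
        have : (276 : ℕ) ∈ [dg a, dg b, dg B.y].filter fun n => n % 11 != 0 :=
          List.mem_filter.2 ⟨by simp [h276], by decide⟩
        rw [h] at this
        simp at this
      · exact h
    obtain ⟨ξ, hξ, -, hn, hu⟩ := single_of_filter (L := [a, b, B.y]) hl
    have hyξ : B.y = ξ := by
      by_contra hne
      have := hu B.y ((hmem _).2 (Or.inr rfl)) hne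
      rw [h276] at this
      norm_num at this
    exact Or.inr ⟨h276, fun ψ hψ => hu ψ ((hmem ψ).2 (Or.inl hψ)) fun e =>
      Finset.disjoint_left.1 B.disj hψ (by rw [e, ← hyξ]; exact B.y_mem)⟩

end Cfsg.Agent.Fus.M24Nse
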