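import Mathlib
import Cfsg.Agent.Lib.Fus.M24Nse.Cols
import Cfsg.Agent.Lib.Fus.M24Nse.RowsFine
import Cfsg.Agent.Lib.Fus.M24Nse.Sound

/-!
Order 244823040 with the element counts of `M₂₄`: there is an irreducible character of degree 23.
-/

set_option autoImplicit false
set_option linter.style.haveILetI false
set_option linter.unusedSectionVars false
set_option Elab.async false

namespace Cfsg.Agent.Fus.M24Nse

open scoped ComplexConjugate
open Cfsg Cfsg.Agent.Block Cfsg.Agent.Char Cfsg.Agent.Invol.M12Ord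
open Cfsg.Agent.Invol.M22Ord (PBlk exists_pblk exists_gen)

universe u

/-- The coordinates at five of 1035. -/
theorem five_1035 : ∀ a ∈ sym 2, ∀ T ∈ sym 3, ok5 1035 a T = true → a = 0 ∧ T = 0 := by decide +kernel

/-- The coordinates at five of two equal characters of degree 276. -/
theorem five_276 : ∀ a ∈ sym 2, ∀ T ∈ sym 3, ok5 276 a T = true → 2 * (a * a) ≤ 5 → a = 0 ∧ T = 1 := by
  decide +kernel

/-- A real character of degree 736 at seven. -/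
theorem seven_736 : ∀ q ∈ ((sym 5).flatMap fun R => (sym 7).flatMap fun n => [true, false].filterMap fun t =>
    if ok7 736 R n t then some (q7 R n t) else none), rr q * rr q = 4 * nn q → q = (2, 1, 0, 0) := by decide +kernel

variable {G : Type u} [Group G] [Finite G] [IsSimpleGroup G]

set_option maxHeartbeats 2000000 in
/-- There is a character of degree 23. -/
theorem exists_deg23 (L : Local G) : ∃ χ : IrrCharacter G, dg χ = 23 := by
  classical
  haveI := Fintype.ofFinite G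
  haveI : Fact (Nat.Prime 5) := ⟨by norm_num⟩
  haveI : Fact (Nat.Prime 7) := ⟨by norm_num⟩
  have hG := L.card
  have hna := not_comm hG
  obtain ⟨B5, hB5, ⟨S5⟩⟩ := exists_sec5 L
  obtain ⟨B7, hB7, ⟨S7⟩⟩ := exists_sec7 L
  obtain ⟨z, hoz, hZc, hval⟩ := exists_eleven L.toCounts
  obtain ⟨a, T, ha0, h5, hsa, hsT, hr5⟩ := exists_coord5 S5 hna
  obtain ⟨q, hq0, h7, hY7, hs1, hs2, hr7⟩ := exists_coord7 S7 hG
  have hu5 : S5.u ≠ 1 := ne_one_of_orderOf S5.ou (by norm_num)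
  have hu7 : S7.u ≠ 1 := ne_one_of_orderOf S7.ou (by norm_num)
  set τ := trivialIrr G with hτ
  have hτ5 : τ ∈ mem5 B5 := mem5_iff.2 (Or.inl rfl)
  have hτ7 : τ ∈ mem7 B7 := by simp [mem7, hτ]
  have ix : ∀ (g : G) (n m : ℕ), cn g = n → m * n = 244823040 →
      ((Subgroup.centralizer ({g} : Set G)).index : ℤ) = (m : ℤ) := by
    intro g n m hn hm
    have h := Subgroup.index_mul_card (Subgroup.centralizer ({g} : Set G))
    rw [hG, show Nat.card (Subgroup.centralizer ({g} : Set G)) = n from hn, ← hm] at h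
    exact_mod_cast Nat.eq_of_mul_eq_mul_right (hn ▸ cn_pos g) h
  have hsqa : ∀ χ, a χ * a χ ≤ 5 := fun χ => hsa ▸ Finset.single_le_sum (f := fun ψ => a ψ * a ψ)
    (fun ψ _ => mul_self_nonneg _) (Finset.mem_univ χ)
  have hsqT : ∀ χ, T χ * T χ ≤ 10 := fun χ => hsT ▸ Finset.single_le_sum (f := fun ψ => T ψ * T ψ)
    (fun ψ _ => mul_self_nonneg _) (Finset.mem_univ χ)
  have hok5 : ∀ χ : IrrCharacter G, χ ∉ mem5 B5 → ok5 (dg χ) (a χ) (T χ) = true := by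
    intro χ hχ
    obtain ⟨-, h0, hd, i1, i2, -⟩ := h5 χ hχ
    rw [ix _ 60 4080384 S5.cu (by norm_num)] at i1
    rw [ix _ 20 12241152 S5.ct (by norm_num)] at i2
    simp only [ok5, Bool.and_eq_true, decide_eq_true_eq]
    exact ⟨⟨⟨h0, Int.emod_eq_zero_of_dvd hd⟩, Int.emod_eq_zero_of_dvd i1⟩, Int.emod_eq_zero_of_dvd i2⟩
  have hmem7 : ∀ χ, χ ∈ mem7 B7 ↔ χ = τ ∨ χ ∈ B7.X ∨ χ ∈ B7.Y := fun χ => by simp [mem7, hτ]
  -- the degree at five
  obtain ⟨A, hAm, hAd, hA5⟩ := row5_fine L.toCounts B5 hB5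
  have hA0 : A ≠ τ := fun e => by
    rw [e, hτ, dg_trivial] at hAd
    omega
  have hA11 : ¬ 11 ∣ dg A := by rcases hAd with h | h <;> rw [h] <;> norm_num
  have hAmem : A ∈ mem5 B5 := mem5_iff.2 (Or.inr hAm)
  have hm5 : ∀ χ ∈ mem5 B5, χ ≠ τ → ¬ 11 ∣ dg χ → χ = A := fun χ hχ h0 h11 => by
    by_contra hne
    exact h11 (hA5 χ ((mem5_iff.1 hχ).resolve_left h0) hne)
  obtain ⟨hA1, hA2, hA3, hA4⟩ : (A : G → ℂ) S5.u = 1 ∧ (A : G → ℂ) (S5.u * S5.t) = 1 ∧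
      (A : G → ℂ) (S5.u * S5.w) = 1 ∧ (A : G → ℂ) (S5.u * S5.w⁻¹) = 1 := by
    obtain ⟨s, hs, hd, h1, h2, h3, h4⟩ := S5.values hAmem
    obtain rfl : s = 1 := hs.resolve_right fun e => by
      rcases hAd with h | h <;> rw [h, e] at hd <;> norm_num at hd
    exact ⟨by simpa using h1, by simpa using h2, by simpa using h3, by simpa using h4⟩
  -- the degree at seven
  obtain ⟨Bs, bd, rb, nb, hB, hBm, hm7, hBeq⟩ : ∃ (Bs : Finset (IrrCharacter G)) (bd : ℕ) (rb nb : ℤ),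
      ((Bs.card = 1 ∧ bd = 1035 ∧ rb = -2 ∧ nb = 1) ∨ (Bs.card = 2 ∧ bd = 276 ∧ rb = -1 ∧ nb = 2)) ∧
      (∀ ψ ∈ Bs, ψ ∈ mem7 B7 ∧ ψ ≠ τ ∧ dg ψ = bd ∧
        (ψ : G → ℂ) S7.u + conj ((ψ : G → ℂ) S7.u) = (rb : ℂ) ∧
        (ψ : G → ℂ) S7.u * conj ((ψ : G → ℂ) S7.u) = (nb : ℂ)) ∧
      (∀ χ ∈ mem7 B7, χ ≠ τ → ¬ 11 ∣ dg χ → χ ∈ Bs) ∧
      ∀ ψ ∈ Bs, ∀ φ ∈ Bs, (ψ : G → ℂ) S5.u = (φ : G → ℂ) S5.u ∧
        (ψ : G → ℂ) (S5.u * S5.t) = (φ : G → ℂ) (S5.u * S5.t) := by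
    rcases row7_fine L.toCounts B7 hB7 with ⟨b, hb, hbd, hothers⟩ | ⟨hyd, hX⟩
    · refine ⟨{b}, 1035, -2, 1, Or.inl ⟨Finset.card_singleton b, rfl, rfl, rfl⟩, fun ψ hψ => ?_,
        fun χ hχ h0 h11 => ?_, fun ψ hψ φ hφ => ?_⟩
      · rw [Finset.mem_singleton.1 hψ]
        have hv := B7.valX b hb _ S7.u_mem hu7 1 (one_mem _) (by simp)
        rw [mul_one] at hv
        have hd := B7.deg_X b hb
        obtain hs : B7.s b = -1 := (B7.s_sign b hb).resolve_left fun e => by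
          rw [e, hbd] at hd; norm_num at hd
        rw [hs] at hv
        refine ⟨(hmem7 b).2 (Or.inr (Or.inl hb)), fun e => B7.triv_X (hτ ▸ e ▸ hb), hbd, ?_, ?_⟩ <;>
          rw [hv, map_intCast] <;> norm_num
      · rw [Finset.mem_singleton]
        by_contra hne
        rcases ((hmem7 χ).1 hχ).resolve_left h0 with h | h
        · exact h11 (hothers χ (Or.inl h) hne)
        · rw [B7.dg_Y h] at h11
          exact h11 (hothers B7.y (Or.inr rfl) fun e => Finset.disjoint_left.1 B7.disj hb (e ▸ B7.y_mem))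
      · rw [Finset.mem_singleton.1 hψ, Finset.mem_singleton.1 hφ]; exact ⟨rfl, rfl⟩
    · have hε : B7.ε = 1 := B7.ε_sign.resolve_right fun e => by
        have hd := B7.deg_Y B7.y B7.y_mem
        rw [hyd, e] at hd
        norm_num at hd
      refine ⟨B7.Y, 276, -1, 2, Or.inr ⟨by have := B7.card_Y; omega, rfl, rfl, rfl⟩, fun ψ hψ => ?_,
        fun χ hχ h0 h11 => ?_, fun ψ hψ φ hφ => ?_⟩
      · obtain ⟨e1, e2⟩ := hY7 ψ hψ
        rw [hε] at e1
        exact ⟨(hmem7 ψ).2 (Or.inr (Or.inr hψ)), fun e => B7.triv_Y (hτ ▸ e ▸ hψ), (B7.dg_Y hψ).trans hyd, e1,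
          by simpa using e2⟩
      · rcases ((hmem7 χ).1 hχ).resolve_left h0 with h | h
        · exact absurd (hX χ h) h11
        · exact h
      · constructor <;> refine (B7.eq_y hψ ?_).trans (B7.eq_y hφ ?_).symm
        all_goals first
          | (rw [S5.ou]; norm_num)
          | (rw [S5.o_ut]; norm_num)
  have hBd : bd = 1035 ∨ bd = 276 := by rcases hB with ⟨-, h, -⟩ | ⟨-, h, -⟩ <;> simp [h]
  have hB11 : ∀ ψ ∈ Bs, ¬ 11 ∣ dg ψ := fun ψ hψ => by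
    rw [(hBm ψ hψ).2.2.1]
    rcases hBd with h | h <;> rw [h] <;> norm_num
  have hAB : A ∉ Bs := fun h => by
    have := (hBm A h).2.2.1
    rcases hAd with e | e <;> rcases hBd with e' | e' <;> omega
  have hAn7 : A ∉ mem7 B7 := fun h => hAB (hm7 A h hA0 hA11)
  have hBn5 : ∀ ψ ∈ Bs, ψ ∉ mem5 B5 := fun ψ hψ h =>
    hAB (hm5 ψ h (hBm ψ hψ).2.1 (hB11 ψ hψ) ▸ hψ)
  have hBf : ∀ ψ ∈ Bs, ∀ φ ∈ Bs, a ψ = a φ ∧ T ψ = T φ := by
    intro ψ hψ φ hφ
    obtain ⟨e1, e2⟩ := hBeq ψ hψ φ hφ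
    obtain ⟨x1, -, -, -, -, y1, -⟩ := h5 ψ (hBn5 ψ hψ)
    obtain ⟨x2, -, -, -, -, y2, -⟩ := h5 φ (hBn5 φ hφ)
    rw [x1, x2] at e1
    rw [y1, y2] at e2
    have := Int.cast_injective e1
    have := Int.cast_injective e2
    omega
  -- the coordinates of the two degrees
  have hgA : (dg A = 5796 → q A = (0, 0, 0, 0)) ∧ (dg A = 736 → q A = (2, 1, 0, 0)) := by
    refine ⟨fun h => ?_, fun h => ?_⟩
    · have hco := (h7 A hAn7).coord
      rwa [h, Coord7, if_pos (by norm_num)] at hco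
    · have hO := h7 A hAn7
      have hc' : conjIrrC A = A := by
        have hd' : dg (conjIrrC A) = 736 := (dg_conjIrrC A).trans h
        refine hm5 _ ?_ (fun e => by rw [e, hτ, dg_trivial] at hd'; norm_num at hd') (by rw [hd']; norm_num)
        by_contra hc5
        obtain ⟨x1, -, -, -, -, y1, z1⟩ := h5 _ hc5
        simp only [conjIrrC_apply, hA1, hA2, hA3, hA4, map_one] at x1 y1 z1
        have := Int.cast_injective (α := ℂ) (show ((1 : ℤ) : ℂ) = ((3 * a (conjIrrC A) + T (conjIrrC A) : ℤ) : ℂ) by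
          push_cast at x1 ⊢; exact x1)
        have := Int.cast_injective (α := ℂ) (show ((1 : ℤ) : ℂ) = ((T (conjIrrC A) - a (conjIrrC A) : ℤ) : ℂ) by
          push_cast at y1 ⊢; exact y1)
        have := Int.cast_injective (α := ℂ) (show ((2 : ℤ) : ℂ) = ((-T (conjIrrC A) : ℤ) : ℂ) by
          push_cast; rw [← z1]; norm_num)
        omega
      have hreal : conj ((A : G → ℂ) S7.u) = (A : G → ℂ) S7.u := by
        rw [← conjIrrC_apply, hc']
      have h1 := hO.trace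
      have h2 := hO.norm
      rw [hreal] at h1 h2
      have hrn : rr (q A) * rr (q A) = 4 * nn (q A) := by
        apply Int.cast_injective (α := ℂ)
        push_cast
        rw [← h1, ← h2]; ring
      have hm := mem_T7 hO.coord
      rw [h] at hm
      rw [if_neg (by decide)] at hm
      exact seven_736 _ hm hrn
  -- the sums
  have hAz : A ∈ zset G := mem_zset.2 ⟨hA0, hA11⟩
  have hBz : Bs ⊆ (zset G).erase A := fun ψ hψ =>
    Finset.mem_erase.2 ⟨fun e => hAB (e ▸ hψ), mem_zset.2 ⟨(hBm ψ hψ).2.1, hB11 ψ hψ⟩⟩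
  set sel := (zset G).erase A \ Bs with hsel
  set out := Finset.univ.filter fun χ : IrrCharacter G => χ ≠ τ ∧ 11 ∣ dg χ ∧ ¬ 7 ∣ dg χ ∧ χ ∉ mem7 B7 with hout
  have hself : ∀ χ ∈ sel, χ ≠ τ ∧ ¬ 11 ∣ dg χ ∧ χ ∉ mem5 B5 ∧ χ ∉ mem7 B7 := by
    intro χ hχ
    obtain ⟨h1, h2⟩ := Finset.mem_sdiff.1 hχ
    obtain ⟨h3, h4⟩ := Finset.mem_erase.1 h1
    obtain ⟨h5', h6⟩ := mem_zset.1 h4
    exact ⟨h5', h6, fun h => h3 (hm5 χ h h5' h6), fun h => h2 (hm7 χ h h5' h6)⟩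
  have zsplit : ∀ g : IrrCharacter G → ℤ, ∑ χ ∈ zset G, g χ = g A + ∑ χ ∈ Bs, g χ + ∑ χ ∈ sel, g χ := fun g => by
    rw [← Finset.add_sum_erase _ _ hAz, ← Finset.sum_sdiff hBz, hsel]
    ring
  have hrest : ∀ χ : IrrCharacter G, χ ≠ τ → χ ∉ zset G → χ ∉ out → q χ = (0, 0, 0, 0) := by
    intro χ h0 hz ho
    have h11 : 11 ∣ dg χ := by
      by_contra h
      exact hz (mem_zset.2 ⟨h0, h⟩)
    by_cases hm : χ ∈ mem7 B7
    · exact hq0 χ hm
    have h7' : 7 ∣ dg χ := by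
      by_contra h
      exact ho (Finset.mem_filter.2 ⟨Finset.mem_univ χ, h0, h11, h, hm⟩)
    have hco := (h7 χ hm).coord
    rwa [Coord7, if_pos (Nat.mod_eq_zero_of_dvd h7')] at hco
  have hdisj : Disjoint (zset G) out := Finset.disjoint_left.2 fun χ h1 h2 =>
    (mem_zset.1 h1).2 (Finset.mem_filter.1 h2).2.2.1
  have hτout : τ ∉ zset G ∪ out := by
    rw [Finset.mem_union]
    rintro (h | h)
    · exact (mem_zset.1 h).1 rfl
    · exact (Finset.mem_filter.1 h).2.1 rfl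
  have usplit : ∀ g : IrrCharacter G → ℤ, (∀ χ, q χ = (0, 0, 0, 0) → g χ = 0) →
      ∑ χ, g χ = g τ + ∑ χ ∈ zset G, g χ + ∑ χ ∈ out, g χ := fun g hg => by
    rw [← Finset.sum_subset (Finset.subset_univ (insert τ (zset G ∪ out))) fun χ _ hχ => ?_,
      Finset.sum_insert hτout, Finset.sum_union hdisj, add_assoc]
    simp only [Finset.mem_insert, Finset.mem_union, not_or] at hχ
    exact hg χ (hrest χ hχ.1 hχ.2.1 hχ.2.2)
  have zcol : ∀ c : IrrCharacter G → ℤ, ∑ χ : IrrCharacter G, (χ : G → ℂ) z * (c χ : ℂ) = 0 →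
      c τ + ∑ χ ∈ zset G, sgn (dg χ) * c χ = 0 := fun c h => by
    apply Int.cast_injective (α := ℂ)
    push_cast
    rw [← h, ← Finset.sum_subset (Finset.subset_univ (insert τ (zset G))) fun χ _ hχ => ?_,
      Finset.sum_insert fun e => (mem_zset.1 e).1 rfl, hτ, trivial_value, one_mul]
    · congr 1
      refine Finset.sum_congr rfl fun χ hχ => ?_
      rw [hval χ (mem_zset.1 hχ).1, if_neg (mem_zset.1 hχ).2]
    · simp only [Finset.mem_insert, mem_zset, not_or, not_and, not_not] at hχ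
      rw [hval χ hχ.1, if_pos (hχ.2 hχ.1), zero_mul]
  have hbsum : ∀ (g : IrrCharacter G → ℤ) (v : ℤ), (∀ ψ ∈ Bs, g ψ = v) → ∑ ψ ∈ Bs, g ψ = (Bs.card : ℤ) * v :=
    fun g v h => by rw [Finset.sum_congr rfl h, Finset.sum_const, nsmul_eq_mul]
  -- the final step for each case
  suffices core : ∀ c : Case, CaseOK c → check c 0 22 = true → 1 < c.k → c.r.a = dg A → c.r.b = bd →
      c.r.kb = Bs.card → c.r.rb = rb → c.r.nb = nb → c.r.g7 = q A → (∀ ψ ∈ Bs, (a ψ, T ψ) ∈ c.r.f5) →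
      ∃ χ : IrrCharacter G, dg χ = 23 by
    have hsym : ∀ ψ, a ψ ∈ sym 2 ∧ T ψ ∈ sym 3 := fun ψ => by
      have h1 := hsqa ψ
      have h2 := hsqT ψ
      constructor <;> refine mem_sym ?_ ?_ <;> push_cast <;> nlinarith
    have hok : ∀ ψ ∈ Bs, ok5 bd (a ψ) (T ψ) = true := fun ψ hψ => (hBm ψ hψ).2.2.1 ▸ hok5 ψ (hBn5 ψ hψ)
    rcases hB with ⟨hc1, rfl, rfl, rfl⟩ | ⟨hc2, rfl, rfl, rfl⟩
    · have hf : ∀ ψ ∈ Bs, (a ψ, T ψ) ∈ [((0 : ℤ), (0 : ℤ))] := fun ψ hψ => by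
        obtain ⟨e1, e2⟩ := five_1035 _ (hsym ψ).1 _ (hsym ψ).2 (hok ψ hψ)
        simp [e1, e2]
      rcases hAd with h | h
      · exact core caseA okA checkA (by decide) h.symm rfl hc1.symm rfl rfl (hgA.1 h).symm hf
      · exact core caseC okC checkC (by decide) h.symm rfl hc1.symm rfl rfl (hgA.2 h).symm hf
    · have hf : ∀ ψ ∈ Bs, (a ψ, T ψ) ∈ [((0 : ℤ), (1 : ℤ))] := fun ψ hψ => by
        have h2 : 2 * (a ψ * a ψ) ≤ 5 := by
          rw [show 2 * (a ψ * a ψ) = (Bs.card : ℤ) * (a ψ * a ψ) by rw [hc2]; norm_num,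
            ← hbsum (fun φ => a φ * a φ) _ fun φ hφ => by rw [(hBf φ hφ ψ hψ).1], ← hsa]
          exact Finset.sum_le_sum_of_subset_of_nonneg (Finset.subset_univ _) fun φ _ _ => mul_self_nonneg _
        obtain ⟨e1, e2⟩ := five_276 _ (hsym ψ).1 _ (hsym ψ).2 (hok ψ hψ) h2
        simp [e1, e2]
      rcases hAd with h | h
      · exact core caseB okB checkB (by decide) h.symm rfl hc2.symm rfl rfl (hgA.1 h).symm hf
      · exact core caseD okD checkD (by decide) h.symm rfl hc2.symm rfl rfl (hgA.2 h).symm hf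
  intro c ok hc hk ea eb ekb erb enb eg hf
  obtain ⟨ψ0, hψ0⟩ := Finset.card_pos.1 (show 0 < Bs.card by rcases hB with ⟨h, -⟩ | ⟨h, -⟩ <;> omega)
  set f : ℤ × ℤ := (a ψ0, T ψ0) with hfdef
  let pick : IrrCharacter G → Pick := fun χ => (dg χ, (a χ, T χ), q χ)
  let opick : IrrCharacter G → ℕ × (ℤ × ℤ × ℤ × ℤ) := fun χ => (dg χ, q χ)
  have LS : ∀ g : Pick → ℤ, ((sel.toList.map pick).map g).sum = ∑ χ ∈ sel, g (pick χ) := fun g => by
    rw [List.map_map, Finset.sum_map_toList]; rfl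
  have LO : ∀ g : ℕ × (ℤ × ℤ × ℤ × ℤ) → ℤ, ((out.toList.map opick).map g).sum = ∑ χ ∈ out, g (opick χ) :=
    fun g => by rw [List.map_map, Finset.sum_map_toList]; rfl
  have hlen : (sel.toList.map pick).length = c.k := by
    rw [List.length_map, Finset.length_toList, hsel, Finset.card_sdiff_of_subset hBz,
      Finset.card_erase_of_mem hAz, hZc]
    have := ok.1
    omega
  -- values on the nontrivial degrees prime to eleven
  set w : IrrCharacter G → ℤ := fun χ => if χ = A then 1 else 3 * a χ + T χ with hw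
  set Rf : IrrCharacter G → ℤ := fun χ => if χ ∈ Bs then rb else rr (q χ) with hRf
  set nf : IrrCharacter G → ℤ := fun χ => if χ ∈ Bs then nb else nn (q χ) with hnf
  have hw5 : ∀ χ ∈ zset G, (χ : G → ℂ) S5.u = (w χ : ℂ) := by
    intro χ hχ
    obtain ⟨h0, h11⟩ := mem_zset.1 hχ
    by_cases e : χ = A
    · simp [hw, e, hA1]
    · simp only [hw, if_neg e]
      exact (h5 χ fun h => e (hm5 χ h h0 h11)).1
  have hw7 : ∀ χ ∈ zset G, (χ : G → ℂ) S7.u + conj ((χ : G → ℂ) S7.u) = (Rf χ : ℂ) ∧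
      (χ : G → ℂ) S7.u * conj ((χ : G → ℂ) S7.u) = (nf χ : ℂ) := by
    intro χ hχ
    obtain ⟨h0, h11⟩ := mem_zset.1 hχ
    by_cases e : χ ∈ Bs
    · simp only [hRf, hnf, if_pos e]
      exact (hBm χ e).2.2.2
    · simp only [hRf, hnf, if_neg e]
      exact ⟨(h7 χ fun h => e (hm7 χ h h0 h11)).trace, (h7 χ fun h => e (hm7 χ h h0 h11)).norm⟩
  have hwA : w A = 1 := if_pos rfl
  have hRA : Rf A = rr (q A) := if_neg hAB
  have hnA : nf A = nn (q A) := if_neg hAB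
  have hwB : ∀ ψ ∈ Bs, w ψ = 3 * f.1 + f.2 := fun ψ hψ => by
    simp only [hw, if_neg (fun e : ψ = A => hAB (e ▸ hψ)), hfdef, (hBf ψ hψ ψ0 hψ0).1, (hBf ψ hψ ψ0 hψ0).2]
  have hRB : ∀ ψ ∈ Bs, Rf ψ = rb := fun ψ hψ => if_pos hψ
  have hnB : ∀ ψ ∈ Bs, nf ψ = nb := fun ψ hψ => if_pos hψ
  have hwS : ∀ χ ∈ sel, w χ = 3 * a χ + T χ := fun χ hχ =>
    if_neg fun e : χ = A => (Finset.mem_erase.1 (Finset.mem_sdiff.1 hχ).1).1 e
  have hRS : ∀ χ ∈ sel, Rf χ = rr (q χ) := fun χ hχ => if_neg (Finset.mem_sdiff.1 hχ).2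
  have hnS : ∀ χ ∈ sel, nf χ = nn (q χ) := fun χ hχ => if_neg (Finset.mem_sdiff.1 hχ).2
  have hdB : ∀ ψ ∈ Bs, dg ψ = bd := fun ψ hψ => (hBm ψ hψ).2.2.1
  have hqB : ∀ ψ ∈ Bs, q ψ = (0, 0, 0, 0) := fun ψ hψ => hq0 ψ (hBm ψ hψ).1
  have o1 : orderOf z ∉ ([5, 10, 15] : List ℕ) := by rw [hoz]; decide
  have o2 : orderOf z ∉ ([7, 14, 21] : List ℕ) := by rw [hoz]; decide
  have o3 : orderOf (1 : G) ∉ ([7, 14, 21] : List ℕ) := by rw [orderOf_one]; decide
  have hallow : ∀ x ∈ sel.toList.map pick, Allowed x := by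
    intro x hx
    obtain ⟨χ, hχ, rfl⟩ := List.mem_map.1 hx
    obtain ⟨h0, h11, n5, n7⟩ := hself χ (Finset.mem_toList.1 hχ)
    exact allowed (degOK L.toCounts h0) (fun e => h11 (Nat.dvd_of_mod_eq_zero e)) (hsqa χ) (hsqT χ) (hok5 χ n5)
      (h7 χ n7).coord
  have hallowO : ∀ x ∈ out.toList.map opick, AllowedOut x := by
    intro x hx
    obtain ⟨χ, hχ, rfl⟩ := List.mem_map.1 hx
    obtain ⟨-, h0, h11, n7', n7⟩ := Finset.mem_filter.1 (Finset.mem_toList.1 hχ)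
    exact allowed_out (degOK L.toCounts h0) (Nat.mod_eq_zero_of_dvd h11)
      (fun e => n7' (Nat.dvd_of_mod_eq_zero e)) (h7 χ n7).coord
  suffices E : Eqns c.r f (sel.toList.map pick) (out.toList.map opick) by
    obtain ⟨x, hx, h23⟩ := sound ok hc hk (hf ψ0 hψ0) hlen hallow hallowO E
    obtain ⟨χ, -, rfl⟩ := List.mem_map.1 hx
    exact ⟨χ, h23⟩
  have hqτ : q τ = (0, 0, 0, 0) := hq0 τ hτ7
  have hdτ : dg τ = 1 := dg_trivial
  have hBsub : ∀ g : IrrCharacter G → ℤ, (∀ χ, 0 ≤ g χ) → ∑ χ ∈ Bs, g χ + ∑ χ ∈ sel, g χ ≤ ∑ χ, g χ := by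
    intro g hg
    rw [← Finset.sum_union (Finset.disjoint_sdiff)]
    exact Finset.sum_le_sum_of_subset_of_nonneg (Finset.subset_univ _) fun χ _ _ => hg χ
  refine ⟨?_, ?_, ?_, ?_, ?_, ?_, ?_, ?_, ?_, ?_, ?_, ?_, ?_, ?_, ?_, ?_⟩
  · have h0 := orth0 (g := z) (h := (1 : G)) (by rw [hoz, orderOf_one]; norm_num)
    have h := zcol (fun χ => (dg χ : ℤ)) (by simpa [value_one] using h0)
    rw [zsplit, hbsum _ (sgn bd * (bd : ℤ)) fun ψ hψ => by rw [hdB ψ hψ], hdτ] at h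
    rw [LS, ea, eb, ekb]
    push_cast at h ⊢
    linarith
  · have h : ∑ χ ∈ insert τ (zset G ∪ out), (dg χ : ℤ) * dg χ ≤ 244823040 := sum_sq (G := G) hG ▸
      Finset.sum_le_sum_of_subset_of_nonneg (Finset.subset_univ _) fun χ _ _ => mul_self_nonneg _
    rw [Finset.sum_insert hτout, Finset.sum_union hdisj, zsplit,
      hbsum _ ((bd : ℤ) * bd) fun ψ hψ => by rw [hdB ψ hψ], hdτ] at h
    rw [LS, LO, ea, eb, ekb]
    push_cast at h ⊢
    linarith
  · have h := hBsub (fun χ => a χ * a χ) fun χ => mul_self_nonneg _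
    rw [hsa, hbsum _ (f.1 * f.1) fun ψ hψ => by rw [(hBf ψ hψ ψ0 hψ0).1]] at h
    rw [LS, ekb]
    exact h
  · have h := hBsub (fun χ => T χ * T χ) fun χ => mul_self_nonneg _
    rw [hsT, hbsum _ (f.2 * f.2) fun ψ hψ => by rw [(hBf ψ hψ ψ0 hψ0).2]] at h
    rw [LS, ekb]
    exact h
  · have h := zcol a (hr5 z o1).1
    rw [zsplit, hbsum _ (sgn bd * f.1) fun ψ hψ => by rw [hdB ψ hψ, (hBf ψ hψ ψ0 hψ0).1],
      (ha0 τ hτ5).1, (ha0 A hAmem).1] at h
    rw [LS, ekb, eb]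
    linarith
  · have h := zcol T (hr5 z o1).2
    rw [zsplit, hbsum _ (sgn bd * f.2) fun ψ hψ => by rw [hdB ψ hψ, (hBf ψ hψ ψ0 hψ0).2],
      (ha0 τ hτ5).2, (ha0 A hAmem).2] at h
    rw [LS, ekb, eb]
    linarith
  · have h := usplit (fun χ => (q χ).2.1) fun χ e => by simp [e]
    rw [hs1, zsplit, hbsum _ 0 fun ψ hψ => by simp [hqB ψ hψ]] at h
    rw [LS, LO, eg]
    simp only [hqτ] at h
    simp only [pick, opick]
    omega
  · have h := usplit (fun χ => (q χ).2.2.2) fun χ e => by simp [e]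
    rw [hs2, zsplit, hbsum _ 0 fun ψ hψ => by simp [hqB ψ hψ]] at h
    rw [LS, LO, eg]
    simp only [hqτ] at h
    simp only [pick, opick]
    omega
  · have h := zcol (fun χ => (q χ).1) (hr7 z o2).1
    rw [zsplit, hbsum _ 0 fun ψ hψ => by simp [hqB ψ hψ]] at h
    rw [LS, eg, ea]
    simp only [hqτ] at h
    simp only [pick]
    omega
  · have h := zcol (fun χ => (q χ).2.2.1) (hr7 z o2).2
    rw [zsplit, hbsum _ 0 fun ψ hψ => by simp [hqB ψ hψ]] at h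
    rw [LS, eg, ea]
    simp only [hqτ] at h
    simp only [pick]
    omega
  · have h0 : ∑ χ, (dg χ : ℤ) * (q χ).1 = 0 := by
      apply Int.cast_injective (α := ℂ)
      push_cast
      simpa [value_one] using (hr7 1 o3).1
    rw [usplit (fun χ => (dg χ : ℤ) * (q χ).1) fun χ e => by simp [e], zsplit,
      hbsum _ 0 fun ψ hψ => by simp [hqB ψ hψ]] at h0
    rw [LS, LO, eg, ea]
    simp only [hqτ] at h0
    simp only [pick, opick]
    omega
  · have h0 : ∑ χ, (dg χ : ℤ) * (q χ).2.2.1 = 0 := by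
      apply Int.cast_injective (α := ℂ)
      push_cast
      simpa [value_one] using (hr7 1 o3).2
    rw [usplit (fun χ => (dg χ : ℤ) * (q χ).2.2.1) fun χ e => by simp [e], zsplit,
      hbsum _ 0 fun ψ hψ => by simp [hqB ψ hψ]] at h0
    rw [LS, LO, eg, ea]
    simp only [hqτ] at h0
    simp only [pick, opick]
    omega
  · obtain ⟨K, hK⟩ := count_z L.toCounts hoz hval (x := S5.u) (y := S5.u) S5.cu S5.cu (by norm_num)
    have h : (244823040 : ℤ) + ∑ χ ∈ zset G, wt (dg χ) * (w χ * w χ) = 39600 * (K : ℤ) := by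
      apply Int.cast_injective (α := ℂ)
      push_cast
      rw [← Finset.sum_congr rfl (g := fun χ : IrrCharacter G => (wt (dg χ) : ℂ) * ((w χ : ℂ) * (w χ : ℂ)))
        (f := fun χ : IrrCharacter G => (wt (dg χ) : ℂ) * ((χ : G → ℂ) S5.u * (χ : G → ℂ) S5.u))
        fun χ hχ => by rw [hw5 χ hχ], hK]
      push_cast; ring
    rw [zsplit, hbsum _ (wt bd * ((3 * f.1 + f.2) * (3 * f.1 + f.2))) fun ψ hψ => by rw [hdB ψ hψ, hwB ψ hψ],
      hwA, Finset.sum_congr rfl (s₁ := sel) fun χ hχ => by rw [hwS χ hχ]] at h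
    rw [LS, ea, eb, ekb]
    refine ⟨(K : ℤ), ?_⟩
    simp only [pick]
    linarith
  · have hcu : cn (S7.u)⁻¹ = 42 := L.c7 _ ((orderOf_inv _).trans S7.ou)
    obtain ⟨K, hK⟩ := count_z L.toCounts hoz hval (x := S7.u) (y := S7.u⁻¹) S7.cu hcu (by norm_num)
    have h : (244823040 : ℤ) + ∑ χ ∈ zset G, wt (dg χ) * nf χ = 19404 * (K : ℤ) := by
      apply Int.cast_injective (α := ℂ)
      push_cast
      rw [← Finset.sum_congr rfl (g := fun χ : IrrCharacter G => (wt (dg χ) : ℂ) * (nf χ : ℂ))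
        (f := fun χ : IrrCharacter G => (wt (dg χ) : ℂ) * ((χ : G → ℂ) S7.u * (χ : G → ℂ) S7.u⁻¹))
        fun χ hχ => by rw [irr_apply_inv, (hw7 χ hχ).2], hK]
      push_cast; ring
    rw [zsplit, hbsum _ (wt bd * nb) fun ψ hψ => by rw [hdB ψ hψ, hnB ψ hψ],
      hnA, Finset.sum_congr rfl (s₁ := sel) fun χ hχ => by rw [hnS χ hχ]] at h
    rw [LS, ea, eb, ekb, eg, enb]
    refine ⟨(K : ℤ), ?_⟩
    simp only [pick]
    linarith
  · obtain ⟨K, hK⟩ := count_z L.toCounts hoz hval (x := S7.u) (y := S7.u) S7.cu S7.cu (by norm_num)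
    have hK' := congrArg conj hK
    simp only [map_add, map_sum, map_mul, map_intCast, map_ofNat, map_natCast] at hK'
    have h : (244823040 : ℤ) * 2 + ∑ χ ∈ zset G, wt (dg χ) * (Rf χ * Rf χ - 2 * nf χ) = 38808 * (K : ℤ) := by
      apply Int.cast_injective (α := ℂ)
      push_cast
      rw [← Finset.sum_congr rfl (g := fun χ : IrrCharacter G => (wt (dg χ) : ℂ) * ((Rf χ : ℂ) * (Rf χ : ℂ) -
        2 * (nf χ : ℂ))) (f := fun χ : IrrCharacter G => (wt (dg χ) : ℂ) * ((χ : G → ℂ) S7.u * (χ : G → ℂ) S7.u) +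
        (wt (dg χ) : ℂ) * (conj ((χ : G → ℂ) S7.u) * conj ((χ : G → ℂ) S7.u))) fun χ hχ => by
          rw [← (hw7 χ hχ).1, ← (hw7 χ hχ).2]; ring,
        Finset.sum_add_distrib]
      push_cast at hK hK'
      linear_combination hK + hK'
    rw [zsplit, hbsum _ (wt bd * (rb * rb - 2 * nb)) fun ψ hψ => by rw [hdB ψ hψ, hRB ψ hψ, hnB ψ hψ],
      hRA, hnA, Finset.sum_congr rfl (s₁ := sel) fun χ hχ => by rw [hRS χ hχ, hnS χ hχ]] at h
    rw [LS, ea, eb, ekb, eg, enb, erb]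
    refine ⟨(K : ℤ), ?_⟩
    simp only [pick]
    linarith
  · obtain ⟨K, hK⟩ := count_z L.toCounts hoz hval (x := S5.u) (y := S7.u) S5.cu S7.cu (by norm_num)
    rw [Finset.sum_congr rfl (g := fun χ : IrrCharacter G => (wt (dg χ) : ℂ) * ((w χ : ℂ) * (χ : G → ℂ) S7.u))
      fun χ hχ => by rw [hw5 χ hχ]] at hK
    have hK' := congrArg conj hK
    simp only [map_add, map_sum, map_mul, map_intCast, map_ofNat, map_natCast] at hK'
    have h : (244823040 : ℤ) * 2 + ∑ χ ∈ zset G, wt (dg χ) * w χ * Rf χ = 55440 * (K : ℤ) := by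
      apply Int.cast_injective (α := ℂ)
      push_cast
      rw [← Finset.sum_congr rfl (g := fun χ : IrrCharacter G => (wt (dg χ) : ℂ) * (w χ : ℂ) * (Rf χ : ℂ))
        (f := fun χ : IrrCharacter G => (wt (dg χ) : ℂ) * ((w χ : ℂ) * (χ : G → ℂ) S7.u) +
        (wt (dg χ) : ℂ) * ((w χ : ℂ) * conj ((χ : G → ℂ) S7.u))) fun χ hχ => by
          rw [← (hw7 χ hχ).1]; ring,
        Finset.sum_add_distrib]
      push_cast at hK hK'
      linear_combination hK + hK'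
    rw [zsplit, hbsum _ (wt bd * (3 * f.1 + f.2) * rb) fun ψ hψ => by rw [hdB ψ hψ, hwB ψ hψ, hRB ψ hψ],
      hwA, hRA, Finset.sum_congr rfl (s₁ := sel) fun χ hχ => by rw [hwS χ hχ, hRS χ hχ]] at h
    rw [LS, ea, eb, ekb, eg, erb]
    refine ⟨(K : ℤ), ?_⟩
    simp only [pick]
    linarith

end Cfsg.Agent.Fus.M24Nse
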