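import Cfsg.Agent.Lib.Fus.M24Nse.Rows
import Cfsg.Agent.Lib.Grp.MathieuOrder.Instances
import Cfsg.Agent.Lib.Spor.M24PrimeCent
import Cfsg.Agent.S0364
import Cfsg.Agent.S0365

/-!
Order 244823040 with the element counts of `M₂₄`: the group is simple and has the local data of `M₂₄`.

The number of elements of order `n` is congruent modulo `p` to the number of those commuting with an element of
order `p`; this identifies the values needed, without knowing the counts of `M₂₄` themselves.
-/

set_option autoImplicit false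
set_option linter.style.haveILetI false
set_option linter.unusedSectionVars false

namespace Cfsg.Agent.Fus.M24Nse

open scoped Pointwise
open Cfsg Cfsg.Agent.Block
open Cfsg.Agent.Invol.M12Ord (ocnt ocnt_sylow cn)
open Cfsg.Agent.Invol.M22Ord (exists_gen)
open Cfsg.Agent.Spor.M24PrimeCent (cnum)

universe u

section General

variable {G : Type u} [Group G] [Finite G] {p q : ℕ}

/-- Conjugation by an element of prime order `p` on the elements of order `n`. -/
theorem ocnt_modEq [hp : Fact p.Prime] {x : G} (hx : orderOf x = p) (n : ℕ) : ocnt G n ≡ cnum x n [MOD p] := by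
  classical
  letI : MulAction (Subgroup.zpowers x) {g : G // orderOf g = n} :=
    { smul := fun a g => ⟨(a : G) * g * (a : G)⁻¹, ((MulAut.conj (a : G)).orderOf_eq g).trans g.2⟩
      one_smul := fun g => Subtype.ext (show (1 : G) * g * (1 : G)⁻¹ = g by group)
      mul_smul := fun a b g => Subtype.ext (show (a : G) * b * g * ((a : G) * b)⁻¹ =
        (a : G) * ((b : G) * g * (b : G)⁻¹) * (a : G)⁻¹ by group) }
  have hA : IsPGroup p (Subgroup.zpowers x) :=
    IsPGroup.of_card (n := 1) (by rw [Nat.card_zpowers, hx, pow_one])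
  refine (hA.card_modEq_card_fixedPoints {g : G // orderOf g = n}).trans ?_
  refine congrArg (· % p) (Nat.card_congr ⟨fun g => ⟨g.1.1, ?_, g.1.2⟩, fun g => ⟨⟨g.1, g.2.2⟩, ?_⟩,
    fun _ => rfl, fun _ => rfl⟩)
  · exact mul_inv_eq_iff_eq_mul.1 (congrArg Subtype.val (g.2 ⟨x, Subgroup.mem_zpowers x⟩))
  · rintro ⟨a, ha⟩
    obtain ⟨i, rfl⟩ := Subgroup.mem_zpowers_iff.1 ha
    refine Subtype.ext (show x ^ i * g.1 * (x ^ i)⁻¹ = g.1 from ?_)
    rw [((show Commute x g.1 from g.2.1).zpow_left i).eq, mul_inv_cancel_right]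

/-- The centralizer as a set of elements. -/
theorem cn_eq (x : G) : cn x = Nat.card {g : G // x * g = g * x} :=
  Nat.card_congr (Equiv.subtypeEquivRight fun _ =>
    (Subgroup.mem_centralizer_singleton_iff).trans ⟨Eq.symm, Eq.symm⟩)

/-- The elements of a given order in a centralizer. -/
theorem cnum_eq (x : G) (n : ℕ) : cnum x n = ocnt (Subgroup.centralizer ({x} : Set G)) n :=
  Nat.card_congr
    ⟨fun g => ⟨⟨g.1, Subgroup.mem_centralizer_singleton_iff.2 g.2.1.symm⟩,
        (Subgroup.orderOf_coe _).symm.trans g.2.2⟩,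
      fun g => ⟨g.1.1, (Subgroup.mem_centralizer_singleton_iff.1 g.1.2).symm,
        (Subgroup.orderOf_coe _).trans g.2⟩, fun _ => rfl, fun _ => rfl⟩

/-- All elements of order `p` have alike centralizers when `p` divides the order once. -/
theorem same_cent [hp : Fact p.Prime] (h1 : (Nat.card G).factorization p = 1) {x y : G} (hx : orderOf x = p)
    (hy : orderOf y = p) : cn y = cn x ∧ ∀ n, cnum y n = cnum x n := by
  have hc : ∀ z : G, orderOf z = p → Nat.card (Subgroup.zpowers z) = p ^ (Nat.card G).factorization p :=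
    fun z hz => by rw [Nat.card_zpowers, hz, h1, pow_one]
  obtain ⟨k, hk⟩ := MulAction.exists_smul_eq G (Sylow.ofCard (Subgroup.zpowers x) (hc x hx))
    (Sylow.ofCard (Subgroup.zpowers y) (hc y hy))
  have hmap : Subgroup.zpowers y = (Subgroup.zpowers x).map (MulAut.conj k).toMonoidHom :=
    (congrArg Sylow.toSubgroup hk).symm
  have hiff : ∀ g : G, y * (MulAut.conj k g) = MulAut.conj k g * y ↔ x * g = g * x := by
    intro g
    constructor
    · intro h
      obtain ⟨i, hi⟩ := Subgroup.mem_zpowers_iff.1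
        (show MulAut.conj k x ∈ Subgroup.zpowers y by rw [hmap]; exact Subgroup.mem_map_of_mem _ (Subgroup.mem_zpowers x))
      refine (MulAut.conj k).injective ?_
      rw [map_mul, map_mul, ← hi]
      exact ((show Commute y _ from h).zpow_left i).eq
    · intro h
      obtain ⟨z, hz, hzy⟩ : y ∈ (Subgroup.zpowers x).map (MulAut.conj k).toMonoidHom := by
        rw [← hmap]; exact Subgroup.mem_zpowers y
      obtain ⟨i, rfl⟩ := Subgroup.mem_zpowers_iff.1 hz
      rw [← hzy]
      show MulAut.conj k (x ^ i) * MulAut.conj k g = MulAut.conj k g * MulAut.conj k (x ^ i)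
      rw [← map_mul, ← map_mul, ((show Commute x g from h).zpow_left i).eq]
  refine ⟨?_, fun n => ?_⟩
  · rw [cn_eq, cn_eq]
    exact (Nat.card_congr ((MulAut.conj k).toEquiv.subtypeEquiv fun g => (hiff g).symm)).symm
  · refine (Nat.card_congr ((MulAut.conj k).toEquiv.subtypeEquiv fun g => ?_)).symm
    rw [MulEquiv.toEquiv_eq_coe, EquivLike.coe_coe, hiff g, MulEquiv.orderOf_eq]

/-- A self-centralizing element. -/
theorem self_of_cn {x g : G} (hc : cn x = orderOf x) (h : g * x = x * g) : g ∈ Subgroup.zpowers x := by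
  have he : Subgroup.zpowers x = Subgroup.centralizer ({x} : Set G) :=
    Subgroup.eq_of_le_of_card_ge (Subgroup.zpowers_le.2 (Subgroup.mem_centralizer_singleton_iff.2 rfl))
      (le_of_eq (hc.trans (Nat.card_zpowers x).symm))
  rw [he]
  exact Subgroup.mem_centralizer_singleton_iff.2 h

/-- Inversion pairs off the elements of order at least three. -/
theorem two_dvd_inv (s : Finset G) (hs : ∀ g ∈ s, g⁻¹ ∈ s ∧ g⁻¹ ≠ g) : 2 ∣ s.card := by
  refine (ZMod.natCast_eq_zero_iff _ _).1 ?_
  rw [Finset.card_eq_sum_ones, Nat.cast_sum]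
  exact Finset.sum_involution (fun g _ => g⁻¹) (fun g _ => by simp; decide) (fun g hg _ => (hs g hg).2)
    (fun g hg => (hs g hg).1) fun g _ => inv_inv g

theorem two_dvd_ocnt {n : ℕ} (h1 : n ≠ 1) (h2 : n ≠ 2) : 2 ∣ ocnt G n := by
  classical
  haveI := Fintype.ofFinite G
  rw [ocnt, Nat.card_eq_fintype_card, Fintype.card_subtype]
  refine two_dvd_inv _ fun g hg => ?_
  rw [Finset.mem_filter] at hg
  refine ⟨Finset.mem_filter.2 ⟨Finset.mem_univ _, (orderOf_inv g).trans hg.2⟩, fun e => ?_⟩
  have hd : orderOf g ∣ 2 := orderOf_dvd_of_pow_eq_one (by rw [sq]; nth_rw 1 [← e]; exact inv_mul_cancel g)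
  rcases (Nat.dvd_prime Nat.prime_two).1 hd with h | h <;> omega

/-- The number of involutions of a group of even order is odd. -/
theorem ocnt_two_odd (h2 : 2 ∣ Nat.card G) : ocnt G 2 % 2 = 1 := by
  classical
  haveI := Fintype.ofFinite G
  have hc : (Finset.univ.filter fun g : G => g ^ 2 = 1) = insert 1 (Finset.univ.filter fun g => orderOf g = 2) := by
    ext g
    simp only [Finset.mem_filter, Finset.mem_univ, true_and, Finset.mem_insert]
    refine ⟨fun h => ?_, ?_⟩
    · rcases (Nat.dvd_prime Nat.prime_two).1 (orderOf_dvd_of_pow_eq_one h) with h | h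
      exacts [Or.inl (orderOf_eq_one_iff.1 h), Or.inr h]
    · rintro (rfl | h)
      exacts [one_pow 2, h ▸ pow_orderOf_eq_one g]
  have hev : 2 ∣ (Finset.univ.filter fun g : G => ¬ g ^ 2 = 1).card := two_dvd_inv _ fun g hg => by
    simp only [Finset.mem_filter, Finset.mem_univ, true_and] at hg ⊢
    exact ⟨fun h => hg (inv_eq_one.1 ((inv_pow g 2).symm.trans h)),
      fun e => hg (by rw [sq]; nth_rw 1 [← e]; exact inv_mul_cancel g)⟩
  have h := Finset.card_filter_add_card_filter_not (s := (Finset.univ : Finset G)) (fun g => g ^ 2 = 1)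
  rw [hc, Finset.card_insert_of_notMem (by simp), Finset.card_univ, ← Nat.card_eq_fintype_card] at h
  rw [ocnt, Nat.card_eq_fintype_card, Fintype.card_subtype]
  omega

/-- With a central element `z` of prime order, the number of Sylow subgroups divides what is left. -/
theorem sylow_central [hp : Fact p.Prime] [hq : Fact q.Prime] (hpq : p ≠ q) {z : G} (hz : ∀ g, z * g = g * z)
    (hzo : orderOf z = p) (h1 : (Nat.card G).factorization q = 1) :
    ∃ d, Nat.card (Sylow q G) * (p * q * d) = Nat.card G := by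
  obtain ⟨Q⟩ : Nonempty (Sylow q G) := inferInstance
  set N := Subgroup.normalizer ((Q : Subgroup G) : Set G)
  have hzN : z ∈ N := Subgroup.mem_normalizer_iff.2 fun h => by rw [hz h, mul_inv_cancel_right]
  have hdp : p ∣ Nat.card N := hzo ▸ Subgroup.orderOf_dvd_natCard _ hzN
  have hdq : q ∣ Nat.card N := by
    have h := Subgroup.card_dvd_of_le (Subgroup.le_normalizer (H := (Q : Subgroup G)))
    rwa [show Nat.card (Q : Subgroup G) = q by rw [Q.card_eq_multiplicity, h1, pow_one]] at h
  obtain ⟨d, hd⟩ := ((Nat.coprime_primes hp.out hq.out).2 hpq).mul_dvd_of_dvd_of_dvd hdp hdq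
  exact ⟨d, by rw [Q.card_eq_index_normalizer, ← hd, mul_comm]; exact N.card_mul_index⟩

/-- With `p` once in the order and a central element of order `p`, the elements of order `p` are central. -/
theorem central_ord [hp : Fact p.Prime] {z : G} (hz : ∀ g, z * g = g * z) (hzo : orderOf z = p)
    (h1 : (Nat.card G).factorization p = 1) :
    Nat.card (Sylow p G) = 1 ∧ ∀ a : G, orderOf a = p → ∀ g, a * g = g * a := by
  haveI : (Subgroup.zpowers z).Normal := ⟨fun a ha g => by
    obtain ⟨i, rfl⟩ := Subgroup.mem_zpowers_iff.1 ha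
    rw [← ((show Commute z g from hz g).zpow_left i).eq, mul_inv_cancel_right]
    exact ha⟩
  set Q : Sylow p G := Sylow.ofCard (Subgroup.zpowers z) (by rw [Nat.card_zpowers, hzo, h1, pow_one]) with hQ
  haveI : (Q : Subgroup G).Normal := ‹(Subgroup.zpowers z).Normal›
  haveI := Sylow.unique_of_normal Q inferInstance
  refine ⟨Nat.card_unique, fun a ha g => ?_⟩
  obtain ⟨R, hR⟩ := (IsPGroup.of_card (n := 1) (by rw [Nat.card_zpowers, ha, pow_one]) :
    IsPGroup p (Subgroup.zpowers a)).exists_le_sylow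
  rw [Subsingleton.elim R Q] at hR
  obtain ⟨i, hi⟩ := Subgroup.mem_zpowers_iff.1 (show a ∈ Subgroup.zpowers z from hR (Subgroup.mem_zpowers a))
  rw [← hi]
  exact ((show Commute z g from hz g).zpow_left i).eq

theorem pow_eq_self {n a : ℕ} {u : G} (ho : orderOf u = n) (h : a % n = 1 % n) : u ^ a = u := by
  subst ho
  rw [← pow_mod_orderOf, h, pow_mod_orderOf, pow_one]

/-- Elements of order `p * m` as products. -/
theorem ocnt_mul {m a b : ℕ} (hpm : p.Coprime m) (hc : ∀ u : G, orderOf u = p → ∀ g, u * g = g * u)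
    (ha : (p * m) / (p * m).gcd a = p) (hb : (p * m) / (p * m).gcd b = m) (hap : a % p = 1 % p) (ham : m ∣ a)
    (hbm : b % m = 1 % m) (hbp : p ∣ b) (hab : (a + b) % (p * m) = 1 % (p * m)) :
    ocnt G (p * m) = ocnt G p * ocnt G m := by
  rw [ocnt, ocnt, ocnt, ← Nat.card_prod]
  refine Nat.card_congr
    { toFun := fun h => (⟨h.1 ^ a, by rw [orderOf_pow, h.2, ha]⟩, ⟨h.1 ^ b, by rw [orderOf_pow, h.2, hb]⟩)
      invFun := fun t => ⟨t.1.1 * t.2.1, ?_⟩
      left_inv := fun h => Subtype.ext ?_
      right_inv := fun t => ?_ }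
  · rw [(show Commute t.1.1 t.2.1 from hc _ t.1.2 _).orderOf_mul_eq_mul_orderOf_of_coprime (by rw [t.1.2, t.2.2]; exact hpm),
      t.1.2, t.2.2]
  · show h.1 ^ a * h.1 ^ b = h.1
    rw [← pow_add]
    exact pow_eq_self h.2 hab
  · have hcm : Commute t.1.1 t.2.1 := hc _ t.1.2 _
    have e1 : t.1.1 ^ a = t.1.1 := pow_eq_self t.1.2 hap
    have e2 : t.2.1 ^ a = 1 := orderOf_dvd_iff_pow_eq_one.1 (t.2.2.symm ▸ ham)
    have e3 : t.1.1 ^ b = 1 := orderOf_dvd_iff_pow_eq_one.1 (t.1.2.symm ▸ hbp)
    have e4 : t.2.1 ^ b = t.2.1 := pow_eq_self t.2.2 hbm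
    refine Prod.ext (Subtype.ext ?_) (Subtype.ext ?_)
    · show (t.1.1 * t.2.1) ^ a = t.1.1
      rw [hcm.mul_pow, e1, e2, mul_one]
    · show (t.1.1 * t.2.1) ^ b = t.2.1
      rw [hcm.mul_pow, e3, e4, one_mul]

/-- Elements of distinct orders are distinct. -/
theorem sum_ocnt_le (s : Finset ℕ) : ∑ n ∈ s, ocnt G n ≤ Nat.card G := by
  rw [← Finset.sum_coe_sort, ← Nat.card_sigma]
  refine Nat.card_le_card_of_injective (fun t : Σ n : s, {g : G // orderOf g = (n : ℕ)} => t.2.1) ?_
  rintro ⟨⟨n, hn⟩, g, hg⟩ ⟨⟨m, hm⟩, h, hh⟩ e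
  simp only at e hg hh
  subst e
  obtain rfl : n = m := hg.symm.trans hh
  rfl

/-- The centralizer of a Sylow subgroup inside its normalizer. -/
theorem cent_mul_relIndex (P : Subgroup G) : Nat.card (Subgroup.centralizer (P : Set G)) *
    (Subgroup.centralizer (P : Set G)).relIndex (Subgroup.normalizer (P : Set G)) =
      Nat.card (Subgroup.normalizer (P : Set G)) := by
  rw [Subgroup.relIndex, ← Subgroup.card_mul_index
      ((Subgroup.centralizer (P : Set G)).subgroupOf (Subgroup.normalizer (P : Set G))),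
    Nat.card_congr (Subgroup.subgroupOfEquivOfLe (Subgroup.centralizer_le_normalizer _)).toEquiv]

theorem norm_mul_count [Fact p.Prime] (P : Sylow p G) :
    Nat.card (Subgroup.normalizer ((P : Subgroup G) : Set G)) * Nat.card (Sylow p G) = Nat.card G := by
  rw [P.card_eq_index_normalizer]
  exact (Subgroup.normalizer ((P : Subgroup G) : Set G)).card_mul_index

/-- An element of order `p`, its centralizer and the normalizer of the subgroup it generates. -/
theorem local_shape [IsSimpleGroup G] (hna : ¬ IsMulCommutative G) [hp : Fact p.Prime] {m : ℕ} (hG : Nat.card G = p * m)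
    (hpm : ¬ p ∣ m) {x : G} (hx : orderOf x = p) :
    ∃ (P : Sylow p G) (c f : ℕ), (P : Subgroup G) = Subgroup.zpowers x ∧ cn x = p * c ∧ 1 < f ∧ f ∣ p - 1 ∧
      p * (c * f) = Nat.card (Subgroup.normalizer ((P : Subgroup G) : Set G)) ∧
      Nat.card (Sylow p G) * (c * f) = m := by
  obtain ⟨P, hP⟩ := (IsPGroup.of_card (n := 1) (by rw [Nat.card_zpowers, hx, pow_one]) :
    IsPGroup p (Subgroup.zpowers x)).exists_le_sylow
  have he : Subgroup.zpowers x = (P : Subgroup G) :=
    Subgroup.eq_of_le_of_card_ge hP (by rw [Nat.card_zpowers, hx]; exact (OrdP.card_sylow_eq hG hpm P).le)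
  obtain ⟨f, k, -, -, hf, hf1, hfp, ⟨c, hc⟩, -⟩ := OrdP.exists_e hna hG hpm P
  have hN := cent_mul_relIndex (P : Subgroup G)
  rw [hf, hc, mul_assoc] at hN
  refine ⟨P, c, f, he.symm, ?_, hf1, hfp, hN, ?_⟩
  · show Nat.card (Subgroup.centralizer ({x} : Set G)) = _
    rw [← Subgroup.centralizer_closure, ← Subgroup.zpowers_eq_closure, he, hc]
  · refine Nat.eq_of_mul_eq_mul_left hp.out.pos ?_
    rw [← hG, ← norm_mul_count P, ← hN]
    ring

end General

set_option quotPrecheck false in
local notation "M" => ↥Cfsg.M24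

theorem card_M : Nat.card M = 244823040 := S0364.result

theorem fact_of {n p m : ℕ} [Fact p.Prime] (h : n = p * m) (hpm : ¬ p ∣ m) : n.factorization p = 1 := by
  rw [h]
  exact Grp.MathieuOrder.fact_one hpm

theorem facts5 : ∃ x : M, orderOf x = 5 ∧ cn x = 60 ∧
    (∀ n, (ocnt M n % 5 = 4 → n = 5) ∧ (ocnt M n % 5 = 3 → n = 2 ∨ n = 3)) ∧ ocnt M 2 % 5 = 3 := by
  haveI : Fact (Nat.Prime 5) := ⟨by norm_num⟩
  obtain ⟨x, hx, hc, ht, hn⟩ :=
    Spor.M24PrimeCent.card_commute Spor.M24PrimeCent.check5 (by norm_num) Spor.M24PrimeCent.nodup5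
  refine ⟨x, hx, (cn_eq x).trans hc, fun n => ?_, ?_⟩
  · have h := ocnt_modEq hx n
    rw [Nat.ModEq] at h
    by_cases h0 : cnum x n = 0
    · rw [h0] at h; omega
    · obtain ⟨t, htm, rfl⟩ := hn n h0
      rw [ht t htm] at h
      simp only [List.mem_cons, List.not_mem_nil, or_false] at htm
      rcases htm with rfl | rfl | rfl | rfl | rfl | rfl <;> simp at h ⊢ <;> omega
  · have e : cnum x 2 = 3 := ht (2, 3) (by simp)
    rw [show _ % _ = _ % _ from ocnt_modEq hx 2, e]

theorem facts7 : (∀ n, ocnt M n % 7 = 6 → n = 7) ∧ ocnt M 2 % 7 = 3 ∧ ocnt M 3 % 7 = 2 := by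
  haveI : Fact (Nat.Prime 7) := ⟨by norm_num⟩
  obtain ⟨x, hx, -, ht, hn⟩ :=
    Spor.M24PrimeCent.card_commute Spor.M24PrimeCent.check7 (by norm_num) Spor.M24PrimeCent.nodup7
  refine ⟨fun n h6 => ?_, ?_, ?_⟩
  · have h := ocnt_modEq hx n
    rw [Nat.ModEq, h6] at h
    by_cases h0 : cnum x n = 0
    · rw [h0] at h; omega
    · obtain ⟨t, htm, rfl⟩ := hn n h0
      rw [ht t htm] at h
      simp only [List.mem_cons, List.not_mem_nil, or_false] at htm
      rcases htm with rfl | rfl | rfl | rfl | rfl | rfl <;> simp at h ⊢ <;> omega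
  · have e : cnum x 2 = 3 := ht (2, 3) (by simp)
    rw [show _ % _ = _ % _ from ocnt_modEq hx 2, e]
  · have e : cnum x 3 = 2 := ht (3, 2) (by simp)
    rw [show _ % _ = _ % _ from ocnt_modEq hx 3, e]

theorem facts11 : (∀ y g : M, orderOf y = 11 → g * y = y * g → g ∈ Subgroup.zpowers y) ∧
    ocnt M 2 % 11 = 0 := by
  haveI : Fact (Nat.Prime 11) := ⟨by norm_num⟩
  obtain ⟨x, hx, hc, -, hn⟩ :=
    Spor.M24PrimeCent.card_commute Spor.M24PrimeCent.check11 (by norm_num) Spor.M24PrimeCent.nodup11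
  refine ⟨fun y g hy h => self_of_cn ?_ h, ?_⟩
  · rw [hy, (same_cent (fact_of (m := 22256640) (card_M.trans (by norm_num)) (by norm_num)) hx hy).1, cn_eq, hc]
  · rw [show _ % _ = _ % _ from ocnt_modEq hx 2]
    by_contra h0
    obtain ⟨t, htm, e⟩ := hn 2 fun e => h0 (by rw [e])
    simp only [List.mem_cons, List.not_mem_nil, or_false] at htm
    rcases htm with rfl | rfl <;> simp at e

section Main

variable {G : Type u} [Group G] [Finite G]

/-- The counts of the group are counts of `M₂₄`. -/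
theorem value_mem (hnse : {c : ℕ | 0 < c ∧ ∃ n : ℕ, c = Nat.card {g : G // orderOf g = n}} =
    {c : ℕ | 0 < c ∧ ∃ n : ℕ, c = Nat.card {g : M // orderOf g = n}}) {n : ℕ} (h : ocnt G n ≠ 0) :
    ∃ k, ocnt G n = ocnt M k := by
  have hmem : ocnt G n ∈ {c : ℕ | 0 < c ∧ ∃ n : ℕ, c = Nat.card {g : G // orderOf g = n}} :=
    ⟨Nat.pos_of_ne_zero h, n, rfl⟩
  rw [hnse] at hmem
  exact hmem.2

theorem exists_local (hcard : Nat.card G = Nat.card M)
    (hnse : {c : ℕ | 0 < c ∧ ∃ n : ℕ, c = Nat.card {g : G // orderOf g = n}} =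
      {c : ℕ | 0 < c ∧ ∃ n : ℕ, c = Nat.card {g : M // orderOf g = n}}) :
    IsSimpleGroup G ∧ Local G := by
  classical
  haveI : Fact (Nat.Prime 2) := ⟨Nat.prime_two⟩
  haveI : Fact (Nat.Prime 3) := ⟨Nat.prime_three⟩
  haveI : Fact (Nat.Prime 5) := ⟨by norm_num⟩
  haveI : Fact (Nat.Prime 7) := ⟨by norm_num⟩
  haveI : Fact (Nat.Prime 11) := ⟨by norm_num⟩
  haveI : Fact (Nat.Prime 23) := ⟨by norm_num⟩
  haveI hsimple : IsSimpleGroup G := (Grp.MathieuOrder.simple_of_nse24 hcard hnse).1
  refine ⟨hsimple, ?_⟩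
  have hG : Nat.card G = 244823040 := hcard.trans card_M
  have hna := not_comm hG
  haveI : IsSimpleGroup M := S0365.result
  have hnaM := not_comm (G := M) card_M
  obtain ⟨x5, hx5, hc5, h5M, h52⟩ := facts5
  obtain ⟨h7M, h72, h73⟩ := facts7
  obtain ⟨hself, h112⟩ := facts11
  have hG5 : Nat.card G = 5 * 48964608 := hG.trans (by norm_num)
  have hG7 : Nat.card G = 7 * 34974720 := hG.trans (by norm_num)
  have hG11 : Nat.card G = 11 * 22256640 := hG.trans (by norm_num)
  have hG23 : Nat.card G = 23 * 10644480 := hG.trans (by norm_num)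
  have hM5 : Nat.card M = 5 * 48964608 := card_M.trans (by norm_num)
  have hM11 : Nat.card M = 11 * 22256640 := card_M.trans (by norm_num)
  have hM23 : Nat.card M = 23 * 10644480 := card_M.trans (by norm_num)
  -- involutions
  have h2 : ocnt G 2 = ocnt M 2 := by
    have hodd := ocnt_two_odd (G := G) (by rw [hG]; norm_num)
    obtain ⟨k, hk⟩ := value_mem hnse (n := 2) (by omega)
    rcases eq_or_ne k 2 with rfl | hk2
    · exact hk
    rcases eq_or_ne k 1 with rfl | hk1
    · exfalso
      have e1 : ocnt M 1 = 1 := by simp [ocnt, orderOf_eq_one_iff]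
      rw [e1] at hk
      obtain ⟨x, hx⟩ := exists_prime_orderOf_dvd_card' (G := G) 11 (by rw [hG]; norm_num)
      obtain ⟨t, ht⟩ := exists_prime_orderOf_dvd_card' (G := G) 2 (by rw [hG]; norm_num)
      have hcent : t ∈ Subgroup.center G := Subgroup.mem_center_iff.2 fun g => by
        have hg : orderOf (g * t * g⁻¹) = 2 := ((MulAut.conj g).orderOf_eq t).trans ht
        haveI := (Nat.card_eq_one_iff_unique.1 hk).1
        have := Subsingleton.elim (⟨_, hg⟩ : {a : G // orderOf a = 2}) ⟨t, ht⟩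
        exact mul_inv_eq_iff_eq_mul.1 (congrArg Subtype.val this)
      rcases IsSimpleGroup.eq_bot_or_eq_top_of_normal (Subgroup.center G) inferInstance with hb | htop
      · rw [hb, Subgroup.mem_bot] at hcent
        rw [hcent, orderOf_one] at ht
        omega
      · exact hna ⟨⟨fun a b => (Subgroup.mem_center_iff.1 (htop ▸ Subgroup.mem_top a) b).symm⟩⟩
    · have := two_dvd_ocnt (G := M) hk1 hk2
      omega
  -- the numbers of Sylow subgroups
  have hn5 : Nat.card (Sylow 5 G) = Nat.card (Sylow 5 M) := by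
    have e := ocnt_sylow (fact_of hG5 (by norm_num))
    have eM := ocnt_sylow (fact_of hM5 (by norm_num))
    have h1 := card_sylow_modEq_one 5 G
    rw [Nat.ModEq] at h1
    obtain ⟨k, hk⟩ := value_mem hnse (n := 5) (by omega)
    obtain rfl := (h5M k).1 (by omega)
    omega
  have hn7 : Nat.card (Sylow 7 G) = Nat.card (Sylow 7 M) := by
    have e := ocnt_sylow (fact_of hG7 (by norm_num))
    have eM := ocnt_sylow (G := M) (fact_of (m := 34974720) (card_M.trans (by norm_num)) (p := 7) (by norm_num))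
    have h1 := card_sylow_modEq_one 7 G
    rw [Nat.ModEq] at h1
    obtain ⟨k, hk⟩ := value_mem hnse (n := 7) (by omega)
    obtain rfl := h7M k (by omega)
    omega
  have hn11 : Nat.card (Sylow 11 G) * 10 = 22256640 := by
    rw [Grp.MathieuOrder.count_of_nse (by norm_num) hG11 (by norm_num) hM11 hself hnse]
    exact Grp.MathieuOrder.sylow_count hM11 (by norm_num) hself (by decide +kernel)
  have hn23 : Nat.card (Sylow 23 G) * 11 = 10644480 := by
    rw [Grp.MathieuOrder.count_of_nse (by norm_num) hG23 (by norm_num) hM23 Grp.MathieuOrder.self_perm hnse]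
    exact Grp.MathieuOrder.sylow_count hM23 (by norm_num) Grp.MathieuOrder.self_perm (by decide +kernel)
  have hn5' : Nat.card (Sylow 5 G) = 1020096 := by
    obtain ⟨P, c, f, -, hc, hf1, hfp, -, hn⟩ := local_shape hnaM hM5 (by norm_num) hx5
    rw [hc5] at hc
    have h1 := card_sylow_modEq_one 5 M
    rw [Nat.ModEq] at h1
    obtain rfl : c = 12 := by omega
    have hf : f ∈ Nat.divisors (5 - 1) := Nat.mem_divisors.2 ⟨hfp, by norm_num⟩
    rw [show Nat.divisors (5 - 1) = {1, 2, 4} by decide +kernel] at hf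
    simp only [Finset.mem_insert, Finset.mem_singleton] at hf
    rcases hf with rfl | rfl | rfl <;> omega
  have hn7' : Nat.card (Sylow 7 G) = 1943040 := by
    obtain ⟨P⟩ : Nonempty (Sylow 7 M) := inferInstance
    have hPc := OrdP.card_sylow_eq (p := 7) (m := 34974720) (card_M.trans (by norm_num)) (by norm_num) P
    have h := norm_mul_count P
    rw [(Spor.M24Seven.seven _ hPc).1, card_M] at h
    omega
  have n5 : ∀ P : Sylow 5 G, Nat.card (Subgroup.normalizer ((P : Subgroup G) : Set G)) = 240 := fun P => by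
    have h := norm_mul_count P
    rw [hn5', hG] at h
    omega
  -- the centralizers at 23, 11 and 7
  have c23 : ∀ x : G, orderOf x = 23 → cn x = 23 := fun x hx => by
    obtain ⟨P, c, f, -, hc, hf1, hfp, -, hn⟩ := local_shape hna hG23 (by norm_num) hx
    have hcf : c * f = 11 := by
      rw [← hn23] at hn
      exact Nat.eq_of_mul_eq_mul_left Nat.card_pos hn
    rcases (Nat.dvd_prime (by norm_num : Nat.Prime 11)).1 (Dvd.intro c (by rw [mul_comm]; exact hcf)) with h | h
    · omega
    · rw [h] at hcf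
      rw [hc, show c = 1 by omega]
  have c11 : ∀ x : G, orderOf x = 11 → cn x = 11 := fun x hx => by
    obtain ⟨P, c, f, -, hc, hf1, hfp, -, hn⟩ := local_shape hna hG11 (by norm_num) hx
    have hcf : c * f = 10 := by
      rw [← hn11] at hn
      exact Nat.eq_of_mul_eq_mul_left Nat.card_pos hn
    obtain rfl | rfl | rfl : c = 1 ∨ c = 2 ∨ c = 5 := by
      have hc' : c ∈ Nat.divisors 10 := Nat.mem_divisors.2 ⟨Dvd.intro f hcf, by norm_num⟩
      rw [show Nat.divisors 10 = {1, 2, 5, 10} by decide +kernel] at hc'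
      simp only [Finset.mem_insert, Finset.mem_singleton] at hc'
      rcases hc' with rfl | rfl | rfl | rfl <;> omega
    · exact hc
    · exfalso
      have hz : ∀ g : Subgroup.centralizer ({x} : Set G),
          (⟨x, Subgroup.mem_centralizer_singleton_iff.2 rfl⟩ : Subgroup.centralizer ({x} : Set G)) * g =
            g * ⟨x, Subgroup.mem_centralizer_singleton_iff.2 rfl⟩ :=
        fun g => Subtype.ext (Subgroup.mem_centralizer_singleton_iff.1 g.2).symm
      have hf2 : (Nat.card (Subgroup.centralizer ({x} : Set G))).factorization 2 = 1 :=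
        fact_of (m := 11) (hc.trans (by norm_num)) (by norm_num)
      obtain ⟨d, hd⟩ := sylow_central (p := 11) (q := 2) (by norm_num) hz
        ((Subgroup.orderOf_coe _).symm.trans hx) hf2
      rw [show Nat.card (Subgroup.centralizer ({x} : Set G)) = 22 from hc] at hd
      have hs : Nat.card (Sylow 2 (Subgroup.centralizer ({x} : Set G))) = 1 :=
        Nat.eq_one_of_mul_eq_one_right (n := d) (by nlinarith)
      have e := ocnt_modEq hx 2
      rw [Nat.ModEq, h2, h112, cnum_eq, ocnt_sylow hf2, hs] at e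
      norm_num at e
    · exfalso
      obtain ⟨⟨y, hyC⟩, hy⟩ := exists_prime_orderOf_dvd_card' (G := Subgroup.centralizer ({x} : Set G)) 5
        (by show 5 ∣ cn x; rw [hc]; norm_num)
      rw [← Subgroup.orderOf_coe] at hy
      obtain ⟨Q, hQ⟩ := (IsPGroup.of_card (n := 1) (by rw [Nat.card_zpowers, hy, pow_one]) :
        IsPGroup 5 (Subgroup.zpowers y)).exists_le_sylow
      have he : Subgroup.zpowers y = (Q : Subgroup G) := Subgroup.eq_of_le_of_card_ge hQ
        (by rw [Nat.card_zpowers, hy]; exact (OrdP.card_sylow_eq hG5 (by norm_num) Q).le)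
      have hxC : x ∈ Subgroup.centralizer ((Q : Subgroup G) : Set G) := by
        rw [← he, Subgroup.zpowers_eq_closure, Subgroup.centralizer_closure,
          Subgroup.mem_centralizer_singleton_iff]
        exact (Subgroup.mem_centralizer_singleton_iff.1 hyC).symm
      have h := Subgroup.orderOf_dvd_natCard _ (Subgroup.centralizer_le_normalizer _ hxC)
      rw [n5 Q, hx] at h
      norm_num at h
  have c7all : ∀ x : G, orderOf x = 7 → cn x = 42 ∧ cnum x 2 = 3 ∧ cnum x 3 = 2 := fun x hx => by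
    obtain ⟨P, c, f, -, hc, hf1, hfp, -, hn⟩ := local_shape hna hG7 (by norm_num) hx
    rw [hn7'] at hn
    have e := ocnt_modEq hx 2
    rw [Nat.ModEq, h2, h72, cnum_eq] at e
    obtain rfl : c = 6 := by
      have hc' : c ∈ Nat.divisors 18 := Nat.mem_divisors.2 ⟨Dvd.intro f (by omega), by norm_num⟩
      have h2c : 2 ∣ 7 * c := by
        obtain ⟨⟨g, hg⟩⟩ := (Nat.card_ne_zero.1 (fun h0 => by rw [ocnt, h0] at e; omega)).1
        have := orderOf_dvd_natCard g
        rw [hg, show Nat.card (Subgroup.centralizer ({x} : Set G)) = 7 * c from hc] at this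
        exact this
      rw [show Nat.divisors 18 = {1, 2, 3, 6, 9, 18} by decide +kernel] at hc'
      simp only [Finset.mem_insert, Finset.mem_singleton] at hc'
      have hf : f ∈ Nat.divisors (7 - 1) := Nat.mem_divisors.2 ⟨hfp, by norm_num⟩
      rw [show Nat.divisors (7 - 1) = {1, 2, 3, 6} by decide +kernel] at hf
      simp only [Finset.mem_insert, Finset.mem_singleton] at hf
      rcases hc' with rfl | rfl | rfl | rfl | rfl | rfl <;> rcases hf with rfl | rfl | rfl | rfl <;> omega
    have hz : ∀ g : Subgroup.centralizer ({x} : Set G),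
        (⟨x, Subgroup.mem_centralizer_singleton_iff.2 rfl⟩ : Subgroup.centralizer ({x} : Set G)) * g =
          g * ⟨x, Subgroup.mem_centralizer_singleton_iff.2 rfl⟩ :=
      fun g => Subtype.ext (Subgroup.mem_centralizer_singleton_iff.1 g.2).symm
    have hC : Nat.card (Subgroup.centralizer ({x} : Set G)) = 42 := hc
    have hf2 : (Nat.card (Subgroup.centralizer ({x} : Set G))).factorization 2 = 1 :=
      fact_of (m := 21) (hC.trans (by norm_num)) (by norm_num)
    have hf3 : (Nat.card (Subgroup.centralizer ({x} : Set G))).factorization 3 = 1 :=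
      fact_of (m := 14) (hC.trans (by norm_num)) (by norm_num)
    obtain ⟨d, hd⟩ := sylow_central (p := 7) (q := 2) (by norm_num) hz ((Subgroup.orderOf_coe _).symm.trans hx) hf2
    obtain ⟨d', hd'⟩ := sylow_central (p := 7) (q := 3) (by norm_num) hz ((Subgroup.orderOf_coe _).symm.trans hx) hf3
    rw [hC] at hd hd'
    rw [ocnt_sylow hf2] at e
    have h3 := card_sylow_modEq_one 3 (Subgroup.centralizer ({x} : Set G))
    rw [Nat.ModEq] at h3
    refine ⟨hc, ?_, ?_⟩
    · rw [cnum_eq, ocnt_sylow hf2]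
      have := Nat.le_of_dvd (by norm_num : 0 < 3)
        (Dvd.intro d (by nlinarith) : Nat.card (Sylow 2 (Subgroup.centralizer ({x} : Set G))) ∣ 3)
      omega
    · rw [cnum_eq, ocnt_sylow hf3]
      have := Nat.le_of_dvd (by norm_num : 0 < 2)
        (Dvd.intro d' (by nlinarith) : Nat.card (Sylow 3 (Subgroup.centralizer ({x} : Set G))) ∣ 2)
      omega
  have L : Counts G := ⟨hG, c23, c11, fun x hx => (c7all x hx).1, n5⟩
  have c5 := five_c L
  refine ⟨L, c5, fun x hx => ?_, fun x hx => (c7all x hx).2⟩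
  -- the centralizer at 5
  set C := Subgroup.centralizer ({x} : Set G) with hCdef
  have hC : Nat.card C = 60 := c5 x hx
  set z : C := ⟨x, Subgroup.mem_centralizer_singleton_iff.2 rfl⟩
  have hz : ∀ g : C, z * g = g * z := fun g => Subtype.ext (Subgroup.mem_centralizer_singleton_iff.1 g.2).symm
  have hzo : orderOf z = 5 := (Subgroup.orderOf_coe z).symm.trans hx
  have hf3 : (Nat.card C).factorization 3 = 1 := fact_of (m := 20) (hC.trans (by norm_num)) (by norm_num)
  have hf5 : (Nat.card C).factorization 5 = 1 := fact_of (m := 12) (hC.trans (by norm_num)) (by norm_num)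
  obtain ⟨hu, hcen⟩ := central_ord hz hzo hf5
  have o5 : ocnt C 5 = 4 := by rw [ocnt_sylow hf5, hu]
  have o15 : ocnt C 15 = ocnt C 5 * ocnt C 3 :=
    ocnt_mul (p := 5) (m := 3) (a := 6) (b := 10) (by norm_num) hcen (by norm_num) (by norm_num) (by norm_num)
      (by norm_num) (by norm_num) (by norm_num) (by norm_num)
  have o10 : ocnt C 10 = ocnt C 5 * ocnt C 2 :=
    ocnt_mul (p := 5) (m := 2) (a := 6) (b := 5) (by norm_num) hcen (by norm_num) (by norm_num) (by norm_num)
      (by norm_num) (by norm_num) (by norm_num) (by norm_num)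
  obtain ⟨d, hd⟩ := sylow_central (p := 5) (q := 3) (by norm_num) hz hzo hf3
  rw [hC] at hd
  have hs := ocnt_sylow hf3
  have hs1 := card_sylow_modEq_one 3 C
  rw [Nat.ModEq] at hs1
  have hle := Nat.le_of_dvd (by norm_num : 0 < 4) (Dvd.intro d (by nlinarith) : Nat.card (Sylow 3 C) ∣ 4)
  have o3 : ocnt C 3 = 8 := by
    by_contra hne
    have o15' : ocnt C 15 = 8 := by rw [o15, o5]; omega
    have e := ocnt_modEq hx 15
    rw [Nat.ModEq, cnum_eq, ← hCdef, o15'] at e
    obtain ⟨k, hk⟩ := value_mem hnse (n := 15) (by omega)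
    obtain ⟨y, hy⟩ := exists_prime_orderOf_dvd_card' (G := G) 7 (by rw [hG]; norm_num)
    have e' := ocnt_modEq hy 15
    have h0 : cnum y 15 = 0 := by
      rw [cnum_eq]
      refine Nat.card_eq_zero.2 (Or.inl ⟨fun g => ?_⟩)
      have := orderOf_dvd_natCard g.1
      rw [g.2, show Nat.card (Subgroup.centralizer ({y} : Set G)) = 42 from (c7all y hy).1] at this
      norm_num at this
    rw [Nat.ModEq, h0] at e'
    rcases (h5M k).2 (by omega) with rfl | rfl <;> omega
  have o1 : ocnt C 1 = 1 := by simp [ocnt, orderOf_eq_one_iff]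
  have hsum := sum_ocnt_le (G := C) {1, 2, 3, 5, 10, 15}
  simp only [Finset.sum_insert, Finset.mem_insert, Finset.mem_singleton, Finset.sum_singleton, not_false_eq_true,
    OfNat.ofNat_ne_one, OfNat.one_ne_ofNat, or_self, show (2 : ℕ) ≠ 3 by norm_num, show (2 : ℕ) ≠ 5 by norm_num,
    show (2 : ℕ) ≠ 10 by norm_num, show (2 : ℕ) ≠ 15 by norm_num, show (3 : ℕ) ≠ 5 by norm_num,
    show (3 : ℕ) ≠ 10 by norm_num, show (3 : ℕ) ≠ 15 by norm_num, show (5 : ℕ) ≠ 10 by norm_num,
    show (5 : ℕ) ≠ 15 by norm_num, show (10 : ℕ) ≠ 15 by norm_num, o1, o5, o10, o15, o3, hC] at hsum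
  have e2 := ocnt_modEq hx 2
  rw [Nat.ModEq, h2, h52, cnum_eq, ← hCdef] at e2
  have o2 : ocnt C 2 = 3 := by omega
  exact ⟨(cnum_eq x 2).trans o2, (cnum_eq x 3).trans o3⟩

end Main

end Cfsg.Agent.Fus.M24Nse
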